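import Cfsg.Agent.Lib.Forms.Max.UnitFrame.Local

/-!
# Elements supported on a suitable set of frame vectors are monomial

Two involutions, a sign change of four vectors and a conjugate of a sign change of two vectors, generate a
dihedral group whose central involution transfers monomiality to the conjugating element.
-/

set_option autoImplicit false
set_option linter.unusedSectionVars false

namespace Cfsg.Agent.Forms.Max.UnitFrame

open Matrix Cfsg.Agent.Forms.QuadStd Cfsg.Agent.Forms.Reflections Cfsg.Agent.Classical.Orth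

/-- two involutions are conjugate, or there is a central involution with control over its root -/
theorem dihedral {G : Type*} [Group G] [Finite G] {e f : G} (he : e * e = 1) (hf : f * f = 1) :
    (∃ u ∈ Subgroup.closure {e, f}, e = u * f * u⁻¹) ∨
    ∃ d ∈ Subgroup.closure {e, f}, ∃ u ∈ Subgroup.closure {e, f}, d * d = 1 ∧ d ≠ 1 ∧ d * e = e * d ∧
      d * f = f * d ∧ (u * f * u⁻¹ = d * f ∨ u * (d * f) * u⁻¹ = e) := by
  set D := Subgroup.closure {e, f} with hD
  have hfD : f ∈ D := Subgroup.subset_closure (by simp)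
  set z := e * f with hz
  have hzD : z ∈ D := mul_mem (Subgroup.subset_closure (by simp)) hfD
  have hfi : f⁻¹ = f := inv_eq_of_mul_eq_one_left hf
  have hei : e⁻¹ = e := inv_eq_of_mul_eq_one_left he
  have hfz1 : f * z = z⁻¹ * f := by rw [hz, _root_.mul_inv_rev, hfi, hei, mul_assoc]
  have hfz : ∀ k : ℕ, f * z ^ k = (z ^ k)⁻¹ * f := by
    intro k
    induction k with
    | zero => simp
    | succ k ih =>
      conv_lhs => rw [pow_succ', ← mul_assoc, hfz1, mul_assoc, ih, ← mul_assoc, ← _root_.mul_inv_rev, ← pow_succ]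
  have hconj : ∀ k j : ℕ, z ^ k * (z ^ j * f) * (z ^ k)⁻¹ = z ^ (2 * k + j) * f := by
    intro k j
    have h1 : f * (z ^ k)⁻¹ = z ^ k * f := by
      rw [eq_comm, eq_mul_inv_iff_mul_eq, mul_assoc, hfz, mul_inv_cancel_left]
    rw [mul_assoc, mul_assoc (z ^ j), h1, ← mul_assoc, ← mul_assoc, ← pow_add, ← pow_add]
    congr 2
    omega
  have hef : z * f = e := by rw [hz, mul_assoc, hf, mul_one]
  have hpos : 0 < orderOf z := orderOf_pos z
  rcases Nat.even_or_odd' (orderOf z) with ⟨h, hh | hh⟩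
  · refine Or.inr ⟨z ^ h, pow_mem hzD h, ?_⟩
    have hd2 : z ^ h * z ^ h = 1 := by rw [← pow_add, ← two_mul, ← hh, pow_orderOf_eq_one]
    have hd1 : z ^ h ≠ 1 := fun e1 => by
      have := Nat.le_of_dvd (by omega) (orderOf_dvd_of_pow_eq_one e1)
      omega
    have hdf : z ^ h * f = f * z ^ h := by rw [hfz, inv_eq_of_mul_eq_one_left hd2]
    have hde : z ^ h * e = e * z ^ h := by
      rw [← hef, ← mul_assoc, ← pow_succ, pow_succ', mul_assoc, hdf, ← mul_assoc]
    rcases Nat.even_or_odd' h with ⟨r, hr | hr⟩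
    · refine ⟨z ^ r, pow_mem hzD r, hd2, hd1, hde, hdf, Or.inl ?_⟩
      have := hconj r 0
      rw [pow_zero, one_mul, add_zero] at this
      rw [this, hr]
    · refine ⟨z ^ (r + 1), pow_mem hzD _, hd2, hd1, hde, hdf, Or.inr ?_⟩
      rw [hconj, show 2 * (r + 1) + h = orderOf z + 1 by omega, pow_succ, pow_orderOf_eq_one, one_mul, hef]
  · refine Or.inl ⟨z ^ (h + 1), pow_mem hzD _, ?_⟩
    have := hconj (h + 1) 0
    rw [pow_zero, one_mul, add_zero] at this
    rw [this, show 2 * (h + 1) = orderOf z + 1 by omega, pow_succ, pow_orderOf_eq_one, one_mul, hef]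

/-- size of a symmetric difference -/
theorem card_symmDiff' {α : Type*} [DecidableEq α] (A A' : Finset α) :
    (symmDiff A A').card + 2 * (A ∩ A').card = A.card + A'.card := by
  rw [symmDiff_def, Finset.sup_eq_union, Finset.card_union_of_disjoint disjoint_sdiff_sdiff]
  have h1 := Finset.card_sdiff_add_card_inter A A'
  have h2 := Finset.card_sdiff_add_card_inter A' A
  rw [Finset.inter_comm A' A] at h2
  omega

variable {F : Type*} [Field F] [Fintype F] {ι : Type} [Fintype ι] [DecidableEq ι] {n : ℕ}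
variable {Q : QuadraticForm F (ι → F)} {S : Setup Q n}

set_option quotPrecheck false in
local notation "Iso" => Cfsg.isometryGroup F ⇑Q

namespace Setup

variable {T : Finset (Fin n)}

theorem eps_GT_subset {A : Finset (Fin n)} (h : S.eps A ∈ S.GT T) : A ⊆ T := fun i hi => by
  by_contra hiT
  have := S.img_eps_eq_self.1 (GT.col_out h hiT) i hi
  rw [Pi.single_eq_same] at this
  exact one_ne_zero this

/-- conjugates of small sign changes are monomial only for monomial conjugators -/
theorem conj_mon (hT : Fit S T) {g : Iso} (hg : g ∈ S.GT T) {A : Finset (Fin n)} (hA : A ⊆ T)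
    (hA24 : A.card = 2 ∨ A.card = 4) (hx : S.Mon (g * S.eps A * g⁻¹)) : S.Mon g := by
  classical
  by_contra hng
  have hgi : g⁻¹ ∈ S.GT T := inv_mem hg
  have hgood2 : ∀ {X : Finset (Fin n)}, X.card = 2 → Good T X.card := fun h => Or.inl h
  have hgood4 : ∀ {X : Finset (Fin n)}, X.card = 2 ∨ X.card = 4 → Good T X.card := fun h =>
    h.elim Or.inl (fun h => Or.inr (Or.inl h))
  have heven : ∀ {X : Finset (Fin n)}, X.card = 2 ∨ X.card = 4 → Even X.card := fun h => by
    rcases h with h | h <;> rw [h] <;> decide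
  have noCarry : ∀ (X X' : Finset (Fin n)), X ⊆ T → (X.card = 2 ∨ X.card = 4) →
      g⁻¹ * S.eps X * g ≠ S.eps X' := by
    intro X X' hX hc e
    refine hng ?_
    have := (carry_mon hT hgi hX (hgood4 hc) (A' := X') (by rw [← e]; group)).inv
    rwa [inv_inv] at this
  have noCarry' : ∀ (X X' : Finset (Fin n)), X ⊆ T → (X.card = 2 ∨ X.card = 4) →
      g * S.eps X * g⁻¹ ≠ S.eps X' := fun X X' hX hc e =>
    hng (carry_mon hT hg hX (hgood4 hc) (A' := X') (by rw [← e]; group))
  set x := g * S.eps A * g⁻¹ with hxdef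
  have hxT : x ∈ S.GT T := mul_mem (mul_mem hg (eps_mem_GT hA (heven hA24))) hgi
  -- the permutation of the monomial involution moves a point
  obtain ⟨p, hp⟩ := S.mon_exists_perm hx
  have permT : ∀ {y : Iso} {π : Equiv.Perm (Fin n)}, y ∈ S.GT T → S.IsPerm y π → ∀ i, i ∉ T → π i = i := by
    intro y π hy hπ i hi
    obtain ⟨a, -, ha⟩ := hπ i
    rw [GT.col_out hy hi] at ha
    by_contra hne
    have := congrFun ha i
    simp [Ne.symm hne] at this
  have permInv : ∀ {y : Iso} {π : Equiv.Perm (Fin n)}, y * y = 1 → S.IsPerm y π → ∀ i, π (π i) = i := by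
    intro y π hy hπ i
    have h1 : π * π = 1 := (hπ.mul hπ).unique (hy.symm ▸ IsPerm.one)
    rw [← Equiv.Perm.mul_apply, h1]; rfl
  have hx2 : x * x = 1 := by
    rw [hxdef, show g * S.eps A * g⁻¹ * (g * S.eps A * g⁻¹) = g * (S.eps A * S.eps A) * g⁻¹ by group, eps_sq]
    group
  obtain ⟨a, ha⟩ : ∃ a, p a ≠ a := by
    by_contra hc
    push Not at hc
    obtain ⟨X, hX⟩ := IsPerm.eq_eps (S := S) ((Equiv.ext hc : p = 1) ▸ hp)
    exact noCarry' A X hA hA24 hX
  have haT : a ∈ T := by by_contra h; exact ha (permT hxT hp a h)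
  have hpaT : p a ∈ T := by
    by_contra h
    have := permT hxT hp _ h
    exact ha (p.injective this)
  set P : Finset (Fin n) := {a, p a} with hP
  have hPc : P.card = 2 := Finset.card_pair (Ne.symm ha)
  have hPT : P ⊆ T := by
    intro i hi; simp [hP] at hi; rcases hi with rfl | rfl <;> assumption
  have hPx : x * S.eps P = S.eps P * x := by
    have := S.conj_eps hp P
    rw [show P.map p.toEmbedding = P by
      rw [hP, Finset.map_insert, Finset.map_singleton]
      simp only [Equiv.coe_toEmbedding, permInv hx2 hp]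
      exact Finset.pair_comm _ _] at this
    rwa [mul_inv_eq_iff_eq_mul] at this
  -- the transported involution
  set h := g⁻¹ * S.eps P * g with hhdef
  have hhT : h ∈ S.GT T := mul_mem (mul_mem hgi (eps_mem_GT hPT (by rw [hPc]; exact even_two))) hg
  have hhm : S.Mon h := good_mon hT hhT hA (hgood4 hA24) (by
    have e : S.eps A = g⁻¹ * x * g := by rw [hxdef]; group
    rw [hhdef, e, show g⁻¹ * S.eps P * g * (g⁻¹ * x * g) = g⁻¹ * (S.eps P * x) * g by group,
      show g⁻¹ * x * g * (g⁻¹ * S.eps P * g) = g⁻¹ * (x * S.eps P) * g by group, hPx])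
  obtain ⟨π, hπ⟩ := S.mon_exists_perm hhm
  have hh2 : h * h = 1 := by
    rw [hhdef, show g⁻¹ * S.eps P * g * (g⁻¹ * S.eps P * g) = g⁻¹ * (S.eps P * S.eps P) * g by group, eps_sq]
    group
  have hπi := permInv hh2 hπ
  obtain ⟨c, hc⟩ : ∃ c, π c ≠ c := by
    by_contra hc
    push Not at hc
    obtain ⟨X, hX⟩ := IsPerm.eq_eps (S := S) ((Equiv.ext hc : π = 1) ▸ hπ)
    exact noCarry P X hPT (Or.inl hPc) hX
  have hmovT : ∀ i, π i ≠ i → i ∈ T ∧ π i ∈ T := fun i hi =>
    ⟨by by_contra h; exact hi (permT hhT hπ i h),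
     by by_contra h; exact hi (π.injective (permT hhT hπ _ h))⟩
  have hm := hT.card
  -- two invariant pairs
  obtain ⟨q₁, q₂, hq1, hq2, hq1T, hq2T, hdis, hinv1, hinv2⟩ : ∃ q₁ q₂ : Finset (Fin n), q₁.card = 2 ∧ q₂.card = 2 ∧
      q₁ ⊆ T ∧ q₂ ⊆ T ∧ Disjoint q₁ q₂ ∧ q₁.map π.toEmbedding = q₁ ∧ q₂.map π.toEmbedding = q₂ := by
    have hpairmap : ∀ i, ({i, π i} : Finset (Fin n)).map π.toEmbedding = {i, π i} := fun i => by
      rw [Finset.map_insert, Finset.map_singleton]
      simp only [Equiv.coe_toEmbedding, hπi]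
      exact Finset.pair_comm _ _
    have hcT := hmovT c hc
    by_cases hd : ∃ d, π d ≠ d ∧ d ≠ c ∧ d ≠ π c
    · obtain ⟨d, hd1, hd2, hd3⟩ := hd
      have hdT := hmovT d hd1
      refine ⟨{c, π c}, {d, π d}, Finset.card_pair (Ne.symm hc), Finset.card_pair (Ne.symm hd1), ?_, ?_, ?_,
        hpairmap c, hpairmap d⟩
      · intro i hi; simp at hi; rcases hi with rfl | rfl; exacts [hcT.1, hcT.2]
      · intro i hi; simp at hi; rcases hi with rfl | rfl; exacts [hdT.1, hdT.2]
      · rw [Finset.disjoint_left]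
        intro i hi hi'
        simp at hi hi'
        rcases hi with rfl | rfl <;> rcases hi' with e | e
        · exact hd2 e.symm
        · exact hd3 (by rw [e, hπi])
        · exact hd3 e.symm
        · exact hd2 (π.injective e).symm
    · push Not at hd
      obtain ⟨i, hi, j, hj, hij⟩ := Finset.one_lt_card.1 (show 1 < ((T.erase c).erase (π c)).card by
        rw [Finset.card_erase_of_mem (Finset.mem_erase.2 ⟨hc, hcT.2⟩), Finset.card_erase_of_mem hcT.1]
        omega)
      simp only [Finset.mem_erase] at hi hj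
      have hfix : ∀ k, k ≠ c → k ≠ π c → π k = k := fun k h1 h2 => by
        by_contra h3; exact h2 (hd k h3 h1)
      refine ⟨{c, π c}, {i, j}, Finset.card_pair (Ne.symm hc), Finset.card_pair hij, ?_, ?_, ?_, hpairmap c, ?_⟩
      · intro k hk; simp at hk; rcases hk with rfl | rfl; exacts [hcT.1, hcT.2]
      · intro k hk; simp at hk; rcases hk with rfl | rfl; exacts [hi.2.2, hj.2.2]
      · rw [Finset.disjoint_left]
        intro k hk hk'
        simp at hk hk'
        rcases hk with rfl | rfl <;> rcases hk' with e | e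
        exacts [hi.2.1 e.symm, hj.2.1 e.symm, hi.1 e.symm, hj.1 e.symm]
      · rw [Finset.map_insert, Finset.map_singleton]
        simp only [Equiv.coe_toEmbedding, hfix i hi.2.1 hi.1, hfix j hj.2.1 hj.1]
  have hcomm : ∀ {q : Finset (Fin n)}, q.map π.toEmbedding = q → h * S.eps q = S.eps q * h := fun {q} hq => by
    have := S.conj_eps hπ q
    rwa [hq, mul_inv_eq_iff_eq_mul] at this
  let qs : Fin 3 → Finset (Fin n) := ![q₁, q₂, q₁ ∪ q₂]
  have hqc : ∀ k, (qs k).card = 2 ∨ (qs k).card = 4 := by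
    intro k
    fin_cases k
    · exact Or.inl hq1
    · exact Or.inl hq2
    · right; show (q₁ ∪ q₂).card = 4; rw [Finset.card_union_of_disjoint hdis, hq1, hq2]
  have hqT : ∀ k, qs k ⊆ T := by
    intro k
    fin_cases k
    exacts [hq1T, hq2T, Finset.union_subset hq1T hq2T]
  set b : Fin 3 → Iso := fun k => g * S.eps (qs k) * g⁻¹ with hb
  have hbT : ∀ k, b k ∈ S.GT T := fun k => mul_mem (mul_mem hg (eps_mem_GT (hqT k) (heven (hqc k)))) hgi
  have hb3 : b 2 = b 0 * b 1 := by
    show g * S.eps (q₁ ∪ q₂) * g⁻¹ = g * S.eps q₁ * g⁻¹ * (g * S.eps q₂ * g⁻¹)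
    rw [show g * S.eps q₁ * g⁻¹ * (g * S.eps q₂ * g⁻¹) = g * (S.eps q₁ * S.eps q₂) * g⁻¹ by group, eps_mul,
      hdis.symmDiff_eq_sup]
    rfl
  have hbm01 : ∀ q : Finset (Fin n), q ⊆ T → q.card = 2 → q.map π.toEmbedding = q → S.Mon (g * S.eps q * g⁻¹) := by
    intro q hq hqc' hqi
    refine good_mon hT (mul_mem (mul_mem hg (eps_mem_GT hq (by rw [hqc']; exact even_two))) hgi) hPT (hgood2 hPc) ?_
    have e : S.eps P = g * h * g⁻¹ := by rw [hhdef]; group
    rw [e, show g * S.eps q * g⁻¹ * (g * h * g⁻¹) = g * (S.eps q * h) * g⁻¹ by group,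
      show g * h * g⁻¹ * (g * S.eps q * g⁻¹) = g * (h * S.eps q) * g⁻¹ by group, hcomm hqi]
  have hbm : ∀ k, S.Mon (b k) := by
    have h0 : S.Mon (b 0) := hbm01 q₁ hq1T hq1 hinv1
    have h1 : S.Mon (b 1) := hbm01 q₂ hq2T hq2 hinv2
    intro k
    fin_cases k
    exacts [h0, h1, hb3 ▸ h0.mul h1]
  choose s hs using fun k => S.mon_exists_perm (hbm k)
  have hb2 : ∀ k, b k * b k = 1 := fun k => by
    rw [hb, show g * S.eps (qs k) * g⁻¹ * (g * S.eps (qs k) * g⁻¹) = g * (S.eps (qs k) * S.eps (qs k)) * g⁻¹ by group,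
      eps_sq]
    group
  have hsi : ∀ k i, s k (s k i) = i := fun k => permInv (hb2 k) (hs k)
  have hsT : ∀ k, ∀ i ∈ T, s k i ∈ T := fun k i hi => by
    by_contra hn
    have h1 := hsi k i
    rw [permT (hbT k) (hs k) _ hn] at h1
    exact hn (h1.symm ▸ hi)
  have hb01 : b 0 * b 1 = b 1 * b 0 := by
    rw [hb, show g * S.eps (qs 0) * g⁻¹ * (g * S.eps (qs 1) * g⁻¹) = g * (S.eps (qs 0) * S.eps (qs 1)) * g⁻¹ by group,
      show g * S.eps (qs 1) * g⁻¹ * (g * S.eps (qs 0) * g⁻¹) = g * (S.eps (qs 1) * S.eps (qs 0)) * g⁻¹ by group,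
      eps_comm]
  have hs3 : s 2 = s 0 * s 1 := (IsPerm.unique (S := S) (hs 2)) (hb3 ▸ IsPerm.mul (S := S) (hs 0) (hs 1))
  have hs01 : s 0 * s 1 = s 1 * s 0 :=
    (IsPerm.mul (S := S) (hs 0) (hs 1)).unique (hb01 ▸ IsPerm.mul (S := S) (hs 1) (hs 0))
  refine three_involutions T (by omega) (fun k => s k) hsT hsi (fun i => by rw [hs3]; rfl)
    (fun i => Equiv.congr_fun hs01 i) (fun k => ?_) fun j k _ i hi i' hi' hne hpair => ?_
  · by_contra hcon
    push Not at hcon
    have : s k = 1 := Equiv.ext fun i => by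
      by_cases hi : i ∈ T
      · exact hcon i hi
      · exact permT (hbT k) (hs k) i hi
    obtain ⟨X, hX⟩ := IsPerm.eq_eps (S := S) (this ▸ hs k)
    exact noCarry' (qs k) X (hqT k) (hqc k) hX
  · by_contra hcon
    set r : Finset (Fin n) := {i, i'} with hr
    set r' : Finset (Fin n) := {s k i, s k i'} with hr'
    have hrT : r ⊆ T := by
      intro m hm; simp [hr] at hm; rcases hm with rfl | rfl <;> assumption
    have hrc : r.card = 2 := Finset.card_pair hne
    have hrj : b j * S.eps r = S.eps r * b j := by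
      have := S.conj_eps (hs j) r
      rw [show r.map (s j).toEmbedding = r by
        rw [hr, Finset.map_insert, Finset.map_singleton]; simpa using hpair] at this
      rwa [mul_inv_eq_iff_eq_mul] at this
    set hr0 := g⁻¹ * S.eps r * g with hhr0
    have hr0m : S.Mon hr0 := good_mon hT
      (mul_mem (mul_mem hgi (eps_mem_GT hrT (by rw [hrc]; exact even_two))) hg) (hqT j) (hgood4 (hqc j)) (by
      have e : S.eps (qs j) = g⁻¹ * b j * g := by rw [hb]; group
      rw [hhr0, e, show g⁻¹ * S.eps r * g * (g⁻¹ * b j * g) = g⁻¹ * (S.eps r * b j) * g by group,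
        show g⁻¹ * b j * g * (g⁻¹ * S.eps r * g) = g⁻¹ * (b j * S.eps r) * g by group, hrj])
    obtain ⟨Q', -, hQ'⟩ := S.mon_conj_eps hr0m (qs k)
    have hmap : b k * S.eps r * (b k)⁻¹ = S.eps r' := by
      rw [S.conj_eps (hs k) r]
      congr 1
      rw [hr, hr', Finset.map_insert, Finset.map_singleton]; rfl
    have key : g⁻¹ * S.eps (symmDiff r r') * g = S.eps (symmDiff Q' (qs k)) := by
      rw [← eps_mul, ← eps_mul, ← hmap, ← hQ', hhr0, hb]
      simp only [_root_.mul_inv_rev, inv_inv, eps_inv]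
      group
    have hr'T : r' ⊆ T := by
      intro m hm; simp [hr'] at hm; rcases hm with rfl | rfl <;> exact hsT k _ (by assumption)
    have hr'c : r'.card = 2 := Finset.card_pair (fun e => hne ((s k).injective e))
    refine noCarry _ _ (fun m hm => ?_) ?_ key
    · rcases Finset.mem_symmDiff.1 hm with h | h
      exacts [hrT h.1, hr'T h.1]
    · have h1 := card_symmDiff' r r'
      have h2 : (r ∩ r').card ≤ 1 := by
        by_contra h3
        have h4 : r ∩ r' = r := Finset.eq_of_subset_of_card_le Finset.inter_subset_left (by omega)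
        have h5 : r ∩ r' = r' := Finset.eq_of_subset_of_card_le Finset.inter_subset_right (by omega)
        exact hcon (h5.symm.trans h4)
      omega

/-- no element supported on a suitable set is non-monomial -/
theorem trick (hT : Fit S T) {g : Iso} (hg : g ∈ S.GT T) : S.Mon g := by
  classical
  by_contra hng
  have hgi : g⁻¹ ∈ S.GT T := inv_mem hg
  have hm := hT.card
  -- the shared vector is unique
  let Sh : Finset (Fin n) := T.filter fun k => ∃ i ∈ T, ∃ a : F, S.img g (Pi.single i 1) = a • Pi.single k 1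
  have hSh : Sh.card ≤ 1 := by
    refine Finset.card_le_one.2 fun k hk k' hk' => ?_
    by_contra hne
    simp only [Sh, Finset.mem_filter] at hk hk'
    obtain ⟨-, i, hiT, a, ha⟩ := hk
    obtain ⟨-, i', hiT', a', ha'⟩ := hk'
    have hii : i ≠ i' := by
      rintro rfl
      have := congrFun (ha.symm.trans ha') k
      simp [hne] at this
      have h1 := S.col_sq ha
      simp [this] at h1
    refine hng (carry_mon hT hg (A := {i, i'}) (A' := {k, k'}) ?_ (Or.inl (Finset.card_pair hii)) ?_)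
    · intro m hm; simp at hm; rcases hm with rfl | rfl <;> assumption
    · refine S.ext_e fun m => ?_
      by_cases hmi : m = i
      · subst hmi
        simp [act_mul, act_eps, S.act_e_of ha]
      by_cases hmi' : m = i'
      · subst hmi'
        simp [act_mul, act_eps, S.act_e_of ha']
      rw [act_mul, act_mul, act_eps, if_neg (by simp [hmi, hmi']), act_e, ← vec_img,
        S.img_eps_eq_self.2 fun z hz => ?_]
      have hzero : ∀ {j l : Fin n} {b : F}, j ≠ m → S.img g (Pi.single j 1) = b • Pi.single l 1 →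
          S.img g (Pi.single m 1) l = 0 := fun {j l b} hjm hb => by
        have h1 := S.col_dot g m j
        rw [if_neg (Ne.symm hjm), hb, dot, Finset.sum_eq_single l (fun q _ hq => by simp [hq])
          (fun hh => absurd (Finset.mem_univ _) hh)] at h1
        have h2 := S.col_sq hb
        simp only [Pi.smul_apply, Pi.single_eq_same, smul_eq_mul, mul_one] at h1
        exact (mul_eq_zero.1 h1).resolve_right fun e => by rw [e, mul_zero] at h2; exact zero_ne_one h2
      simp at hz
      rcases hz with rfl | rfl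
      exacts [hzero (Ne.symm hmi) ha, hzero (Ne.symm hmi') ha']
  obtain ⟨S₀, hS0, hS0T, hS0c⟩ := Finset.exists_subsuperset_card_eq (s := Sh) (t := T) (n := 4)
    (Finset.filter_subset _ _) (by omega) (by omega)
  obtain ⟨S₁, hS1T, hS1c⟩ := Finset.exists_subset_card_eq (show 2 ≤ T.card by omega)
  set e := S.eps S₀ with he
  set f := g * S.eps S₁ * g⁻¹ with hfdef
  have heT : e ∈ S.GT T := eps_mem_GT hS0T (by rw [hS0c]; decide)
  have hfT : f ∈ S.GT T := mul_mem (mul_mem hg (eps_mem_GT hS1T (by rw [hS1c]; exact even_two))) hgi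
  have hf2 : f * f = 1 := by
    rw [hfdef, show g * S.eps S₁ * g⁻¹ * (g * S.eps S₁ * g⁻¹) = g * (S.eps S₁ * S.eps S₁) * g⁻¹ by group, eps_sq]
    group
  have hcl : Subgroup.closure {e, f} ≤ S.GT T := (Subgroup.closure_le _).2 (by
    intro y hy; simp at hy; rcases hy with rfl | rfl <;> assumption)
  rcases dihedral (S.eps_sq S₀) hf2 with ⟨u, -, hu⟩ | ⟨d, hdD, u, huD, hd2, hd1, hde, hdf, hu⟩
  · have := eps_card_eq (g := u * g) (A := S₁) (A' := S₀) (by rw [hu, hfdef]; group)
    omega
  have hdT := hcl hdD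
  have huT := hcl huD
  have hdm : S.Mon d := good_mon hT hdT hS0T (Or.inr (Or.inl hS0c)) hde
  set d' := g⁻¹ * d * g with hd'
  have hd'T : d' ∈ S.GT T := mul_mem (mul_mem hgi hdT) hg
  have hd'c : d' * S.eps S₁ = S.eps S₁ * d' := by
    have e1 : S.eps S₁ = g⁻¹ * f * g := by rw [hfdef]; group
    rw [hd', e1, show g⁻¹ * d * g * (g⁻¹ * f * g) = g⁻¹ * (d * f) * g by group,
      show g⁻¹ * f * g * (g⁻¹ * d * g) = g⁻¹ * (f * d) * g by group, hdf]
  have hd'm : S.Mon d' := good_mon hT hd'T hS1T (Or.inl hS1c) hd'c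
  have hdf' : g⁻¹ * (d * f) * g = d' * S.eps S₁ := by rw [hfdef, hd']; group
  have hsub : ∀ {X : Finset (Fin n)}, d' = S.eps X → X ⊆ T ∧ X.Nonempty := by
    intro X hX
    refine ⟨eps_GT_subset (hX ▸ hd'T), Finset.nonempty_iff_ne_empty.2 fun h0 => ?_⟩
    rw [h0, eps_empty] at hX
    exact hd1 (by rw [show d = g * d' * g⁻¹ by rw [hd']; group, hX]; group)
  have hfinish : ∀ {X : Finset (Fin n)}, d' = S.eps X → X.card = 2 ∨ X.card = 4 → False := by
    intro X hX hc
    refine hng (conj_mon hT hg (hsub hX).1 hc ?_)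
    rw [← hX, show g * d' * g⁻¹ = d by rw [hd']; group]
    exact hdm
  rcases hu with hu | hu
  · have hwT : g⁻¹ * u * g ∈ S.GT T := mul_mem (mul_mem hgi huT) hg
    have hw : g⁻¹ * u * g * S.eps S₁ * (g⁻¹ * u * g)⁻¹ = d' * S.eps S₁ := by
      rw [← hdf', ← hu, hfdef]; group
    have hwm := conj_mon hT hwT hS1T (Or.inl hS1c) (hw ▸ hd'm.mul (S.eps_mon S₁))
    obtain ⟨X', hX'c, hX'⟩ := S.mon_conj_eps hwm S₁
    have hX : d' = S.eps (symmDiff X' S₁) := by rw [← eps_mul, ← hX', hw, mul_assoc, eps_sq, mul_one]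
    refine hfinish hX ?_
    have h1 := card_symmDiff' X' S₁
    have h2 := (hsub hX).2.card_pos
    omega
  · have hvT : g⁻¹ * u⁻¹ ∈ S.GT T := mul_mem hgi (inv_mem huT)
    have hv : g⁻¹ * u⁻¹ * S.eps S₀ * (g⁻¹ * u⁻¹)⁻¹ = d' * S.eps S₁ := by
      rw [← hdf', ← hu]; group
    have hvm := conj_mon hT hvT hS0T (Or.inr hS0c) (hv ▸ hd'm.mul (S.eps_mon S₁))
    obtain ⟨X₀, hX₀c, hX₀⟩ := S.mon_conj_eps hvm S₀
    have hX : d' = S.eps (symmDiff X₀ S₁) := by rw [← eps_mul, ← hX₀, hv, mul_assoc, eps_sq, mul_one]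
    set X := symmDiff X₀ S₁ with hXdef
    have h1 := card_symmDiff' X₀ S₁
    have h2 := (hsub hX).2.card_pos
    rw [← hXdef] at h1
    have hX6 : X.card = 6 := by
      by_contra hne
      exact hfinish hX (by omega)
    -- the same on the other side
    have huf : u * g * S.eps S₁ * (u * g)⁻¹ = d * e := by
      have hud : u * d = d * u := by
        have : ∀ y ∈ Subgroup.closure {S.eps S₀, f}, y * d = d * y := fun y hy => by
          induction hy using Subgroup.closure_induction with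
          | mem y hy => simp at hy; rcases hy with rfl | rfl; exacts [hde.symm, hdf.symm]
          | one => simp
          | mul a b _ _ ha hb => rw [mul_assoc, hb, ← mul_assoc, ha, mul_assoc]
          | inv a _ ha => exact ((show Commute a d from ha).inv_left).eq
        exact this u huD
      rw [show u * g * S.eps S₁ * (u * g)⁻¹ = u * f * u⁻¹ by rw [hfdef]; group]
      calc u * f * u⁻¹ = u * (d * d) * f * u⁻¹ := by rw [hd2, mul_one]
        _ = u * d * (d * f) * u⁻¹ := by simp only [mul_assoc]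
        _ = d * (u * (d * f) * u⁻¹) := by rw [hud]; simp only [mul_assoc]
        _ = d * e := by rw [hu]
    have hugm := conj_mon hT (mul_mem huT hg) hS1T (Or.inl hS1c) (huf ▸ hdm.mul (S.eps_mon S₀))
    obtain ⟨Y₀, hY₀c, hY₀⟩ := S.mon_conj_eps hugm S₁
    have hY : d = S.eps (symmDiff Y₀ S₀) := by rw [← eps_mul, ← hY₀, huf, mul_assoc, he, eps_sq, mul_one]
    set Y := symmDiff Y₀ S₀ with hYdef
    have hgXY : g * S.eps X = S.eps Y * g := by rw [← hX, ← hY, hd']; group
    have hY6 : Y.card = 6 := by rw [← eps_card_eq hgXY, hX6]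
    rcases Nat.lt_or_ge T.card 9 with h9 | h9
    swap
    · exact hng (carry_mon hT hg (hsub hX).1 (Or.inr (Or.inr ⟨hX6, h9⟩)) hgXY)
    have hle := Finset.card_le_card (hsub hX).1
    have hYT : Y ⊆ T := eps_GT_subset (hY ▸ hdT)
    have hT7 : T.card = 7 := by omega
    obtain ⟨i₀, hi₀⟩ := Finset.card_eq_one.1 (show (T \ X).card = 1 by
      rw [Finset.card_sdiff_of_subset (hsub hX).1]; omega)
    obtain ⟨k₀, hk₀⟩ := Finset.card_eq_one.1 (show (T \ Y).card = 1 by
      rw [Finset.card_sdiff_of_subset hYT]; omega)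
    have hi₀' : i₀ ∈ T \ X := hi₀ ▸ Finset.mem_singleton_self i₀
    have hk₀' : k₀ ∈ T \ Y := hk₀ ▸ Finset.mem_singleton_self k₀
    rw [Finset.mem_sdiff] at hi₀' hk₀'
    have hz := supp_out hgXY (x := Pi.single i₀ 1)
      (fun m hm => Pi.single_eq_of_ne (fun e1 : m = i₀ => hi₀'.2 (e1 ▸ hm)) 1)
    have hcol : S.img g (Pi.single i₀ 1) = S.img g (Pi.single i₀ 1) k₀ • Pi.single k₀ 1 := by
      refine single_of_supp (supp_subset_iff.2 fun m hm => ?_)
      rw [Finset.mem_singleton] at hm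
      by_cases hmT : m ∈ T
      · refine hz m ?_
        by_contra hmY
        have : m ∈ T \ Y := Finset.mem_sdiff.2 ⟨hmT, hmY⟩
        rw [hk₀, Finset.mem_singleton] at this
        exact hm this
      · rw [GT.zero_out hg hmT, Pi.single_eq_of_ne (fun e1 : m = i₀ => hmT (e1 ▸ hi₀'.1))]
    have hk₀S : k₀ ∈ S₀ := hS0 (Finset.mem_filter.2 ⟨hk₀'.1, i₀, hi₀'.1, _, hcol⟩)
    refine hk₀'.2 (Finset.mem_symmDiff.2 (Or.inr ⟨hk₀S, fun hk => ?_⟩))
    have h4 := card_symmDiff' Y₀ S₀
    rw [← hYdef] at h4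
    have h6 : 0 < (Y₀ ∩ S₀).card := Finset.card_pos.2 ⟨k₀, Finset.mem_inter.2 ⟨hk, hk₀S⟩⟩
    omega

end Setup

end Cfsg.Agent.Forms.Max.UnitFrame
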