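import Cfsg.Agent.Lib.Forms.Max.UnitFrame.Basic

/-!
# Supports of unit vectors and monomial isometries
-/

set_option autoImplicit false
set_option linter.unusedSectionVars false

namespace Cfsg.Agent.Forms.Max.UnitFrame

open Matrix Cfsg.Agent.Forms.QuadStd Cfsg.Agent.Forms.Reflections Cfsg.Agent.Classical.Orth

variable {F : Type*} [Field F] [Fintype F] {ι : Type} [Fintype ι] [DecidableEq ι]

/-- the non-zero coordinates -/
noncomputable def supp {n : ℕ} (x : Fin n → F) : Finset (Fin n) := by
  classical exact Finset.univ.filter fun i => x i ≠ 0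

/-- not a multiple of one or of the sum or difference of two frame vectors -/
def Nontriv {n : ℕ} (x : Fin n → F) : Prop :=
  3 ≤ (supp x).card ∨ ∃ a b, x a ≠ 0 ∧ x b ≠ 0 ∧ x a * x a ≠ x b * x b

variable {n : ℕ}

theorem mem_supp {x : Fin n → F} {i : Fin n} : i ∈ supp x ↔ x i ≠ 0 := by
  classical simp [supp]

theorem supp_subset_iff {x : Fin n → F} {T : Finset (Fin n)} :
    supp x ⊆ T ↔ ∀ i, i ∉ T → x i = 0 := by
  refine ⟨fun h i hi => ?_, fun h i hi => ?_⟩
  · by_contra h0; exact hi (h (mem_supp.2 h0))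
  · by_contra h0; exact mem_supp.1 hi (h i h0)

theorem supp_card_le {x : Fin n → F} {T : Finset (Fin n)} (h : ∀ i, i ∉ T → x i = 0) :
    (supp x).card ≤ T.card :=
  Finset.card_le_card (supp_subset_iff.2 h)

theorem dot_eq_sum_of_subset {x : Fin n → F} {T : Finset (Fin n)} (h : supp x ⊆ T) (y : Fin n → F) :
    dot x y = ∑ i ∈ T, x i * y i := by
  refine (Finset.sum_subset (Finset.subset_univ T) fun i _ hi => ?_).symm
  rw [supp_subset_iff.1 h i hi, zero_mul]

theorem supp_nonempty {x : Fin n → F} (hx : dot x x = 1) : (supp x).Nonempty := by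
  by_contra h
  rw [Finset.not_nonempty_iff_eq_empty] at h
  rw [dot_eq_sum_of_subset (le_of_eq h), Finset.sum_empty] at hx
  exact zero_ne_one hx

variable {Q : QuadraticForm F (ι → F)} (S : Setup Q n)

local notation "Vec" => (ι → F)
set_option quotPrecheck false in
local notation "Iso" => Cfsg.isometryGroup F ⇑Q

namespace Setup

/-- no non-trivial member of the class has support of size at most `k` -/
def Small (k : ℕ) : Prop := ∀ x, S.R0 x → (supp x).card ≤ k → ¬ Nontriv x

variable {S}

theorem Small.mono {k l : ℕ} (h : S.Small k) (hl : l ≤ k) : S.Small l :=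
  fun x hx hc => h x hx (hc.trans hl)

variable (S)

theorem dot_single' (i : Fin n) (x : Fin n → F) : dot x (Pi.single i 1) = x i := by
  rw [dot_comm, dot_single]

theorem col_dot (g : Iso) (i j : Fin n) :
    dot (S.img g (Pi.single i 1)) (S.img g (Pi.single j 1)) = if i = j then 1 else 0 := by
  rw [dot_img, dot_single, Pi.single_apply]

theorem col_ne (g : Iso) (i : Fin n) : S.img g (Pi.single i 1) ≠ 0 := fun h => by
  have := S.col_dot g i i
  rw [if_pos rfl, h] at this
  simp [dot] at this

theorem img_smul_single (g : Iso) (t : F) (i : Fin n) :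
    S.img g (t • Pi.single i 1) = t • S.img g (Pi.single i 1) := S.img_smul g t _

theorem act_e (g : Iso) (i : Fin n) : act g (S.e i) = S.vec (S.img g (Pi.single i 1)) := by
  rw [vec_img, vec_single]

theorem mon_iff {g : Iso} : S.Mon g ↔ ∀ i, ∃ j, ∃ a : F, S.img g (Pi.single i 1) = a • Pi.single j 1 := by
  refine forall_congr' fun i => exists_congr fun j => exists_congr fun a => ?_
  rw [act_e, ← vec_single, ← map_smul]
  exact ⟨fun h => Function.LeftInverse.injective S.co_vec h, fun h => by rw [h]⟩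

theorem single_of_supp {x : Fin n → F} {j : Fin n} (h : supp x ⊆ {j}) : x = x j • Pi.single j 1 := by
  funext i
  by_cases hij : i = j
  · subst hij; simp
  · rw [supp_subset_iff.1 h i (by simp [hij])]; simp [hij]

theorem col_sq {g : Iso} {i j : Fin n} {a : F} (h : S.img g (Pi.single i 1) = a • Pi.single j 1) :
    a * a = 1 := by
  have := S.col_dot g i i
  rw [if_pos rfl, h] at this
  rw [dot, Finset.sum_eq_single j (fun k _ hk => by simp [hk])
    (fun hh => absurd (Finset.mem_univ j) hh)] at this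
  simpa using this

theorem mon_exists_perm {g : Iso} (hg : S.Mon g) :
    ∃ π : Equiv.Perm (Fin n), ∀ i, ∃ a : F, a * a = 1 ∧ S.img g (Pi.single i 1) = a • Pi.single (π i) 1 := by
  choose π a h using S.mon_iff.1 hg
  have hinj : Function.Injective π := by
    intro i k hik
    by_contra hne
    have := S.col_dot g i k
    rw [if_neg hne, h i, h k, hik] at this
    rw [dot, Finset.sum_eq_single (π k) (fun m _ hm => by simp [hm])
      (fun hh => absurd (Finset.mem_univ _) hh)] at this
    simp only [Pi.smul_apply, Pi.single_eq_same, smul_eq_mul, mul_one] at this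
    rcases mul_eq_zero.1 this with h0 | h0
    · exact absurd (S.col_sq (h i)) (by rw [h0]; simp)
    · exact absurd (S.col_sq (h k)) (by rw [h0]; simp)
  exact ⟨Equiv.ofBijective π ((Finite.injective_iff_bijective).1 hinj),
    fun i => ⟨a i, S.col_sq (h i), h i⟩⟩

theorem act_e_of {g : Iso} {i j : Fin n} {a : F} (h : S.img g (Pi.single i 1) = a • Pi.single j 1) :
    act g (S.e i) = a • S.e j := by
  rw [act_e, h, map_smul, vec_single]

variable {S}

theorem Mon.mul {g h : Iso} (hg : S.Mon g) (hh : S.Mon h) : S.Mon (g * h) := fun i => by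
  obtain ⟨j, a, hj⟩ := hh i
  obtain ⟨k, b, hk⟩ := hg j
  exact ⟨k, a * b, by rw [act_mul, hj, map_smul, hk, smul_smul]⟩

theorem Mon.inv {g : Iso} (hg : S.Mon g) : S.Mon g⁻¹ := fun j => by
  obtain ⟨π, hπ⟩ := S.mon_exists_perm hg
  obtain ⟨a, ha, h⟩ := hπ (π.symm j)
  rw [π.apply_symm_apply] at h
  refine ⟨π.symm j, a, ?_⟩
  have e := congrArg (act g⁻¹) (congrArg (a • ·) (S.act_e_of h))
  simp only [map_smul, ← act_mul, inv_mul_cancel, act_one, smul_smul, ha, one_smul] at e
  exact e.symm

theorem Mon.one : S.Mon (1 : Iso) := fun i => ⟨i, 1, by rw [act_one, one_smul]⟩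

variable (S)

theorem conj_eps {g : Iso} {π : Equiv.Perm (Fin n)}
    (h : ∀ i, ∃ a : F, a * a = 1 ∧ S.img g (Pi.single i 1) = a • Pi.single (π i) 1) (A : Finset (Fin n)) :
    g * S.eps A * g⁻¹ = S.eps (A.map π.toEmbedding) := by
  rw [mul_inv_eq_iff_eq_mul]
  refine S.ext_e fun i => ?_
  obtain ⟨a, -, ha⟩ := h i
  rw [act_mul, act_mul, act_eps, S.act_e_of ha, map_smul, act_eps]
  have hm : π i ∈ A.map π.toEmbedding ↔ i ∈ A := by simp
  by_cases hi : i ∈ A
  · rw [if_pos hi, if_pos (hm.2 hi), map_neg, S.act_e_of ha, smul_neg]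
  · rw [if_neg hi, if_neg (fun h' => hi (hm.1 h')), S.act_e_of ha]

theorem mon_conj_eps {g : Iso} (hg : S.Mon g) (A : Finset (Fin n)) :
    ∃ A', A'.card = A.card ∧ g * S.eps A * g⁻¹ = S.eps A' := by
  obtain ⟨π, hπ⟩ := S.mon_exists_perm hg
  exact ⟨A.map π.toEmbedding, Finset.card_map _, S.conj_eps hπ A⟩

theorem perm_conj_eps (σ : Equiv.Perm (Fin n)) (A : Finset (Fin n)) :
    S.perm σ * S.eps A * (S.perm σ)⁻¹ = S.eps (A.map σ.toEmbedding) := by
  refine S.conj_eps (fun i => ⟨1, one_mul 1, ?_⟩) A
  rw [one_smul]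
  funext j
  rw [img_perm, Pi.single_apply, Pi.single_apply]
  simp only [Equiv.symm_apply_eq]

theorem img_eps_eq_self {A : Finset (Fin n)} {x : Fin n → F} :
    S.img (S.eps A) x = x ↔ ∀ i ∈ A, x i = 0 := by
  refine ⟨fun h i hi => ?_, fun h => funext fun i => ?_⟩
  · have := congrFun h i
    rw [img_eps, if_pos hi, neg_eq_iff_add_eq_zero, ← two_mul] at this
    exact (mul_eq_zero.1 this).resolve_left S.two
  · rw [img_eps]
    by_cases hi : i ∈ A
    · rw [if_pos hi, h i hi, neg_zero]
    · rw [if_neg hi]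

theorem img_eps_eq_neg {A : Finset (Fin n)} {x : Fin n → F} :
    S.img (S.eps A) x = -x ↔ ∀ i, i ∉ A → x i = 0 := by
  refine ⟨fun h i hi => ?_, fun h => funext fun i => ?_⟩
  · have := congrFun h i
    rw [img_eps, if_neg hi, Pi.neg_apply, eq_neg_iff_add_eq_zero, ← two_mul] at this
    exact (mul_eq_zero.1 this).resolve_left S.two
  · rw [img_eps]
    by_cases hi : i ∈ A
    · rw [if_pos hi]; rfl
    · rw [if_neg hi, Pi.neg_apply, h i hi, neg_zero]

theorem img_neg (g : Iso) (x : Fin n → F) : S.img g (-x) = -S.img g x := by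
  rw [← neg_one_smul F x, S.img_smul, neg_one_smul]

variable {S} in
/-- conjugate sign changes correspond on supports -/
theorem supp_in {g : Iso} {A A' : Finset (Fin n)} (h : g * S.eps A = S.eps A' * g) {x : Fin n → F}
    (hx : ∀ i, i ∉ A → x i = 0) : ∀ i, i ∉ A' → S.img g x i = 0 := by
  refine S.img_eps_eq_neg.1 ?_
  rw [← img_mul, ← h, img_mul, S.img_eps_eq_neg.2 hx, img_neg]

variable {S} in
theorem supp_out {g : Iso} {A A' : Finset (Fin n)} (h : g * S.eps A = S.eps A' * g) {x : Fin n → F}
    (hx : ∀ i ∈ A, x i = 0) : ∀ i ∈ A', S.img g x i = 0 := by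
  refine S.img_eps_eq_self.1 ?_
  rw [← img_mul, ← h, img_mul, S.img_eps_eq_self.2 hx]

variable {S} in
theorem eps_card_le {g : Iso} {A A' : Finset (Fin n)} (h : g * S.eps A = S.eps A' * g) :
    A.card ≤ A'.card := by
  classical
  let ext : (A → F) → (Fin n → F) := fun x i => if hi : i ∈ A then x ⟨i, hi⟩ else 0
  let f : (A → F) → (A' → F) := fun x j => S.img g (ext x) j
  have hf : Function.Injective f := by
    intro x y hxy
    have hout : ∀ z : A → F, ∀ i, i ∉ A' → S.img g (ext z) i = 0 := fun z =>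
      supp_in h fun i hi => dif_neg hi
    have e : S.img g (ext x) = S.img g (ext y) := by
      funext i
      by_cases hi : i ∈ A'
      · exact congrFun hxy ⟨i, hi⟩
      · rw [hout x i hi, hout y i hi]
    have e' := congrArg (S.img g⁻¹) e
    rw [img_inv_img, img_inv_img] at e'
    funext i
    have := congrFun e' i.1
    simpa [ext] using this
  have hc := Fintype.card_le_of_injective f hf
  rw [Fintype.card_fun, Fintype.card_fun, Fintype.card_coe, Fintype.card_coe] at hc
  exact (Nat.pow_le_pow_iff_right Fintype.one_lt_card).1 hc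

variable {S} in
theorem eps_card_eq {g : Iso} {A A' : Finset (Fin n)} (h : g * S.eps A = S.eps A' * g) :
    A.card = A'.card := by
  refine le_antisymm (eps_card_le h) (eps_card_le (S := S) (g := g⁻¹) ?_)
  rw [inv_mul_eq_iff_eq_mul, ← mul_assoc, h, mul_inv_cancel_right]

theorem eps_injective {A A' : Finset (Fin n)} (h : S.eps A = S.eps A') : A = A' := by
  ext i
  have hc := congrFun (congrArg (fun g => S.img g (Pi.single i 1)) h) i
  simp only [img_eps, Pi.single_eq_same] at hc
  by_cases h1 : i ∈ A <;> by_cases h2 : i ∈ A' <;> simp only [h1, h2, if_true, if_false] at hc ⊢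
  · exact absurd (by linear_combination -hc) S.two
  · exact absurd (by linear_combination hc) S.two

theorem eps_ne_one {A : Finset (Fin n)} (h : A.Nonempty) : S.eps A ≠ 1 := fun e => by
  rw [← S.eps_empty] at e
  exact h.ne_empty (S.eps_injective e)

theorem mon_of_rf {x : Fin n → F} (hx : dot x x = 1)
    (h : ∀ i, ∃ j, ∃ a : F, rf x (Pi.single i 1) = a • Pi.single j 1) : S.Mon (S.r x) :=
  S.mon_iff.2 fun i => by simpa [S.img_r hx] using h i

theorem r0_of_mon {x : Fin n → F} (hx : dot x x = 1) (h : S.Mon (S.r x)) : S.R0 x :=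
  ⟨hx, fun i => S.mem_of_mon (S.pair_omega (S.r_ne hx) (by rw [S.Q_vec, S.Q_vec, hx, dot_single_self]))
    (h.mul (by rw [r_single]; exact S.eps_mon _))⟩

theorem half_mem {i k : Fin n} (hik : i ≠ k) {t : F} (ht : 2 * (t * t) = 1) :
    S.R0 (t • (Pi.single i 1 + Pi.single k 1)) := by
  set u : Fin n → F := t • (Pi.single i 1 + Pi.single k 1) with hu
  have hui : u i = t := by simp [hu, hik]
  have huk : u k = t := by simp [hu, hik.symm]
  have hux : ∀ m, m ≠ i → m ≠ k → u m = 0 := fun m h1 h2 => by simp [hu, h1, h2]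
  have hdot : dot u u = 1 := by
    rw [dot, Finset.sum_eq_add i k hik (fun m _ hm => by rw [hux m hm.1 hm.2, zero_mul])
      (fun h => absurd (Finset.mem_univ i) h) (fun h => absurd (Finset.mem_univ k) h), hui, huk]
    linear_combination ht
  refine S.r0_of_mon hdot (S.mon_of_rf hdot fun m => ?_)
  by_cases hmi : m = i
  · subst hmi
    refine ⟨k, -1, funext fun j => ?_⟩
    rw [rf, dot_single', hui]
    by_cases h1 : j = m
    · subst h1; simp [hui, hik]; linear_combination -ht
    by_cases h2 : j = k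
    · subst h2; simp [huk, h1]; linear_combination ht
    simp [h1, h2, hux j h1 h2]
  by_cases hmk : m = k
  · subst hmk
    refine ⟨i, -1, funext fun j => ?_⟩
    rw [rf, dot_single', huk]
    by_cases h1 : j = m
    · subst h1; simp [huk, hik.symm]; linear_combination -ht
    by_cases h2 : j = i
    · subst h2; simp [hui, h1]; linear_combination ht
    simp [h1, h2, hux j h2 h1]
  · exact ⟨m, 1, by rw [rf, dot_single', hux m hmi hmk]; simp⟩

theorem r0_smul_single (j : Fin n) {s : F} (hs : s * s = 1) : S.R0 (s • Pi.single j 1) := by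
  rcases mul_self_eq_one_iff.1 hs with rfl | rfl
  · rw [one_smul]; exact single_mem j
  · rw [neg_one_smul]; exact (single_mem (S := S) j).neg

variable {S}

/-- an element of `M` sending one frame vector to another preserves the class -/
theorem R0.map_col {g : Iso} (hg : g ∈ S.M) {k j : Fin n} {s : F}
    (hk : S.img g (Pi.single k 1) = s • Pi.single j 1) {x : Fin n → F} (hx : S.R0 x) :
    S.R0 (S.img g x) :=
  R0.image hg (single_mem k) (hk ▸ S.r0_smul_single j (S.col_sq hk)) hx

/-- a trivial column of such an element is a frame vector -/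
theorem single_col (hs : S.Small 3) {g : Iso} (hg : g ∈ S.M) {k j : Fin n} {s : F}
    (hk : S.img g (Pi.single k 1) = s • Pi.single j 1) (i : Fin n)
    (hi : ¬ Nontriv (S.img g (Pi.single i 1))) :
    ∃ j', ∃ s' : F, S.img g (Pi.single i 1) = s' • Pi.single j' 1 := by
  classical
  set y := S.img g (Pi.single i 1) with hy
  have hy1 : dot y y = 1 := by rw [hy, col_dot, if_pos rfl]
  have hle : (supp y).card ≤ 2 := by
    by_contra hc
    exact hi (Or.inl (by omega))
  rcases Nat.lt_or_ge (supp y).card 2 with h | h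
  · obtain ⟨j', hj'⟩ := supp_nonempty hy1
    refine ⟨j', y j', single_of_supp fun m hm => ?_⟩
    rw [Finset.mem_singleton]
    exact Finset.card_le_one.1 (by omega) m hm j' hj'
  obtain ⟨a, b, hab, hsupp⟩ := Finset.card_eq_two.1 (le_antisymm hle h)
  have ha : y a ≠ 0 := mem_supp.1 (by rw [hsupp]; simp)
  have hb : y b ≠ 0 := mem_supp.1 (by rw [hsupp]; simp)
  have hsq : y a * y a = y b * y b := by
    by_contra hc
    exact hi (Or.inr ⟨a, b, ha, hb, hc⟩)
  have ht : 2 * (y a * y a) = 1 := by
    rw [dot_eq_sum_of_subset (le_of_eq hsupp), Finset.sum_pair hab] at hy1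
    linear_combination hy1 + hsq
  have hik : i ≠ k := by
    rintro rfl
    rw [← hy] at hk
    have h1 : supp y ⊆ {j} := supp_subset_iff.2 fun m hm => by
      rw [hk]; simp [(Finset.mem_singleton.not.1 hm)]
    have := Finset.card_le_card h1
    rw [Finset.card_singleton] at this
    omega
  have hs1 := S.col_sq hk
  have hs0 : s ≠ 0 := fun e => by rw [e, mul_zero] at hs1; exact zero_ne_one hs1
  have hyj : y j = 0 := by
    have := S.col_dot g i k
    rw [if_neg hik, ← hy, hk] at this
    rw [dot, Finset.sum_eq_single j (fun m _ hm => by simp [hm])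
      (fun hh => absurd (Finset.mem_univ _) hh)] at this
    simp only [Pi.smul_apply, Pi.single_eq_same, smul_eq_mul, mul_one] at this
    exact (mul_eq_zero.1 this).resolve_right hs0
  set z := S.img g (y a • (Pi.single i 1 + Pi.single k 1)) with hz
  have hzR : S.R0 z := R0.map_col hg hk (S.half_mem hik ht)
  have hze : z = y a • (y + s • Pi.single j 1) := by rw [hz, S.img_smul, S.img_add, ← hy, hk]
  have hne : ∀ m, m ≠ j → z m = y a * y m := fun m hm => by rw [hze]; simp [hm]
  have hzj : z j ≠ 0 := by rw [hze]; simp [hyj, ha, hs0]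
  have haj : a ≠ j := fun e => ha (e ▸ hyj)
  have hbj : b ≠ j := fun e => hb (e ▸ hyj)
  have hzs : supp z = {a, b, j} := by
    ext m
    rw [mem_supp]
    by_cases hm : m = j
    · subst hm; simp [hzj]
    · rw [hne m hm, mul_ne_zero_iff, and_iff_right ha, ← mem_supp, hsupp]
      simp [hm]
  have hc3 : (supp z).card = 3 := by
    rw [hzs]; exact Finset.card_eq_three.2 ⟨a, b, j, hab, haj, hbj, rfl⟩
  exact absurd (Or.inl hc3.ge) (hs z hzR hc3.le)

/-- such an element with trivial columns is monomial -/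
theorem mon_of_cols (hs : S.Small 3) {g : Iso} (hg : g ∈ S.M) {k j : Fin n} {s : F}
    (hk : S.img g (Pi.single k 1) = s • Pi.single j 1)
    (h : ∀ i, ¬ Nontriv (S.img g (Pi.single i 1)) ∨ ∃ j', ∃ s' : F, S.img g (Pi.single i 1) = s' • Pi.single j' 1) :
    S.Mon g :=
  S.mon_iff.2 fun i => (h i).elim (single_col hs hg hk i) id

end Setup

end Cfsg.Agent.Forms.Max.UnitFrame
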