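import Cfsg.Agent.Lib.Forms.Max.UnitFrame.Centres

/-!
# Stabilisers of orthogonal frames over prime fields

A subgroup containing the monomial isometries of Omega and a non-monomial one contains Omega, in dimension five,
seven, and from nine on.
-/

set_option autoImplicit false
set_option linter.unusedSectionVars false

namespace Cfsg.Agent.Forms.Max.UnitFrame

open Matrix Cfsg.Agent.Forms.QuadStd Cfsg.Agent.Forms.Reflections Cfsg.Agent.Classical.Orth

variable {F : Type*} [Field F] [Fintype F] {ι : Type} [Fintype ι] [DecidableEq ι] {n : ℕ}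
variable {Q : QuadraticForm F (ι → F)} {S : Setup Q n}

set_option quotPrecheck false in
local notation "Iso" => Cfsg.isometryGroup F ⇑Q

namespace Setup

/-- the singular vectors of all triples are centres -/
theorem centres_triples (hp : (Fintype.card F).Prime) (hn : n = 5 ∨ n = 7 ∨ 9 ≤ n) {g : Iso} (hg : g ∈ S.M)
    (hng : ¬ S.Mon g) {a b c : Fin n} (hab : a ≠ b) (hac : a ≠ c) (hbc : b ≠ c) {z : Fin n → F}
    (hz : z ∈ InS F {a, b, c}) (hzz : dot z z = 0) : S.vec z ∈ Orth.centres S.M := by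
  classical
  by_cases hA : ∃ x, S.R0 x ∧ (supp x).card ≤ 3 ∧ Nontriv x
  · obtain ⟨x, hx, hc, hN⟩ := hA
    exact centres_A hp hx hc hN hab hac hbc hz hzz
  have hs3 : S.Small 3 := fun x hx hc hN => hA ⟨x, hx, hc, hN⟩
  by_cases hB : ∃ x, S.R0 x ∧ (supp x).card = 4
  · obtain ⟨x, hx, hc⟩ := hB
    obtain ⟨h3, hfour⟩ := three_of_four hp (by omega) hs3 hx hc
    exact centres_B hp h3 hfour hab hac hbc hz hzz
  refine absurd (mon_of_small hn (fun x hx hc hN => ?_) hg) hng
  rcases Nat.lt_or_ge (supp x).card 4 with h | h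
  · exact hs3 x hx (by omega) hN
  · exact hB ⟨x, hx, le_antisymm hc h⟩

include S in
/-- singular vectors in a triple -/
theorem exists_singular {a b c : Fin n} (hab : a ≠ b) (hac : a ≠ c) (hbc : b ≠ c) :
    ∃ z f : Fin n → F, z ∈ InS F {a, b, c} ∧ f ∈ InS F {a, b, c} ∧ z ≠ 0 ∧ dot z z = 0 ∧ dot z f = 1 ∧
      dot f f = 0 := by
  obtain ⟨x, y, hxy⟩ := Bases.exists_sq_add_sq S.two (one_ne_zero (α := F)) one_ne_zero (-1)
  set z : Fin n → F := x • Pi.single a 1 + y • Pi.single b 1 + Pi.single c 1 with hz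
  have hzT : z ∈ InS F {a, b, c} := Submodule.add_mem _ (Submodule.add_mem _
    (Submodule.smul_mem _ _ (single_mem_InS (by simp))) (Submodule.smul_mem _ _ (single_mem_InS (by simp))))
    (single_mem_InS (by simp))
  have hv : z a = x ∧ z b = y ∧ z c = 1 := by
    simp [hz, hab, hab.symm, hac, hac.symm, hbc, hbc.symm]
  have hz0 : z ≠ 0 := fun e => one_ne_zero (by rw [← hv.2.2, e]; rfl : (1 : F) = 0)
  have hzz : dot z z = 0 := by
    rw [dot_three hab hac hbc hzT, hv.1, hv.2.1, hv.2.2]
    linear_combination hxy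
  obtain ⟨f, hf, hzf, hff⟩ := S.exists_partner hzT hz0 hzz
  exact ⟨z, f, hzT, hf, hz0, hzz, hzf, hff⟩

/-- the subgroup is everything, if the singular vectors of all triples are centres -/
theorem omega_le_of_triples (hct : ∀ {a b c : Fin n}, a ≠ b → a ≠ c → b ≠ c → ∀ {z : Fin n → F},
    z ∈ InS F {a, b, c} → dot z z = 0 → S.vec z ∈ Orth.centres S.M) : Cfsg.Omega F ⇑Q ≤ S.M := by
  classical
  refine Orth.omega_le_of_centres S.nd S.five' fun v hv0 hQv => ?_
  set y := S.co v with hy
  have hv : v = S.vec y := (S.vec_co v).symm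
  have hy0 : y ≠ 0 := fun e => hv0 (by rw [hv, e, map_zero])
  obtain ⟨a, ha⟩ := Function.ne_iff.1 hy0
  obtain ⟨b, hb, c, hc, hbc⟩ := Finset.one_lt_card.1 (show 1 < ({a} : Finset (Fin n))ᶜ.card by
    rw [Finset.card_compl, Fintype.card_fin, Finset.card_singleton]; have := S.five; omega)
  rw [Finset.mem_compl, Finset.mem_singleton] at hb hc
  have hab : a ≠ b := Ne.symm hb
  have hac : a ≠ c := Ne.symm hc
  set T : Finset (Fin n) := {a, b, c} with hT
  obtain ⟨z, f, hz, hf, hz0, hzz, hzf, hff⟩ := exists_singular (S := S) hab hac hbc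
  -- the part of the vector inside the triple
  set y' : Fin n → F := fun i => if i ∈ T then y i else 0 with hy'
  have hdot : ∀ u ∈ InS F T, dot u y' = dot u y := fun u hu => Finset.sum_congr rfl fun i _ => by
    by_cases hi : i ∈ T
    · simp [hy', hi]
    · simp [hu i hi]
  obtain ⟨s, t, hs, ht, hss, hst, htt, hsy⟩ : ∃ s t, s ∈ InS F T ∧ t ∈ InS F T ∧ dot s s = 0 ∧ dot s t = 1 ∧
      dot t t = 0 ∧ dot s y ≠ 0 := by
    by_cases h1 : dot z y = 0
    swap
    · exact ⟨z, f, hz, hf, hzz, hzf, hff, h1⟩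
    by_cases h2 : dot f y = 0
    swap
    · exact ⟨f, z, hf, hz, hff, by rw [dot_comm, hzf], hzz, h2⟩
    obtain ⟨k1, k2, k3⟩ := crossT_props hab hac hbc hz hf hzz hzf hff
    set w0 := crossT a b c z f
    have hw : dot w0 y ≠ 0 := by
      intro h3
      have hd := decomp3 hab hac hbc hz hf hzz hzf hff (y := y') (fun i hi => if_neg hi)
      rw [hdot f hf, h2, hdot z hz, h1, hdot w0 (crossT_mem z f), h3] at hd
      have := congrFun hd a
      simp [hy', hT] at this
      exact ha this
    have h2' := S.two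
    refine ⟨z + w0 + (2 : F)⁻¹ • f, (2 : F) • z, Submodule.add_mem _ (Submodule.add_mem _ hz (crossT_mem z f))
      (Submodule.smul_mem _ _ hf), Submodule.smul_mem _ _ hz, ?_, ?_, ?_, ?_⟩
    · simp only [dot_add_left, dot_add_right, dot_smul_left, dot_smul_right, dot_comm w0 z, dot_comm f z,
        dot_comm w0 f, hzz, hzf, hff, k1, k2, k3]
      field_simp
      ring
    · simp only [dot_add_left, dot_smul_left, dot_smul_right, dot_comm w0 z, dot_comm f z, hzz, hzf, k1]
      field_simp
      ring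
    · simp only [dot_smul_left, dot_smul_right, hzz, mul_zero]
    · simpa only [dot_add_left, dot_smul_left, h1, h2, mul_zero, add_zero, zero_add] using hw
  have hcs := hct hab hac hbc hs hss
  have h2c := S.two_c
  set t' := (2 * S.c)⁻¹ • t with ht'
  have hct := hct hab hac hbc (Submodule.smul_mem _ ((2 * S.c)⁻¹) ht)
    (show dot t' t' = 0 by rw [ht', dot_smul_left, dot_smul_right, htt, mul_zero, mul_zero])
  set k := (QuadraticMap.polar Q (S.vec y) (S.vec s))⁻¹ with hk
  have hk0 : QuadraticMap.polar Q (S.vec y) (S.vec s) ≠ 0 := by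
    rw [polar_vec_vec, dot_comm]; exact mul_ne_zero h2c hsy
  obtain ⟨he, hmove⟩ := Orth.exists_eich_move (Q := Q) (a := S.vec s) (u := S.vec t')
    (v := k • S.vec y) (S.Q_vec_zero hss)
    (by rw [S.Q_vec_zero (show dot t' t' = 0 by rw [ht', dot_smul_left, dot_smul_right, htt, mul_zero, mul_zero]),
      Classical.Orth.map_smul', ← hv, hQv, mul_zero])
    (by rw [polar_vec_vec, ht', dot_smul_left, dot_comm, hst, mul_one, mul_inv_cancel₀ h2c])
    (by rw [QuadraticMap.polar_smul_left, smul_eq_mul, hk, inv_mul_cancel₀ hk0])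
  have hv' : k • S.vec y ∈ Orth.centres S.M := hmove ▸ Orth.centres_map (hcs.2 _ (S.Q_vec_zero hss) he) hct
  have := Orth.centres_smul k⁻¹ hv'
  rwa [smul_smul, inv_mul_cancel₀ (inv_ne_zero hk0), one_smul, ← hv] at this

/-- the subgroup is everything -/
theorem omega_le (hp : (Fintype.card F).Prime) (hn : n = 5 ∨ n = 7 ∨ 9 ≤ n) {g : Iso} (hg : g ∈ S.M)
    (hng : ¬ S.Mon g) : Cfsg.Omega F ⇑Q ≤ S.M :=
  omega_le_of_triples fun hab hac hbc _ hz hzz => centres_triples hp hn hg hng hab hac hbc hz hzz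

end Setup

end Cfsg.Agent.Forms.Max.UnitFrame
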