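import Cfsg.Agent.Lib.Forms.Max.UnitFrame.Finish
import Cfsg.Agent.Lib.Forms.Max.OrthBlocks

/-!
# Maximality of stabilisers of decompositions into lines
-/

set_option autoImplicit false
set_option linter.unusedSectionVars false

namespace Cfsg.Agent.Forms.Max.UnitFrame

open Matrix Cfsg.Agent.Forms.QuadStd Cfsg.Agent.Forms.Reflections Cfsg.Agent.Classical.Orth

variable {F : Type*} [Field F] [Fintype F] {ι : Type} [Fintype ι] [DecidableEq ι]
variable {Q : QuadraticForm F (ι → F)} {t : ℕ} {D : Fin t → Submodule F (ι → F)}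

set_option quotPrecheck false in
local notation "Iso" => Cfsg.isometryGroup F ⇑Q
local notation "B" => QuadraticMap.polar Q

/-- generators of the lines with a common value -/
theorem exists_generators (hQ : (QuadraticMap.polarBilin Q).Nondegenerate)
    (hD : Cfsg.Geo.IsOrthogonalMDecomposition (⇑Q) 1 D) :
    ∃ (c : F) (e : Fin t → (ι → F)), c ≠ 0 ∧ (∀ i, Q (e i) = c) ∧ (∀ i j, i ≠ j → B (e i) (e j) = 0) ∧
      (∀ i, D i = Submodule.span F {e i}) ∧ Submodule.span F (Set.range e) = ⊤ := by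
  have hd := hD.decomp
  have ht := hd.decomp.two_le
  let i₀ : Fin t := ⟨0, by omega⟩
  obtain ⟨e₀, he0, -⟩ := finrank_eq_one_iff'.1 (hd.decomp.finrank_eq i₀)
  choose φ hφ using fun i => hD.isometric i₀ i
  set e : Fin t → (ι → F) := fun i => (φ i e₀ : ι → F) with he
  have hmem : ∀ i, e i ∈ D i := fun i => (φ i e₀).2
  have hne : ∀ i, e i ≠ 0 := fun i h => he0 ((φ i).map_eq_zero_iff.1 (Subtype.ext h))
  have hspan : ∀ i, D i = Submodule.span F {e i} := fun i =>
    (Submodule.eq_of_le_of_finrank_eq ((Submodule.span_singleton_le_iff_mem _ _).2 (hmem i))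
      (by rw [finrank_span_singleton (hne i), hd.decomp.finrank_eq])).symm
  have hc : Q (e₀ : ι → F) ≠ 0 := fun h0 => by
    have he00 : (e₀ : ι → F) ≠ 0 := fun h => he0 (Subtype.ext h)
    obtain ⟨s, hs, hne'⟩ := Orth.nd_on hd e₀.2 he00
    obtain ⟨k, hk⟩ := (finrank_eq_one_iff'.1 (hd.decomp.finrank_eq i₀)).choose_spec.2 ⟨s, hs⟩
    obtain ⟨k', hk'⟩ := (finrank_eq_one_iff'.1 (hd.decomp.finrank_eq i₀)).choose_spec.2 e₀
    have h1 : k • ((finrank_eq_one_iff'.1 (hd.decomp.finrank_eq i₀)).choose : ι → F) = s := congrArg Subtype.val hk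
    have h2 : k' • ((finrank_eq_one_iff'.1 (hd.decomp.finrank_eq i₀)).choose : ι → F) = (e₀ : ι → F) :=
      congrArg Subtype.val hk'
    have hk0 : k' ≠ 0 := fun h => he00 (by rw [← h2, h, zero_smul])
    refine hne' ?_
    rw [show s = (k / k') • (e₀ : ι → F) by rw [← h2, smul_smul, div_mul_cancel₀ k hk0, h1],
      QuadraticMap.polar_smul_right, polar_self', h0, mul_zero, smul_zero]
  refine ⟨_, e, hc, fun i => hφ i e₀, fun i j hij => Orth.orth_ne hd hij (hmem i) (hmem j), hspan, ?_⟩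
  rw [eq_top_iff, ← hd.decomp.iSup_eq_top]
  refine iSup_le fun i => ?_
  rw [hspan i, Submodule.span_singleton_le_iff_mem]
  exact Submodule.subset_span ⟨i, rfl⟩

/-- maximality -/
theorem maximal_of (hQ : (QuadraticMap.polarBilin Q).Nondegenerate) (h2 : (2 : F) ≠ 0)
    (hD : Cfsg.Geo.IsOrthogonalMDecomposition (⇑Q) 1 D) (h5 : 5 ≤ Fintype.card ι)
    (honly : ∀ S : Setup Q t, S.M ≤ Cfsg.Omega F ⇑Q → ∀ g ∈ S.M, ¬ S.Mon g → Cfsg.Omega F ⇑Q ≤ S.M) :
    Cfsg.Geo.IsMaximalIn (Cfsg.Geo.omegaGL ⇑Q)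
      (Cfsg.Geo.decompositionStabilizer D ⊓ Cfsg.Geo.omegaGL ⇑Q) := by
  classical
  have hcard : Fintype.card ι = t := by have := OrthBlocks.card_eq hD; omega
  obtain ⟨c, e, hc, hval, horth, hspan, htop⟩ := exists_generators hQ hD
  have hne : ∀ i, e i ≠ 0 := fun i h => hc (by rw [← hval i, h, QuadraticMap.map_zero])
  have hinj : ∀ i j (a : F), e i = a • e j → i = j := fun i j a h => by
    by_contra hij
    have h1 := horth i j hij
    rw [h, QuadraticMap.polar_smul_left, polar_self', hval, smul_eq_mul] at h1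
    have ha : a ≠ 0 := fun h0 => hne i (by rw [h, h0, zero_smul])
    exact mul_ne_zero ha (mul_ne_zero h2 hc) h1
  let mkS : (M : Subgroup Iso) → (∀ g ∈ Cfsg.Omega F ⇑Q, (∀ i, ∃ j, ∃ a : F, act g (e i) = a • e j) → g ∈ M) →
      Setup Q t := fun M hM =>
    { nd := hQ, two := h2, five := by omega, five' := by omega, c := c, c_ne := hc, e := e, value := hval,
      orth := horth, span := htop, M := M, mono_mem := hM }
  have hperm : ∀ g : Iso, (∀ i, ∃ j, ∃ a : F, act g (e i) = a • e j) →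
      ∃ σ : Equiv.Perm (Fin t), ∀ i, ∀ x ∈ D i, act g x ∈ D (σ i) := by
    intro g h
    choose π a ha using h
    have ha0 : ∀ i, a i ≠ 0 := fun i h0 => hne i (by
      rw [← Spinor.act_inv_cancel g (e i), ha, h0, zero_smul, map_zero])
    have hπ : Function.Injective π := fun i k hik => hinj i k (a i / a k) (by
      rw [← Spinor.act_inv_cancel g (e i), ← Spinor.act_inv_cancel g (e k), ← map_smul, ha, ha, hik, smul_smul,
        div_mul_cancel₀ _ (ha0 k)])
    refine ⟨Equiv.ofBijective π (Finite.injective_iff_bijective.1 hπ), fun i x hx => ?_⟩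
    rw [hspan] at hx
    obtain ⟨r, rfl⟩ := Submodule.mem_span_singleton.1 hx
    rw [map_smul, ha, hspan, Equiv.ofBijective_apply]
    exact Submodule.smul_mem _ _ (Submodule.smul_mem _ _ (Submodule.mem_span_singleton_self _))
  refine Max.isMaximalIn_of inf_le_right (fun hle => ?_) fun N hN hNK g hgN hg => ?_
  · let S := mkS ⊤ fun g _ _ => trivial
    let a : Fin t := ⟨0, by omega⟩
    let b : Fin t := ⟨1, by omega⟩
    let k : Fin t := ⟨2, by omega⟩
    let d : Fin t := ⟨3, by omega⟩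
    obtain ⟨z, f, hz, -, hz0, hzz, -, -⟩ := Setup.exists_singular (S := S) (a := a) (b := b) (c := k)
      (by simp [a, b]) (by simp [a, k]) (by simp [b, k])
    have hdT : d ∉ ({a, b, k} : Finset (Fin t)) := by simp [a, b, k, d]
    have hzd : dot z (Pi.single d 1) = 0 := by rw [Setup.dot_single']; exact hz d hdT
    have hΩ : S.eichC hzz hzd ∈ Cfsg.Omega F ⇑Q :=
      Orth.eich_omega hQ (by omega) (S.Q_vec_zero hzz) (S.polar_vec_zero hzd)
    obtain ⟨σ, hσ⟩ := (hle (Subgroup.mem_map_of_mem _ hΩ)).1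
    have hd' : act (S.eichC hzz hzd) (e d) ∈ D (σ d) := by
      rw [act_apply, ← Matrix.toLin'_apply]
      have := hσ d
      rw [← this]
      exact Submodule.mem_map_of_mem (by rw [hspan]; exact Submodule.mem_span_singleton_self _)
    rw [hspan] at hd'
    obtain ⟨r, hr⟩ := Submodule.mem_span_singleton.1 hd'
    have himg : S.img (S.eichC hzz hzd) (Pi.single d 1) = r • Pi.single (σ d) 1 := by
      rw [Setup.img, S.vec_single]
      have : act (S.eichC hzz hzd) (S.e d) = S.vec (r • Pi.single (σ d) 1) := by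
        rw [map_smul, S.vec_single]; exact hr.symm
      rw [this, S.co_vec]
    rw [S.act_eichC, Setup.dot_comm (Pi.single d (1 : F)) z, hzd, Setup.dot_single_self] at himg
    obtain ⟨i, hi⟩ := Function.ne_iff.1 hz0
    simp only [Pi.zero_apply] at hi
    have hid : i ≠ d := fun h => hi (h ▸ hz d hdT)
    have e1 := congrFun himg d
    have e2 := congrFun himg i
    have hcc : (2 : F) * c ≠ 0 := mul_ne_zero h2 hc
    have hSc : S.c = c := rfl
    simp [hid, hSc, hz d hdT] at e1 e2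
    by_cases h1 : i = σ d
    · rw [← h1, Pi.single_eq_of_ne hid.symm, mul_zero] at e1
      exact one_ne_zero e1
    · rw [Pi.single_eq_of_ne h1, mul_zero] at e2
      simp [hi, h2, hc] at e2
  · obtain ⟨g', hg', rfl⟩ := Subgroup.mem_map.1 (hNK hgN)
    let S := mkS (N.comap (Cfsg.isometryGroup F ⇑Q).subtype ⊓ Cfsg.Omega F ⇑Q) fun k hk hmon => by
      obtain ⟨σ, hσ⟩ := hperm k hmon
      exact ⟨hN ⟨⟨σ, fun i => OrthBlocks.img_eq hD (hσ i)⟩, Subgroup.mem_map_of_mem _ hk⟩, hk⟩
    have hng : ¬ S.Mon g' := fun hmon => by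
      obtain ⟨σ, hσ⟩ := hperm g' hmon
      exact hg ⟨⟨σ, fun i => OrthBlocks.img_eq hD (hσ i)⟩, hNK hgN⟩
    have hle := honly S (inf_le_right) g' ⟨hgN, hg'⟩ hng
    intro x hx
    obtain ⟨x', hx', rfl⟩ := Subgroup.mem_map.1 hx
    exact (hle hx').1

/-- maximality -/
theorem maximal (hQ : (QuadraticMap.polarBilin Q).Nondegenerate) (h2 : (2 : F) ≠ 0)
    (hp : (Fintype.card F).Prime) (hD : Cfsg.Geo.IsOrthogonalMDecomposition (⇑Q) 1 D)
    (hn : Fintype.card ι = 5 ∨ Fintype.card ι = 7 ∨ 9 ≤ Fintype.card ι) :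
    Cfsg.Geo.IsMaximalIn (Cfsg.Geo.omegaGL ⇑Q)
      (Cfsg.Geo.decompositionStabilizer D ⊓ Cfsg.Geo.omegaGL ⇑Q) :=
  maximal_of hQ h2 hD (by omega) fun S _ g hg hng =>
    Setup.omega_le (S := S) hp (by have := OrthBlocks.card_eq hD; omega) hg hng

end Cfsg.Agent.Forms.Max.UnitFrame
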