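import Mathlib

/-!
# Counting axes in finite rotation groups
-/

set_option autoImplicit false

namespace Cfsg.Agent.Forms.Max.UnitFrame

section Count

variable {G X : Type*} [Group G] [Fintype G] [DecidableEq G] [DecidableEq X]

/-- an axis of order divisible by four with flipping elements has an orbit of size three -/
theorem axis_count (mv : G → X → X) (h1 : ∀ x, mv 1 x = x) (hm : ∀ g h x, mv (g * h) x = mv g (mv h x))
    (ax : G → X) (hconj : ∀ g h, g ≠ 1 → ax (h * g * h⁻¹) = mv h (ax g))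
    (hst : ∀ g, g ≠ 1 →
      (Finset.univ.filter fun k => mv k (ax g) = ax g).card =
          (Finset.univ.filter fun k => k ≠ 1 ∧ ax k = ax g).card + 1 ∨
      (Finset.univ.filter fun k => mv k (ax g) = ax g).card =
          2 * ((Finset.univ.filter fun k => k ≠ 1 ∧ ax k = ax g).card + 1))
    (x₀ : X) (h4 : 4 ∣ (Finset.univ.filter fun k => k ≠ 1 ∧ ax k = x₀).card + 1)
    (hst0 : (Finset.univ.filter fun k => mv k x₀ = x₀).card =
      2 * ((Finset.univ.filter fun k => k ≠ 1 ∧ ax k = x₀).card + 1))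
    (horb : 3 ≤ (Finset.univ.image fun k => mv k x₀).card) :
    (Finset.univ.image fun k => mv k x₀).card = 3 := by
  classical
  set a : X → ℕ := fun x => (Finset.univ.filter fun k => k ≠ 1 ∧ ax k = x).card with ha
  set st : X → ℕ := fun x => (Finset.univ.filter fun k => mv k x = x).card with hstdef
  set O : X → Finset X := fun x => Finset.univ.image fun k => mv k x with hO
  set N := Fintype.card G with hN
  have hback : ∀ g x, mv g⁻¹ (mv g x) = x := fun g x => by rw [← hm, inv_mul_cancel, h1]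
  -- orbit and stabiliser
  have horbst : ∀ x, (O x).card * st x = N := by
    intro x
    have h := Finset.card_eq_sum_card_image (fun k => mv k x) (Finset.univ : Finset G)
    rw [Finset.card_univ, ← hN, Finset.sum_congr rfl (g := fun _ => st x) ?_, Finset.sum_const, smul_eq_mul] at h
    · exact h.symm
    intro y hy
    obtain ⟨h', -, rfl⟩ := Finset.mem_image.1 hy
    refine Finset.card_equiv (Equiv.mulLeft h'⁻¹) fun k => ?_
    simp only [Finset.mem_filter, Finset.mem_univ, true_and, Equiv.coe_mulLeft]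
    constructor
    · intro e; rw [hm, e, hback]
    · intro e
      have e' := congrArg (mv h') e
      rwa [← hm, mul_inv_cancel_left] at e'
  have hconst : ∀ x h', a (mv h' x) = a x := by
    intro x h'
    refine (Finset.card_equiv (MulAut.conj h').toEquiv fun k => ?_).symm
    simp only [Finset.mem_filter, Finset.mem_univ, true_and, MulEquiv.toEquiv_eq_coe, EquivLike.coe_coe,
      MulAut.conj_apply]
    constructor
    · rintro ⟨hk, rfl⟩
      exact ⟨fun e => hk (by
        have := congrArg (fun z => h'⁻¹ * z * h') e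
        simpa [mul_assoc] using this), hconj k h' hk⟩
    · rintro ⟨hk, e⟩
      have hk1 : k ≠ 1 := fun e1 => hk (by rw [e1, mul_one, mul_inv_cancel])
      refine ⟨hk1, ?_⟩
      rw [hconj k h' hk1] at e
      have := congrArg (mv h'⁻¹) e
      rwa [hback, hback] at this
  -- the axes
  set Ax := (Finset.univ.filter fun k : G => k ≠ 1).image ax with hAx
  have htot : ∑ x ∈ Ax, a x = N - 1 := by
    have h := Finset.card_eq_sum_card_image ax (Finset.univ.filter fun k : G => k ≠ 1)
    rw [Finset.filter_ne', Finset.card_erase_of_mem (Finset.mem_univ _), Finset.card_univ, ← hN] at h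
    rw [h, hAx, Finset.filter_ne']
    refine Finset.sum_congr rfl fun x _ => ?_
    refine congrArg Finset.card ?_
    ext k
    simp [and_comm]
  have hclosed : ∀ g, ∀ x ∈ Ax, mv g x ∈ Ax := by
    intro g x hx
    obtain ⟨k, hk, rfl⟩ := Finset.mem_image.1 hx
    simp only [Finset.mem_filter, Finset.mem_univ, true_and] at hk
    refine Finset.mem_image.2 ⟨g * k * g⁻¹, ?_, hconj k g hk⟩
    simp only [Finset.mem_filter, Finset.mem_univ, true_and]
    exact fun e => hk (by
      have := congrArg (fun z => g⁻¹ * z * g) e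
      simpa [mul_assoc] using this)
  have hapos : ∀ x ∈ Ax, 0 < a x := by
    intro x hx
    obtain ⟨k, hk, rfl⟩ := Finset.mem_image.1 hx
    exact Finset.card_pos.2 ⟨k, by simpa using hk⟩
  have hstAx : ∀ x ∈ Ax, st x = a x + 1 ∨ st x = 2 * (a x + 1) := by
    intro x hx
    obtain ⟨k, hk, rfl⟩ := Finset.mem_image.1 hx
    exact hst k (by simpa using hk)
  -- removing an orbit
  have hsplit : ∀ R : Finset X, (∀ g, ∀ x ∈ R, mv g x ∈ R) → ∀ x ∈ R,
      (∀ g, ∀ y ∈ R \ O x, mv g y ∈ R \ O x) ∧ ∑ y ∈ R, a y = (O x).card * a x + ∑ y ∈ R \ O x, a y := by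
    intro R hR x hx
    have hsub : O x ⊆ R := fun y hy => by
      obtain ⟨g, -, rfl⟩ := Finset.mem_image.1 hy; exact hR g x hx
    refine ⟨fun g y hy => ?_, ?_⟩
    · rw [Finset.mem_sdiff] at hy ⊢
      refine ⟨hR g y hy.1, fun hy' => hy.2 ?_⟩
      obtain ⟨k, -, hk⟩ := Finset.mem_image.1 hy'
      exact Finset.mem_image.2 ⟨g⁻¹ * k, Finset.mem_univ _, by rw [hm, hk, hback]⟩
    · rw [← Finset.sum_sdiff hsub, add_comm, Finset.sum_congr rfl (g := fun _ => a x) fun y hy => ?_,
        Finset.sum_const, smul_eq_mul]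
      obtain ⟨g, -, rfl⟩ := Finset.mem_image.1 hy
      exact hconst x g
  have hx0 : x₀ ∈ Ax := by
    obtain ⟨k, hk⟩ := Finset.card_pos.1 (show 0 < a x₀ by
      rw [ha]; rcases h4 with ⟨q, hq⟩; simp only; omega)
    simp only [Finset.mem_filter, Finset.mem_univ, true_and] at hk
    exact Finset.mem_image.2 ⟨k, by simpa using hk.1, hk.2⟩
  -- the numbers attached to an orbit
  have hnum : ∀ x ∈ Ax,
      N ≤ 4 * ((O x).card * a x) ∧
      ((2 * ((O x).card * a x) + 2 * (O x).card = 2 * N ∧
          ((O x).card * 2 = N ∨ (O x).card * 3 ≤ N)) ∨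
       (2 * ((O x).card * a x) + 2 * (O x).card = N ∧
          ((O x).card * 4 = N ∨ (O x).card * 6 = N ∨ (O x).card * 8 ≤ N))) := by
    intro x hx
    have hp := hapos x hx
    have ho := horbst x
    rcases hstAx x hx with h | h <;> rw [h] at ho
    · refine ⟨by nlinarith, Or.inl ⟨by nlinarith, ?_⟩⟩
      rcases Nat.lt_or_ge (a x) 2 with h2 | h2
      · left; rw [show a x = 1 by omega] at ho; omega
      · right; nlinarith
    · refine ⟨by nlinarith, Or.inr ⟨by nlinarith, ?_⟩⟩
      rcases Nat.lt_or_ge (a x) 3 with h2 | h2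
      · interval_cases (a x) <;> omega
      · right; right; nlinarith
  obtain ⟨hR1, e1⟩ := hsplit Ax hclosed x₀ hx0
  have ho0 := horbst x₀
  change st x₀ = 2 * (a x₀ + 1) at hst0
  rw [hst0] at ho0
  have hs0 : (O x₀).card * 8 = N ∨ (O x₀).card * 16 ≤ N := by
    obtain ⟨q, hq⟩ := h4
    change a x₀ + 1 = 4 * q at hq
    rw [hq] at ho0
    rcases Nat.lt_or_ge q 2 with h | h
    · left; interval_cases q <;> omega
    · right; nlinarith
  have hP0 : 2 * ((O x₀).card * a x₀) + 2 * (O x₀).card = N := by nlinarith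
  change 3 ≤ (O x₀).card at horb
  show (O x₀).card = 3
  have hNpos : 0 < N := Fintype.card_pos
  rw [htot] at e1
  rcases Finset.eq_empty_or_nonempty (Ax \ O x₀) with hR | ⟨x, hx⟩
  · rw [hR, Finset.sum_empty] at e1; omega
  obtain ⟨hR2, e2⟩ := hsplit _ hR1 x hx
  obtain ⟨n1, n1'⟩ := hnum x (Finset.mem_sdiff.1 hx).1
  rcases Finset.eq_empty_or_nonempty ((Ax \ O x₀) \ O x) with hR | ⟨y, hy⟩
  · rw [hR, Finset.sum_empty] at e2; omega
  obtain ⟨hR3, e3⟩ := hsplit _ hR2 y hy
  obtain ⟨n2, n2'⟩ := hnum y (Finset.mem_sdiff.1 (Finset.mem_sdiff.1 hy).1).1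
  rcases Finset.eq_empty_or_nonempty (((Ax \ O x₀) \ O x) \ O y) with hR | ⟨z, hz⟩
  · rw [hR, Finset.sum_empty] at e3; omega
  obtain ⟨-, e4⟩ := hsplit _ hR3 z hz
  obtain ⟨n3, -⟩ := hnum z (Finset.mem_sdiff.1 (Finset.mem_sdiff.1 (Finset.mem_sdiff.1 hz).1).1).1
  omega

end Count

end Cfsg.Agent.Forms.Max.UnitFrame
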