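import Mathlib
import Cfsg.Agent.Lib.Forms.Max.OrthBase

/-!
# Orthogonal frames of vectors with a common value

Coordinates, monomial isometries, and the class of vectors whose reflection differs from those of the frame by an
element of a subgroup containing the monomial part of Omega.
-/

set_option autoImplicit false
set_option linter.unusedSectionVars false

namespace Cfsg.Agent.Forms.Max.UnitFrame

open Matrix Cfsg.Agent.Forms.QuadStd Cfsg.Agent.Forms.Reflections Cfsg.Agent.Classical.Orth

variable {F : Type*} [Field F] [Fintype F] {ι : Type} [Fintype ι] [DecidableEq ι]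

/-- standard inner product -/
def dot {n : ℕ} (x y : Fin n → F) : F := ∑ i, x i * y i

/-- a frame, and a subgroup containing the isometries in Omega which are monomial for it -/
structure Setup (Q : QuadraticForm F (ι → F)) (n : ℕ) where
  nd : (QuadraticMap.polarBilin Q).Nondegenerate
  two : (2 : F) ≠ 0
  five : 5 ≤ n
  five' : 5 ≤ Fintype.card ι
  c : F
  c_ne : c ≠ 0
  e : Fin n → (ι → F)
  value : ∀ i, Q (e i) = c
  orth : ∀ i j, i ≠ j → QuadraticMap.polar Q (e i) (e j) = 0
  span : Submodule.span F (Set.range e) = ⊤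
  M : Subgroup (Cfsg.isometryGroup F ⇑Q)
  mono_mem : ∀ g ∈ Cfsg.Omega F ⇑Q, (∀ i, ∃ j, ∃ a : F, act g (e i) = a • e j) → g ∈ M

variable {Q : QuadraticForm F (ι → F)} {n : ℕ} (S : Setup Q n)

local notation "Vec" => (ι → F)
local notation "B" => QuadraticMap.polar Q
set_option quotPrecheck false in
local notation "Iso" => Cfsg.isometryGroup F ⇑Q

namespace Setup

/-- monomial for the frame -/
def Mon (g : Cfsg.isometryGroup F ⇑Q) : Prop := ∀ i, ∃ j, ∃ a : F, act g (S.e i) = a • S.e j

theorem mem_of_mon {g : Iso} (hg : g ∈ Cfsg.Omega F ⇑Q) (hm : S.Mon g) : g ∈ S.M :=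
  S.mono_mem g hg hm

/-- the vector with given coordinates -/
def vec : (Fin n → F) →ₗ[F] (ι → F) := Fintype.linearCombination F S.e

theorem vec_apply (x : Fin n → F) : S.vec x = ∑ i, x i • S.e i :=
  Fintype.linearCombination_apply F S.e x

/-- coordinates -/
def co (v : ι → F) : Fin n → F := fun i => (2 * S.c)⁻¹ * QuadraticMap.polar Q (S.e i) v

theorem two_c : (2 * S.c : F) ≠ 0 := mul_ne_zero S.two S.c_ne

theorem polar_e_e (i j : Fin n) : B (S.e i) (S.e j) = if i = j then 2 * S.c else 0 := by
  by_cases h : i = j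
  · subst h; rw [if_pos rfl, polar_self', S.value]
  · rw [if_neg h, S.orth i j h]

theorem polar_e_vec (i : Fin n) (x : Fin n → F) : B (S.e i) (S.vec x) = 2 * S.c * x i := by
  have h : ∀ s : Finset (Fin n), B (S.e i) (∑ j ∈ s, x j • S.e j) = ∑ j ∈ s, x j * B (S.e i) (S.e j) := by
    intro s
    induction s using Finset.induction with
    | empty => simp [QuadraticMap.polar, QuadraticMap.map_zero]
    | insert a s ha ih =>
      rw [Finset.sum_insert ha, Finset.sum_insert ha, QuadraticMap.polar_add_right,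
        QuadraticMap.polar_smul_right, smul_eq_mul, ih]
  rw [vec_apply, h]
  simp only [polar_e_e, mul_ite, mul_zero, Finset.sum_ite_eq, Finset.mem_univ, if_true]
  ring

theorem co_vec (x : Fin n → F) : S.co (S.vec x) = x := by
  funext i
  rw [co, polar_e_vec, ← mul_assoc, inv_mul_cancel₀ S.two_c, one_mul]

theorem vec_co (v : Vec) : S.vec (S.co v) = v := by
  refine sub_eq_zero.1 (S.nd.2 _ fun y => ?_)
  have hy : y ∈ Submodule.span F (Set.range S.e) := by rw [S.span]; trivial
  show B y (S.vec (S.co v) - v) = 0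
  induction hy using Submodule.span_induction with
  | mem w hw =>
    obtain ⟨i, rfl⟩ := hw
    rw [QuadraticMap.polar_sub_right, polar_e_vec, co, ← mul_assoc, mul_inv_cancel₀ S.two_c, one_mul, sub_self]
  | zero => simp [QuadraticMap.polar, QuadraticMap.map_zero]
  | add a b _ _ ha hb => rw [QuadraticMap.polar_add_left, ha, hb, add_zero]
  | smul t a _ ha => rw [QuadraticMap.polar_smul_left, ha, smul_zero]

theorem vec_single (i : Fin n) : S.vec (Pi.single i 1) = S.e i := by
  rw [vec_apply, Finset.sum_eq_single i (fun j _ hj => by rw [Pi.single_eq_of_ne hj, zero_smul])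
    (fun h => absurd (Finset.mem_univ i) h), Pi.single_eq_same, one_smul]

theorem co_e (i : Fin n) : S.co (S.e i) = Pi.single i 1 := by rw [← vec_single, co_vec]

theorem co_injective : Function.Injective S.co := fun u v h => by rw [← S.vec_co u, h, S.vec_co]

theorem polar_vec_vec (x y : Fin n → F) : B (S.vec x) (S.vec y) = 2 * S.c * dot x y := by
  have h : ∀ s : Finset (Fin n), B (∑ j ∈ s, x j • S.e j) (S.vec y) = ∑ j ∈ s, x j * (2 * S.c * y j) := by
    intro s
    induction s using Finset.induction with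
    | empty => simp [QuadraticMap.polar, QuadraticMap.map_zero]
    | insert a s ha ih =>
      rw [Finset.sum_insert ha, Finset.sum_insert ha, QuadraticMap.polar_add_left,
        QuadraticMap.polar_smul_left, smul_eq_mul, polar_e_vec, ih]
  conv_lhs => arg 2; rw [vec_apply]
  rw [h, dot, Finset.mul_sum]
  exact Finset.sum_congr rfl fun i _ => by ring

theorem Q_vec (x : Fin n → F) : Q (S.vec x) = S.c * dot x x := by
  have h := S.polar_vec_vec x x
  rw [polar_self'] at h
  exact mul_left_cancel₀ S.two (by linear_combination h)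

theorem dot_comm (x y : Fin n → F) : dot x y = dot y x := Finset.sum_congr rfl fun i _ => mul_comm _ _

theorem ext_e {g h : Iso} (H : ∀ i, act g (S.e i) = act h (S.e i)) : g = h := by
  refine act_ext fun v => ?_
  have hy : v ∈ Submodule.span F (Set.range S.e) := by rw [S.span]; trivial
  induction hy using Submodule.span_induction with
  | mem w hw => obtain ⟨i, rfl⟩ := hw; exact H i
  | zero => simp
  | add a b _ _ ha hb => rw [map_add, map_add, ha, hb]
  | smul t a _ ha => rw [map_smul, map_smul, ha]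

/-! ### Reflections -/

/-- the reflection in coordinates -/
def rf (x y : Fin n → F) : Fin n → F := y - (2 * dot x y) • x

/-- the reflection in the vector with given coordinates -/
def r (x : Fin n → F) : Cfsg.isometryGroup F ⇑Q := reflect Q (S.vec x)

theorem act_r {x : Fin n → F} (hx : dot x x = 1) (y : Fin n → F) :
    act (S.r x) (S.vec y) = S.vec (rf x y) := by
  rw [r, act_reflect, S.Q_vec, S.polar_vec_vec, hx, rf, map_sub, map_smul, mul_one,
    show S.c⁻¹ * (2 * S.c * dot x y) = 2 * dot x y by field_simp [S.c_ne]]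

theorem r_ne {x : Fin n → F} (hx : dot x x = 1) : Q (S.vec x) ≠ 0 := by
  rw [S.Q_vec, hx, mul_one]; exact S.c_ne

theorem r_mul_self (x : Fin n → F) : S.r x * S.r x = 1 := reflect_sq _

theorem r_inv (x : Fin n → F) : (S.r x)⁻¹ = S.r x := inv_eq_of_mul_eq_one_left (S.r_mul_self x)

theorem dot_single (i : Fin n) (x : Fin n → F) : dot (Pi.single i 1) x = x i := by
  rw [dot, Finset.sum_eq_single i (fun j _ hj => by rw [Pi.single_eq_of_ne hj, zero_mul])
    (fun h => absurd (Finset.mem_univ i) h), Pi.single_eq_same, one_mul]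

theorem dot_single_self (i : Fin n) : dot (Pi.single i (1 : F)) (Pi.single i 1) = 1 := by
  rw [dot_single, Pi.single_eq_same]

/-- the coordinates of an image -/
noncomputable def img (g : Cfsg.isometryGroup F ⇑Q) (x : Fin n → F) : Fin n → F := S.co (act g (S.vec x))

theorem vec_img (g : Iso) (x : Fin n → F) : S.vec (S.img g x) = act g (S.vec x) := S.vec_co _

theorem img_mul (g h : Iso) (x : Fin n → F) : S.img (g * h) x = S.img g (S.img h x) := by
  rw [img, img, vec_img, act_mul]

theorem img_one (x : Fin n → F) : S.img 1 x = x := by rw [img, act_one, co_vec]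

theorem img_inv_img (g : Iso) (x : Fin n → F) : S.img g⁻¹ (S.img g x) = x := by
  rw [← img_mul, inv_mul_cancel, img_one]

theorem img_img_inv (g : Iso) (x : Fin n → F) : S.img g (S.img g⁻¹ x) = x := by
  rw [← img_mul, mul_inv_cancel, img_one]

theorem dot_img (g : Iso) (x y : Fin n → F) : dot (S.img g x) (S.img g y) = dot x y := by
  refine mul_left_cancel₀ S.two_c ?_
  rw [← polar_vec_vec, ← polar_vec_vec, vec_img, vec_img, act_polar]

theorem img_add (g : Iso) (x y : Fin n → F) : S.img g (x + y) = S.img g x + S.img g y := by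
  apply Function.LeftInverse.injective S.co_vec
  rw [vec_img, map_add, map_add, map_add, vec_img, vec_img]

theorem img_smul (g : Iso) (t : F) (x : Fin n → F) : S.img g (t • x) = t • S.img g x := by
  apply Function.LeftInverse.injective S.co_vec
  rw [vec_img, map_smul, map_smul, map_smul, vec_img]

theorem img_r {x : Fin n → F} (hx : dot x x = 1) (y : Fin n → F) : S.img (S.r x) y = rf x y := by
  rw [img, S.act_r hx, co_vec]

theorem r_conj (g : Iso) (x : Fin n → F) : g * S.r x * g⁻¹ = S.r (S.img g x) := by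
  rw [r, r, vec_img, Spinor.reflect_conj]

theorem rf_self {x : Fin n → F} (hx : dot x x = 1) : rf x x = -x := by
  rw [rf, hx, mul_one, two_smul]; abel

/-! ### Monomial isometries -/

/-- the class modulo Omega -/
noncomputable def cls : Cfsg.isometryGroup F ⇑Q →* Cfsg.isometryGroup F ⇑Q ⧸ Cfsg.Omega F ⇑Q :=
  QuotientGroup.mk' _

theorem cls_eq_one {g : Iso} : cls g = 1 ↔ g ∈ Cfsg.Omega F ⇑Q := QuotientGroup.eq_one_iff g

theorem cls_comm (a b : Iso ⧸ Cfsg.Omega F ⇑Q) : a * b = b * a := by
  obtain ⟨a, rfl⟩ := QuotientGroup.mk'_surjective _ a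
  obtain ⟨b, rfl⟩ := QuotientGroup.mk'_surjective _ b
  exact mul_comm (Abelianization.of a) (Abelianization.of b)

include S in
theorem pair_omega {z z' : Vec} (hz : Q z ≠ 0) (h : Q z' = Q z) :
    reflect Q z * reflect Q z' ∈ Cfsg.Omega F ⇑Q := by
  obtain ⟨f⟩ := Orth.exists_frame S.nd S.five'
  have e := (QuotientGroup.eq).1 (reflect_mk_eq S.nd f hz h)
  rwa [inv_eq_of_mul_eq_one_left (reflect_sq z), ← omega_eq_eGroup S.nd f S.five'] at e

include S in
theorem cls_reflect {z z' : Vec} (hz : Q z ≠ 0) (h : Q z' = Q z) :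
    cls (reflect Q z) = cls (reflect Q z') := by
  refine eq_of_mul_inv_eq_one ?_
  rw [← map_inv, inv_eq_of_mul_eq_one_left (reflect_sq z'), ← map_mul, cls_eq_one]
  exact S.pair_omega hz h

/-- the linear equivalence changing signs and permuting -/
noncomputable def monoEquiv (σ : Equiv.Perm (Fin n)) (s : Fin n → ℤˣ) : (ι → F) ≃ₗ[F] (ι → F) where
  toFun v := S.vec fun i => ((s i : ℤ) : F) * S.co v (σ.symm i)
  invFun v := S.vec fun i => ((s (σ i) : ℤ) : F) * S.co v (σ i)
  map_add' u v := by
    rw [← map_add]; congr 1; funext i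
    simp only [co, Pi.add_apply, QuadraticMap.polar_add_right]; ring
  map_smul' t v := by
    rw [RingHom.id_apply, ← map_smul]; congr 1; funext i
    simp only [co, Pi.smul_apply, QuadraticMap.polar_smul_right, smul_eq_mul]; ring
  left_inv v := by
    show S.vec _ = v
    conv_rhs => rw [← S.vec_co v]
    congr 1; funext i
    rw [co_vec]
    rw [σ.symm_apply_apply, ← mul_assoc, ← Int.cast_mul, ← Units.val_mul, Int.units_mul_self]
    simp
  right_inv v := by
    show S.vec _ = v
    conv_rhs => rw [← S.vec_co v]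
    congr 1; funext i
    rw [co_vec]
    rw [σ.apply_symm_apply, ← mul_assoc, ← Int.cast_mul, ← Units.val_mul, Int.units_mul_self]
    simp

theorem monoEquiv_map (σ : Equiv.Perm (Fin n)) (s : Fin n → ℤˣ) (v : Vec) :
    Q (S.monoEquiv σ s v) = Q v := by
  conv_rhs => rw [← S.vec_co v]
  show Q (S.vec _) = _
  rw [S.Q_vec, S.Q_vec, dot, dot]
  congr 1
  refine Fintype.sum_equiv σ.symm _ _ fun i => ?_
  have : ((s i : ℤ) : F) * ((s i : ℤ) : F) = 1 := by
    rw [← Int.cast_mul, ← Units.val_mul, Int.units_mul_self]; simp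
  linear_combination (S.co v (σ.symm i) * S.co v (σ.symm i)) * this

/-- monomial isometry -/
noncomputable def mono (σ : Equiv.Perm (Fin n)) (s : Fin n → ℤˣ) : Cfsg.isometryGroup F ⇑Q :=
  QuadStd.isoOfEquiv ⇑Q (S.monoEquiv σ s) (S.monoEquiv_map σ s)

theorem act_mono (σ : Equiv.Perm (Fin n)) (s : Fin n → ℤˣ) (v : Vec) :
    act (S.mono σ s) v = S.vec fun i => ((s i : ℤ) : F) * S.co v (σ.symm i) := by
  rw [act_apply, mono, QuadStd.isoOfEquiv_mulVec]; rfl

theorem img_mono (σ : Equiv.Perm (Fin n)) (s : Fin n → ℤˣ) (x : Fin n → F) (i : Fin n) :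
    S.img (S.mono σ s) x i = ((s i : ℤ) : F) * x (σ.symm i) := by
  rw [img, act_mono, co_vec, co_vec]

theorem act_mono_e (σ : Equiv.Perm (Fin n)) (s : Fin n → ℤˣ) (i : Fin n) :
    act (S.mono σ s) (S.e i) = ((s (σ i) : ℤ) : F) • S.e (σ i) := by
  rw [act_mono, co_e, ← vec_single, ← map_smul]
  congr 1; funext j
  rw [Pi.smul_apply, smul_eq_mul]
  by_cases h : j = σ i
  · subst h; simp
  · have h' : σ.symm j ≠ i := fun e => h (by rw [← e, σ.apply_symm_apply])
    simp [Pi.single_eq_of_ne h, Pi.single_eq_of_ne h']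

/-- permutation isometry -/
noncomputable def perm (σ : Equiv.Perm (Fin n)) : Cfsg.isometryGroup F ⇑Q := S.mono σ fun _ => 1

/-- sign changes -/
noncomputable def eps (T : Finset (Fin n)) : Cfsg.isometryGroup F ⇑Q :=
  S.mono 1 fun i => if i ∈ T then -1 else 1

theorem act_perm (σ : Equiv.Perm (Fin n)) (i : Fin n) : act (S.perm σ) (S.e i) = S.e (σ i) := by
  rw [perm, act_mono_e]; simp

theorem act_eps (T : Finset (Fin n)) (i : Fin n) :
    act (S.eps T) (S.e i) = if i ∈ T then -S.e i else S.e i := by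
  rw [eps, act_mono_e]
  by_cases h : i ∈ T <;> simp [h]

theorem img_perm (σ : Equiv.Perm (Fin n)) (x : Fin n → F) (i : Fin n) :
    S.img (S.perm σ) x i = x (σ.symm i) := by
  rw [perm, img_mono]; simp

theorem img_eps (T : Finset (Fin n)) (x : Fin n → F) (i : Fin n) :
    S.img (S.eps T) x i = if i ∈ T then -x i else x i := by
  rw [eps, img_mono, show (1 : Equiv.Perm (Fin n)).symm i = i from rfl]
  by_cases h : i ∈ T <;> simp [h]

theorem perm_mul (σ τ : Equiv.Perm (Fin n)) : S.perm (σ * τ) = S.perm σ * S.perm τ :=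
  S.ext_e fun i => by rw [act_mul, act_perm, act_perm, act_perm]; rfl

theorem perm_one : S.perm 1 = 1 := S.ext_e fun i => by rw [act_perm, act_one]; rfl

theorem eps_empty : S.eps ∅ = 1 := S.ext_e fun i => by rw [act_eps, act_one]; simp

theorem eps_single (a : Fin n) : S.eps {a} = reflect Q (S.e a) := by
  refine S.ext_e fun i => ?_
  rw [act_eps, act_reflect, S.value, polar_e_e]
  by_cases h : i = a
  · subst h
    rw [if_pos (Finset.mem_singleton_self i), if_pos rfl]
    rw [show S.c⁻¹ * (2 * S.c) = 2 by field_simp [S.c_ne], two_smul]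
    abel
  · rw [if_neg (by simp [h]), if_neg (Ne.symm h), mul_zero, zero_smul, sub_zero]

theorem eps_mul (A T : Finset (Fin n)) : S.eps A * S.eps T = S.eps (symmDiff A T) := by
  refine S.ext_e fun i => ?_
  rw [act_mul, act_eps, act_eps]
  by_cases ha : i ∈ A <;> by_cases ht : i ∈ T <;> simp [ha, ht, Finset.mem_symmDiff, act_eps, map_neg]

theorem eps_sq (A : Finset (Fin n)) : S.eps A * S.eps A = 1 := by
  rw [eps_mul, symmDiff_self]; exact S.eps_empty

theorem eps_inv (A : Finset (Fin n)) : (S.eps A)⁻¹ = S.eps A := inv_eq_of_mul_eq_one_left (S.eps_sq A)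

theorem eps_insert {a : Fin n} {T : Finset (Fin n)} (h : a ∉ T) :
    S.eps (insert a T) = S.eps {a} * S.eps T := by
  rw [eps_mul]; congr 1
  ext i
  by_cases hi : i = a
  · subst hi; simp [Finset.mem_symmDiff, h]
  · simp [Finset.mem_symmDiff, hi]

theorem perm_swap {a b : Fin n} (hab : a ≠ b) :
    S.perm (Equiv.swap a b) = reflect Q (S.e a - S.e b) := by
  refine S.ext_e fun i => ?_
  have hQ : Q (S.e a - S.e b) = 2 * S.c := by
    rw [Classical.Orth.map_sub', S.value, S.value, S.orth a b hab]; ring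
  rw [act_perm, act_reflect, hQ, QuadraticMap.polar_sub_left, polar_e_e, polar_e_e]
  by_cases ha : i = a
  · subst ha
    rw [Equiv.swap_apply_left, if_pos rfl, if_neg (Ne.symm hab), sub_zero, inv_mul_cancel₀ S.two_c, one_smul]
    abel
  · by_cases hb : i = b
    · subst hb
      rw [Equiv.swap_apply_right, if_neg hab, if_pos rfl, zero_sub, mul_neg, inv_mul_cancel₀ S.two_c,
        neg_smul, one_smul]
      abel
    · rw [Equiv.swap_apply_of_ne_of_ne ha hb, if_neg (Ne.symm ha), if_neg (Ne.symm hb)]
      simp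

theorem cls_perm (σ : Equiv.Perm (Fin n)) (T : Iso ⧸ Cfsg.Omega F ⇑Q)
    (hT : ∀ a b : Fin n, a ≠ b → cls (S.perm (Equiv.swap a b)) = T) :
    (Equiv.Perm.sign σ = 1 → cls (S.perm σ) = 1) ∧ (Equiv.Perm.sign σ = -1 → cls (S.perm σ) = T) := by
  induction σ using Equiv.Perm.swap_induction_on with
  | one => exact ⟨fun _ => by rw [perm_one, map_one], fun h => absurd h (by rw [map_one]; decide)⟩
  | swap_mul f a b hab ih =>
    have hTT : T * T = 1 := by
      rw [← hT a b hab, ← map_mul, ← perm_mul, Equiv.swap_mul_self, perm_one, map_one]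
    rw [show cls (S.perm (Equiv.swap a b * f)) = T * cls (S.perm f) by rw [perm_mul, map_mul, hT a b hab],
      map_mul Equiv.Perm.sign, Equiv.Perm.sign_swap hab]
    refine ⟨fun h => ?_, fun h => ?_⟩
    · rcases Int.units_eq_one_or (Equiv.Perm.sign f) with h1 | h1
      · rw [h1] at h; exact absurd h (by decide)
      · rw [ih.2 h1, hTT]
    · rcases Int.units_eq_one_or (Equiv.Perm.sign f) with h1 | h1
      · rw [ih.1 h1, mul_one]
      · rw [h1] at h; exact absurd h (by decide)

theorem cls_swap (a b a' b' : Fin n) (h : a ≠ b) (h' : a' ≠ b') :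
    cls (S.perm (Equiv.swap a b)) = cls (S.perm (Equiv.swap a' b')) := by
  rw [perm_swap S h, perm_swap S h']
  have hv : ∀ x y : Fin n, x ≠ y → Q (S.e x - S.e y) = 2 * S.c := fun x y hxy => by
    rw [Classical.Orth.map_sub', S.value, S.value, S.orth x y hxy]; ring
  exact S.cls_reflect (by rw [hv a b h]; exact S.two_c) (by rw [hv a b h, hv a' b' h'])

theorem perm_omega {σ : Equiv.Perm (Fin n)} (h : Equiv.Perm.sign σ = 1) :
    S.perm σ ∈ Cfsg.Omega F ⇑Q := by
  have := S.five
  let a : Fin n := ⟨0, by omega⟩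
  let b : Fin n := ⟨1, by omega⟩
  exact cls_eq_one.1 ((S.cls_perm σ _ fun x y hxy => S.cls_swap x y a b hxy (by simp [a, b])).1 h)

theorem perm_mon (σ : Equiv.Perm (Fin n)) : S.Mon (S.perm σ) :=
  fun i => ⟨σ i, 1, by rw [act_perm, one_smul]⟩

theorem perm_mem {σ : Equiv.Perm (Fin n)} (h : Equiv.Perm.sign σ = 1) : S.perm σ ∈ S.M :=
  S.mem_of_mon (S.perm_omega h) (S.perm_mon σ)

theorem eps_mon (T : Finset (Fin n)) : S.Mon (S.eps T) :=
  fun i => ⟨i, if i ∈ T then -1 else 1, by rw [act_eps]; split <;> simp⟩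

theorem eps_omega {T : Finset (Fin n)} (h : Even T.card) : S.eps T ∈ Cfsg.Omega F ⇑Q := by
  have hcl : ∀ a b : Fin n, cls (S.eps {a}) = cls (S.eps {b}) := fun a b => by
    rw [eps_single, eps_single]
    exact S.cls_reflect (by rw [S.value]; exact S.c_ne) (by rw [S.value, S.value])
  have key : ∀ U : Finset (Fin n), ∀ b, cls (S.eps U) = cls (S.eps {b}) ^ U.card := by
    intro U b
    induction U using Finset.induction with
    | empty => rw [eps_empty, map_one, Finset.card_empty, pow_zero]
    | insert a U ha ih => rw [S.eps_insert ha, map_mul, ih, hcl a b, Finset.card_insert_of_notMem ha, pow_succ']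
  have := S.five
  obtain ⟨k, hk⟩ := h
  refine cls_eq_one.1 ?_
  rw [key T ⟨0, by omega⟩, hk, ← two_mul, pow_mul, pow_two, ← map_mul, eps_sq, map_one, one_pow]

theorem eps_mem {T : Finset (Fin n)} (h : Even T.card) : S.eps T ∈ S.M :=
  S.mem_of_mon (S.eps_omega h) (S.eps_mon T)

theorem r_single (i : Fin n) : S.r (Pi.single i 1) = S.eps {i} := by rw [r, vec_single, eps_single]

/-! ### The class of the frame -/

/-- coordinates of vectors whose reflection agrees with that of a frame vector modulo `M` -/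
def R0 (x : Fin n → F) : Prop := dot x x = 1 ∧ ∀ i, S.r x * S.r (Pi.single i 1) ∈ S.M

variable {S}

theorem single_mem (i : Fin n) : S.R0 (Pi.single i 1) := by
  refine ⟨dot_single_self i, fun j => ?_⟩
  rw [r_single, r_single, eps_mul]
  by_cases h : i = j
  · subst h
    rw [symmDiff_self]; exact S.eps_empty ▸ one_mem _
  · refine S.eps_mem ?_
    rw [show symmDiff ({i} : Finset (Fin n)) {j} = {i, j} by
      ext k; by_cases hk : k = i <;> by_cases hk' : k = j <;> simp_all [Finset.mem_symmDiff],
      Finset.card_pair h]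
    exact even_two

theorem R0.pair {x y : Fin n → F} (hx : S.R0 x) (hy : S.R0 y) : S.r x * S.r y ∈ S.M := by
  have := S.five
  let i : Fin n := ⟨0, by omega⟩
  have h := mul_mem (hx.2 i) (inv_mem (hy.2 i))
  rwa [_root_.mul_inv_rev, r_inv, r_inv, mul_assoc, ← mul_assoc (S.r (Pi.single i 1)), r_mul_self, one_mul] at h

theorem R0.refl {x y : Fin n → F} (hx : S.R0 x) (hy : S.R0 y) : S.R0 (rf x y) := by
  refine ⟨by rw [← S.img_r hx.1, dot_img]; exact hy.1, fun i => ?_⟩
  rw [← S.img_r hx.1, ← r_conj, r_inv]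
  have h := mul_mem (mul_mem (hx.pair hy) (hx.2 i)) (one_mem S.M)
  rw [mul_one] at h
  simpa [mul_assoc] using h

theorem R0.neg {x : Fin n → F} (hx : S.R0 x) : S.R0 (-x) := rf_self hx.1 ▸ hx.refl hx

theorem R0.image {g : Iso} (hg : g ∈ S.M) {a : Fin n → F} (ha : S.R0 a) (hga : S.R0 (S.img g a))
    {x : Fin n → F} (hx : S.R0 x) : S.R0 (S.img g x) := by
  refine ⟨by rw [dot_img]; exact hx.1, fun i => ?_⟩
  have h := mul_mem (mul_mem (mul_mem hg (hx.pair ha)) (inv_mem hg)) (hga.2 i)
  rw [← r_conj] at *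
  simp only [mul_assoc, inv_mul_cancel_left] at h
  rw [← mul_assoc (S.r a), r_mul_self, one_mul] at h
  simpa [mul_assoc] using h

theorem R0.perm {σ : Equiv.Perm (Fin n)} (hσ : Equiv.Perm.sign σ = 1) {x : Fin n → F} (hx : S.R0 x) :
    S.R0 (fun i => x (σ.symm i)) := by
  have := S.five
  let i : Fin n := ⟨0, by omega⟩
  have e : ∀ y, S.img (S.perm σ) y = fun j => y (σ.symm j) := fun y => funext (S.img_perm σ y)
  rw [← e]
  refine R0.image (S.perm_mem hσ) (single_mem i) ?_ hx
  rw [img, vec_single, act_perm, co_e]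
  exact single_mem _

theorem R0.flip {x : Fin n → F} (hx : S.R0 x) (i : Fin n) : S.R0 (Function.update x i (-x i)) := by
  convert (single_mem (S := S) i).refl hx using 1
  funext j
  by_cases h : j = i
  · subst h
    simp [rf, dot_single]; ring
  · simp [rf, dot_single, h]

end Setup

end Cfsg.Agent.Forms.Max.UnitFrame
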