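import Cfsg.Agent.Lib.Forms.Max.UnitFrame.Triple
import Cfsg.Agent.Lib.Forms.Max.OrthBase

/-!
# Singular vectors among three frame vectors are centres of root groups
-/

set_option autoImplicit false
set_option linter.unusedSectionVars false

namespace Cfsg.Agent.Forms.Max.UnitFrame

open Matrix Cfsg.Agent.Forms.QuadStd Cfsg.Agent.Forms.Reflections Cfsg.Agent.Classical.Orth

variable {F : Type*} [Field F] [Fintype F] {ι : Type} [Fintype ι] [DecidableEq ι] {n : ℕ}
variable {Q : QuadraticForm F (ι → F)} {S : Setup Q n}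

set_option quotPrecheck false in
local notation "Iso" => Cfsg.isometryGroup F ⇑Q

namespace Setup

variable (S) in
/-- a root element of the subgroup -/
def RootIn (z w : Fin n → F) : Prop := ∀ (hz : dot z z = 0) (hzw : dot z w = 0), S.eichC hz hzw ∈ S.M

theorem RootIn.add {z w w' : Fin n → F} (h : S.RootIn z w) (h' : S.RootIn z w') (hw : dot z w = 0)
    (hw' : dot z w' = 0) : S.RootIn z (w + w') := fun hz _ => by
  have := mul_mem (h hz hw) (h' hz hw')
  rwa [eichC_mul] at this

theorem RootIn.smul (hp : (Fintype.card F).Prime) {z w : Fin n → F} (t : F) (h : S.RootIn z w)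
    (hw : dot z w = 0) : S.RootIn z (t • w) := fun hz hzw => by
  obtain ⟨k, rfl⟩ := natCast_surj hp t
  have := pow_mem (h hz hw) k
  rwa [eichC_pow] at this

/-- two members of the class give a root element -/
theorem root_pair {z w : Fin n → F} {s : F} (hw : S.R0 w) (hws : S.R0 (w + s • z)) :
    S.RootIn z (-(s / S.c) • w) := by
  intro hz hzw
  rcases eq_or_ne s 0 with rfl | hs
  · rw [eichC, eich_congr (show S.vec (-(0 / S.c) • w) = 0 by rw [zero_div, neg_zero, zero_smul, map_zero]),
      eich_zero_right]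
    exact one_mem S.M
  have hzw0 : dot z w = 0 := by
    have := hzw
    rw [dot_smul_right] at this
    exact (mul_eq_zero.1 this).resolve_left (neg_ne_zero.2 (div_ne_zero hs S.c_ne))
  have e : S.eichC hz hzw = S.r (w + s • z) * S.r w := by
    refine S.ext_e fun i => ?_
    rw [act_e, act_e, act_eichC, img_mul, S.img_r hw.1, S.img_r hws.1]
    congr 1
    simp only [rf, dot_add_left, dot_sub_right, dot_smul_left, dot_smul_right]
    simp only [dot_comm (Pi.single i (1 : F)), dot_comm w z, dot_single', hzw0, hw.1]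
    have := S.c_ne
    match_scalars <;> field_simp <;> ring
  rw [e]
  exact hws.pair hw

theorem root_of_pair (hp : (Fintype.card F).Prime) {z w : Fin n → F} {s : F} (hw : S.R0 w)
    (hws : S.R0 (w + s • z)) (hs : s ≠ 0) (hzw : dot z w = 0) : S.RootIn z w := by
  have h0 : -(s / S.c) ≠ 0 := neg_ne_zero.2 (div_ne_zero hs S.c_ne)
  have := (root_pair hw hws).smul hp (-(s / S.c))⁻¹ (by rw [dot_smul_right, hzw, mul_zero])
  rwa [smul_smul, inv_mul_cancel₀ h0, one_smul] at this

/-- the directions inside and the frame vectors outside give a centre -/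
theorem centre_of (hp : (Fintype.card F).Prime) {T : Finset (Fin n)} {z : Fin n → F} (hzT : z ∈ InS F T)
    (hz : dot z z = 0) (hin : ∀ w ∈ InS F T, dot z w = 0 → S.RootIn z w)
    (hout : ∀ d, d ∉ T → S.RootIn z (Pi.single d 1)) : S.vec z ∈ Orth.centres S.M := by
  classical
  refine ⟨S.Q_vec_zero hz, fun v _ hzv => ?_⟩
  set y := S.co v with hy
  have hv : v = S.vec y := (S.vec_co v).symm
  have hzy : dot z y = 0 := by
    rw [hv, S.polar_vec_vec] at hzv
    exact (mul_eq_zero.1 hzv).resolve_left S.two_c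
  set yin : Fin n → F := fun i => if i ∈ T then y i else 0 with hyin
  have hyinT : yin ∈ InS F T := fun i hi => if_neg hi
  have hzyin : dot z yin = 0 := by
    rw [← hzy]
    refine Finset.sum_congr rfl fun i _ => ?_
    by_cases hi : i ∈ T <;> simp [hyin, hi, hzT i]
  have hzd : ∀ d, d ∉ T → dot z (y d • Pi.single d (1 : F)) = 0 := fun d hd => by
    rw [dot_smul_right, dot_single', hzT d hd, mul_zero]
  have key : ∀ D : Finset (Fin n), (∀ d ∈ D, d ∉ T) →
      dot z (yin + ∑ d ∈ D, y d • Pi.single d 1) = 0 ∧ S.RootIn z (yin + ∑ d ∈ D, y d • Pi.single d 1) := by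
    intro D
    induction D using Finset.induction with
    | empty => intro _; rw [Finset.sum_empty, add_zero]; exact ⟨hzyin, hin _ hyinT hzyin⟩
    | insert d D hd ih =>
      intro hD
      obtain ⟨h1, h2⟩ := ih fun d' hd' => hD d' (Finset.mem_insert_of_mem hd')
      have hdT := hD d (Finset.mem_insert_self _ _)
      rw [Finset.sum_insert hd, add_left_comm]
      exact ⟨by rw [dot_add_right, hzd d hdT, h1, add_zero],
        ((hout d hdT).smul hp (y d) (by rw [dot_single', hzT d hdT])).add h2 (hzd d hdT) h1⟩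
  have hdec : y = yin + ∑ d ∈ Tᶜ, y d • Pi.single d 1 := by
    funext i
    rw [Pi.add_apply, Finset.sum_apply]
    simp only [Pi.smul_apply, Pi.single_apply, smul_eq_mul, mul_ite, mul_one, mul_zero, Finset.sum_ite_eq]
    by_cases hi : i ∈ T <;> simp [hyin, hi]
  obtain ⟨h1, h2⟩ := key Tᶜ fun d hd => Finset.mem_compl.1 hd
  rw [← hdec] at h1 h2
  have hm := h2 hz hzy
  rw [eichC] at hm
  rw [eich_congr hv]
  exact hm

variable {a b c : Fin n}

theorem perm_mem_InS {A T : Finset (Fin n)} {σ : Equiv.Perm (Fin n)} (hσ : A.map σ.toEmbedding = T)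
    {x : Fin n → F} (hx : x ∈ InS F A) : (fun i => x (σ.symm i)) ∈ InS F T := fun i hi => by
  refine hx _ fun h => hi ?_
  rw [← hσ, Finset.mem_map_equiv]
  exact h

theorem nontriv_perm {x : Fin n → F} (σ : Equiv.Perm (Fin n)) (hN : Nontriv x) :
    Nontriv fun i => x (σ.symm i) := by
  classical
  rcases hN with h | ⟨a, b, ha, hb, hne⟩
  · refine Or.inl (h.trans (le_of_eq ?_))
    rw [← Finset.card_map σ.toEmbedding]
    congr 1
    ext i
    rw [Finset.mem_map_equiv, mem_supp, mem_supp]
  · exact Or.inr ⟨σ a, σ b, by simpa using ha, by simpa using hb, by simpa using hne⟩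

/-- a member with at most three non-zero coordinates exists in every triple -/
theorem exists_in_triple {x : Fin n → F} (hx : S.R0 x) (hc : (supp x).card ≤ 3) (hN : Nontriv x)
    (hab : a ≠ b) (hac : a ≠ c) (hbc : b ≠ c) :
    ∃ y, S.R0 y ∧ y ∈ InS F {a, b, c} ∧ Nontriv y := by
  classical
  obtain ⟨A, hxA, -, hA⟩ := Finset.exists_subsuperset_card_eq (s := supp x) (t := Finset.univ) (n := 3)
    (Finset.subset_univ _) hc (by rw [Finset.card_univ, Fintype.card_fin]; have := S.five; omega)
  have hT : ({a, b, c} : Finset (Fin n)).card = 3 := Finset.card_eq_three.2 ⟨a, b, c, hab, hac, hbc, rfl⟩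
  obtain ⟨σ, hσ1, -, hσ⟩ := exists_even_perm (T := Finset.univ) (Finset.subset_univ ({a, b, c} : Finset (Fin n)))
    (Finset.subset_univ A) (by omega) (by omega)
  exact ⟨_, R0.perm hσ1 hx, perm_mem_InS hσ (supp_subset_iff.1 hxA), nontriv_perm σ hN⟩

section CaseA

variable (hp : (Fintype.card F).Prime) {x₁ : Fin n → F} (hx : S.R0 x₁) (hc : (supp x₁).card ≤ 3)
  (hN : Nontriv x₁)

include hp hx hc hN

theorem card_ne_three : Fintype.card F ≠ 3 := by
  intro h3
  have hsq : ∀ i, x₁ i ≠ 0 → x₁ i * x₁ i = 1 := fun i hi => by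
    have := FiniteField.pow_card_sub_one_eq_one (x₁ i) hi
    rwa [h3, show 3 - 1 = 2 from rfl, pow_two] at this
  rcases hN with h | ⟨a, b, ha, hb, hne⟩
  · have h1 := hx.1
    rw [dot_eq_sum_of_subset (Finset.Subset.refl (supp x₁)),
      Finset.sum_congr rfl (g := fun _ => (1 : F)) (fun i hi => hsq i (mem_supp.1 hi)), Finset.sum_const,
      le_antisymm hc h, nsmul_eq_mul, mul_one] at h1
    have : Fact (Fintype.card F).Prime := ⟨hp⟩
    have : CharP F (Fintype.card F) := charP_of_card_eq_prime rfl
    have h0 := CharP.cast_eq_zero F (Fintype.card F)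
    rw [h3] at h0
    exact zero_ne_one (h0.symm.trans h1)
  · exact hne (by rw [hsq a ha, hsq b hb])

/-- every vector of norm one among three frame vectors is a member -/
theorem units_triple (hab : a ≠ b) (hac : a ≠ c) (hbc : b ≠ c) :
    ∀ y ∈ InS F {a, b, c}, dot y y = 1 → S.R0 y := by
  classical
  obtain ⟨x, hxR, hxT, hxN⟩ := exists_in_triple hx hc hN hab hac hbc
  obtain ⟨z, f, hz, hf, hzz, hzf, hff, hroot⟩ := exists_root hp hab hac hbc hxR hxT hxN
  set T : Finset (Fin n) := {a, b, c} with hT
  obtain ⟨d, hd⟩ : ∃ d, d ∉ T := by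
    by_contra h
    push Not at h
    have := Finset.card_le_card (show (Finset.univ : Finset (Fin n)) ⊆ T from fun i _ => h i)
    rw [Finset.card_univ, Fintype.card_fin] at this
    have := S.five
    have : T.card ≤ 3 := Finset.card_le_three
    omega
  have haT : a ∈ T := by simp [hT]
  intro y hy hy1
  refine (all_units (S := S) hp hab hac hbc (fun v => v ∈ InS F T ∧ S.R0 v) (fun v hv => ⟨hv.1, hv.2.1⟩)
    ⟨single_mem_InS haT, single_mem a⟩ (fun v hv => ⟨fun i hi => ?_, R0.perm ?_ hv.2⟩)
    (fun v hv i hi => ⟨fun m hm => ?_, hv.2.flip i⟩)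
    (fun u v hu hv => ⟨Submodule.sub_mem _ hv.1 (Submodule.smul_mem _ _ hu.1), hu.2.refl hv.2⟩)
    hz hf hzz hzf hff (fun w hw hzw v hv => ?_) y hy hy1).2
  · show v ((Equiv.swap a b * Equiv.swap b c).symm i) = 0
    have hf : (Equiv.swap a b * Equiv.swap b c) i = i := by
      simp [hT] at hi
      rw [Equiv.Perm.mul_apply, Equiv.swap_apply_of_ne_of_ne hi.2.1 hi.2.2,
        Equiv.swap_apply_of_ne_of_ne hi.1 hi.2.1]
    have : (Equiv.swap a b * Equiv.swap b c).symm i = i := by rw [Equiv.symm_apply_eq, hf]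
    rw [this]
    exact hv.1 i hi
  · rw [map_mul, Equiv.Perm.sign_swap hab, Equiv.Perm.sign_swap hbc, Int.units_mul_self]
  · rw [Function.update_of_ne (fun e : m = i => hm (e ▸ hi))]; exact hv.1 m hm
  · have hg := S.eichC_mem_Rot hzz hzw hz hw
    refine ⟨Rot.img_mem hg hv.1, ?_⟩
    exact R0.image (hroot w hw hzw) (single_mem d) (by rw [Rot.col_out hg hd]; exact single_mem d) hv.2

/-- units on four frame vectors of the shape `μ y + ν e` -/
theorem units_four {d : Fin n} (hab : a ≠ b) (hac : a ≠ c) (had : a ≠ d) (hbc : b ≠ c) (hbd : b ≠ d)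
    (hcd : c ≠ d) {μ ν : F} (hμν : μ * μ + ν * ν = 1) {y : Fin n → F} (hy : y ∈ InS F {a, b, d})
    (hy1 : dot y y = 1) : S.R0 (μ • y + ν • Pi.single c 1) := by
  classical
  obtain ⟨x, hxR, hxT, hxN⟩ := exists_in_triple hx hc hN hab had hbd
  obtain ⟨z, f, hz, hf, hzz, hzf, hff, hroot⟩ := exists_root hp hab had hbd hxR hxT hxN
  set T : Finset (Fin n) := {a, b, d} with hT
  have hcT : c ∉ T := by simp [hT, hac.symm, hbc.symm, hcd]
  set τ := Equiv.swap a b * Equiv.swap b d with hτ
  have hτT : ∀ i, i ∉ T → τ i = i := fun i hi => by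
    simp [hT] at hi
    rw [hτ, Equiv.Perm.mul_apply, Equiv.swap_apply_of_ne_of_ne hi.2.1 hi.2.2,
      Equiv.swap_apply_of_ne_of_ne hi.1 hi.2.1]
  have hτT' : ∀ i, i ∉ T → τ.symm i = i := fun i hi => by
    conv_lhs => rw [← hτT i hi]
    rw [τ.symm_apply_apply]
  have hunit : ∀ {v}, v ∈ InS F T → dot v v = 1 → S.R0 v := fun hv hv1 =>
    units_triple hp hx hc hN hab had hbd _ hv hv1
  have hvc : ∀ {v}, v ∈ InS F T → dot (Pi.single c 1) v = 0 := fun {v} hv => by rw [dot_single, hv c hcT]
  refine ((all_units (S := S) hp hab had hbd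
    (fun v => v ∈ InS F T ∧ dot v v = 1 ∧ S.R0 (μ • v + ν • Pi.single c 1))
    (fun v hv => ⟨hv.1, hv.2.1⟩) ⟨single_mem_InS (by simp [hT]), dot_single_self a, ?_⟩
    (fun v hv => ?_) (fun v hv i hi => ?_) (fun u v hu hv => ?_) hz hf hzz hzf hff
    (fun w hw hzw v hv => ?_)) y hy hy1).2.2
  · refine units_triple hp hx hc hN hab hac hbc _ (Submodule.add_mem _ (Submodule.smul_mem _ _ (single_mem_InS
      (by simp))) (Submodule.smul_mem _ _ (single_mem_InS (by simp)))) ?_
    rw [dot_three hab hac hbc (Submodule.add_mem _ (Submodule.smul_mem _ _ (single_mem_InS (by simp)))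
      (Submodule.smul_mem _ _ (single_mem_InS (by simp))))]
    simp [hab, hab.symm, hac, hac.symm, hbc, hbc.symm]
    linear_combination hμν
  · obtain ⟨h1, h2, h3⟩ := hv
    refine ⟨fun i hi => ?_, ?_, ?_⟩
    · show v (τ.symm i) = 0
      rw [hτT' i hi]; exact h1 i hi
    · rw [← h2]; exact Equiv.sum_comp τ.symm fun i => v i * v i
    · convert R0.perm (σ := τ) (by rw [hτ, map_mul, Equiv.Perm.sign_swap hab, Equiv.Perm.sign_swap hbd,
        Int.units_mul_self]) h3 using 1
      funext i
      have hs : (Pi.single c 1 : Fin n → F) (τ.symm i) = (Pi.single c 1 : Fin n → F) i := by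
        simp only [Pi.single_apply, Equiv.symm_apply_eq, hτT c hcT]
      simp only [Pi.add_apply, Pi.smul_apply, hs]
      rfl
  · obtain ⟨h1, h2, h3⟩ := hv
    refine ⟨fun m hm => by rw [Function.update_of_ne (fun e : m = i => hm (e ▸ hi))]; exact h1 m hm, ?_, ?_⟩
    · rw [← h2]
      refine Finset.sum_congr rfl fun m _ => ?_
      by_cases hm : m = i
      · subst hm; simp
      · simp [hm]
    · convert h3.flip i using 1
      funext m
      by_cases hm : m = i
      · subst hm
        simp [show m ≠ c from fun e => hcT (e ▸ hi)]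
      · simp [hm]
  · obtain ⟨hu1, hu2, -⟩ := hu
    obtain ⟨hv1, hv2, hv3⟩ := hv
    refine ⟨Submodule.sub_mem _ hv1 (Submodule.smul_mem _ _ hu1), ?_, ?_⟩
    · rw [← S.img_r hu2, dot_img, hv2]
    · convert (hunit hu1 hu2).refl hv3 using 1
      simp only [rf, dot_add_right, dot_smul_right, dot_comm u (Pi.single c 1), hvc hu1]
      match_scalars <;> ring
  · obtain ⟨h1, h2, h3⟩ := hv
    have hg := S.eichC_mem_Rot hzz hzw hz hw
    refine ⟨Rot.img_mem hg h1, by rw [dot_img]; exact h2, ?_⟩
    have := R0.image (hroot w hw hzw) (single_mem c) (by rw [Rot.col_out hg hcT]; exact single_mem c) h3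
    rwa [S.img_add, S.img_smul, S.img_smul, Rot.col_out hg hcT] at this

/-- the singular vectors of a triple give root elements with the other frame vectors -/
theorem root_out (hab : a ≠ b) (hac : a ≠ c) (hbc : b ≠ c) {z : Fin n → F} (hz : z ∈ InS F {a, b, c})
    (hzz : dot z z = 0) {d : Fin n} (hd : d ∉ ({a, b, c} : Finset (Fin n))) :
    S.RootIn z (Pi.single d 1) := by
  classical
  simp only [Finset.mem_insert, Finset.mem_singleton, not_or] at hd
  obtain ⟨hda, hdb, hdc⟩ := hd
  have hzd : dot z (Pi.single d 1) = 0 := by rw [dot_single']; exact hz d (by simp [hda, hdb, hdc])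
  have hzero : ∀ p q r : Fin n, p ≠ q → p ≠ r → q ≠ r → ({p, q, r} : Finset (Fin n)) = {a, b, c} → z r = 0 →
      S.RootIn z (Pi.single d 1) := by
    intro p q r hpq hpr hqr he hzr
    have hm : ∀ i, i ∈ ({p, q, r} : Finset (Fin n)) → d ≠ i := fun i hi e => by
      rw [he] at hi; simp [← e, hda, hdb, hdc] at hi
    have hz' : z ∈ InS F {p, q, d} := fun i hi => by
      simp at hi
      by_cases hir : i = r
      · exact hir ▸ hzr
      · exact hz i (by rw [← he]; simp [hi.1, hi.2.1, hir])
    refine root_of_pair hp (single_mem d) (s := 1) (units_triple hp hx hc hN hpq (Ne.symm (hm p (by simp)))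
      (Ne.symm (hm q (by simp))) _ (Submodule.add_mem _ (single_mem_InS (by simp))
        (Submodule.smul_mem _ _ hz')) ?_) one_ne_zero hzd
    rw [one_smul, dot_add_left, dot_add_right, dot_add_right, dot_comm (Pi.single d 1) z, hzd, hzz,
      dot_single_self]
    ring
  by_cases hza : z a = 0
  · exact hzero b c a hbc hab.symm hac.symm (by ext i; simp; tauto) hza
  by_cases hzb : z b = 0
  · exact hzero a c b hac hab hbc.symm (by ext i; simp; tauto) hzb
  by_cases hzc : z c = 0
  · exact hzero a b c hab hac hbc rfl hzc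
  -- all coordinates are non-zero
  have : Fact (Fintype.card F).Prime := ⟨hp⟩
  have hcp : CharP F (Fintype.card F) := charP_of_card_eq_prime rfl
  have hprime0 : ∀ q : ℕ, q.Prime → (q : F) = 0 → Fintype.card F = q := fun q hq h0 =>
    (Nat.prime_dvd_prime_iff_eq hp hq).1 ((CharP.cast_eq_zero_iff F (Fintype.card F) q).1 h0)
  have h3 : (3 : F) ≠ 0 := fun e => card_ne_three hp hx hc hN (hprime0 3 Nat.prime_three (by exact_mod_cast e))
  have h5 : (5 : F) ≠ 0 := by
    intro e
    have h5' := hprime0 5 (by norm_num) (by exact_mod_cast e)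
    have hsq : ∀ t : F, t ≠ 0 → t * t = 1 ∨ t * t = -1 := fun t ht => by
      have := FiniteField.pow_card_sub_one_eq_one t ht
      rw [h5', show 5 - 1 = 4 from rfl] at this
      exact mul_self_eq_one_iff.1 (show (t * t) * (t * t) = 1 by rw [← this]; ring)
    rw [dot_three hab hac hbc hz] at hzz
    have h2 := S.two
    rcases hsq _ hza with e1 | e1 <;> rcases hsq _ hzb with e2 | e2 <;> rcases hsq _ hzc with e3 | e3 <;>
      rw [e1, e2, e3] at hzz <;>
      first
        | exact h3 (by linear_combination hzz)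
        | exact h3 (by linear_combination -hzz)
        | exact one_ne_zero (show (1 : F) = 0 by linear_combination hzz)
        | exact one_ne_zero (show (1 : F) = 0 by linear_combination -hzz)
  set s : F := 4 / (5 * z c) with hs
  have h4 : (4 : F) ≠ 0 := by rw [show (4 : F) = 2 * 2 by norm_num]; exact mul_ne_zero S.two S.two
  have hs0 : s ≠ 0 := div_ne_zero h4 (mul_ne_zero h5 hzc)
  set y : Fin n → F := (5 / 3 : F) • (Pi.single d 1 + s • (z - z c • Pi.single c 1)) with hy
  have hyT : y ∈ InS F {a, b, d} := by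
    refine Submodule.smul_mem _ _ (Submodule.add_mem _ (single_mem_InS (by simp)) (Submodule.smul_mem _ _ ?_))
    intro i hi
    simp at hi
    by_cases hic : i = c
    · subst hic; simp
    · rw [Pi.sub_apply, hz i (by simp [hi.1, hi.2.1, hic]), Pi.smul_apply, Pi.single_eq_of_ne hic, smul_zero,
        sub_zero]
  have hy1 : dot y y = 1 := by
    rw [hy]
    simp only [dot_add_left, dot_add_right, dot_smul_left, dot_smul_right, dot_sub_left, dot_sub_right]
    rw [dot_comm (Pi.single d 1) z, hzd, hzz, dot_comm (Pi.single c 1) z, dot_single' c z, dot_single_self,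
      dot_single_self, dot_single' c (Pi.single d 1), dot_single' d (Pi.single c 1), Pi.single_eq_of_ne hdc,
      Pi.single_eq_of_ne (Ne.symm hdc), hs]
    field_simp
    ring
  refine root_of_pair hp (single_mem d) (s := s) ?_ hs0 hzd
  have := units_four hp hx hc hN hab hac (Ne.symm hda) hbc (Ne.symm hdb) (Ne.symm hdc) (μ := 3 / 5) (ν := 4 / 5)
    (by field_simp; ring) hyT hy1
  convert this using 1
  rw [hy, hs]
  match_scalars <;> field_simp <;> ring

/-- every singular vector of a triple is a centre -/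
theorem centres_A (hab : a ≠ b) (hac : a ≠ c) (hbc : b ≠ c) {v : Fin n → F} (hv : v ∈ InS F {a, b, c})
    (hvv : dot v v = 0) : S.vec v ∈ Orth.centres S.M := by
  classical
  obtain ⟨x, hxR, hxT, hxN⟩ := exists_in_triple hx hc hN hab hac hbc
  obtain ⟨z, f, hz, hf, hzz, hzf, hff, hroot⟩ := exists_root hp hab hac hbc hxR hxT hxN
  have hcz : S.vec z ∈ Orth.centres S.M := centre_of hp hz hzz (fun w hw hzw => fun _ _ => hroot w hw hzw)
    fun d hd => root_out hp hx hc hN hab hac hbc hz hzz hd
  have hdec := decomp3 hab hac hbc hz hf hzz hzf hff hv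
  obtain ⟨h1, h2, h3⟩ := crossT_props hab hac hbc hz hf hzz hzf hff
  set w0 := crossT a b c z f
  rcases eq_or_ne (dot z v) 0 with h0 | h0
  · rw [h0, zero_smul, add_zero] at hdec
    have h4 : dot w0 v = 0 := by
      have e := hvv
      rw [hdec] at e
      simp only [dot_sub_left, dot_sub_right, dot_smul_left, dot_smul_right, dot_comm w0 z, hzz, h1, h3] at e
      exact mul_self_eq_zero.1 (by linear_combination -e)
    rw [h4, zero_smul, sub_zero] at hdec
    rw [hdec, map_smul]
    exact Orth.centres_smul _ hcz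
  have h2' := S.two
  set q := ((2 * dot z v)⁻¹) • z + v with hq
  have hqT : q ∈ InS F {a, b, c} := Submodule.add_mem _ (Submodule.smul_mem _ _ hz) hv
  have hq1 : dot q q = 1 := by
    rw [hq]
    simp only [dot_add_left, dot_add_right, dot_smul_left, dot_smul_right, dot_comm v z, hzz, hvv]
    field_simp
    ring
  have hqR := units_triple hp hx hc hN hab hac hbc q hqT hq1
  obtain ⟨d, hd⟩ : ∃ d, d ∉ ({a, b, c} : Finset (Fin n)) := by
    by_contra h
    push Not at h
    have := Finset.card_le_card (show (Finset.univ : Finset (Fin n)) ⊆ {a, b, c} from fun i _ => h i)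
    rw [Finset.card_univ, Fintype.card_fin] at this
    have := S.five
    have : ({a, b, c} : Finset (Fin n)).card ≤ 3 := Finset.card_le_three
    omega
  have hg := hqR.pair (single_mem d)
  have himg : S.img (S.r q * S.r (Pi.single d 1)) z = (-(2 * dot z v)) • v := by
    rw [img_mul, S.img_r (dot_single_self d), rf, dot_single, hz d hd, mul_zero, zero_smul, sub_zero,
      S.img_r hq1, rf, hq]
    simp only [dot_add_left, dot_smul_left, dot_comm v z, hzz]
    match_scalars <;> field_simp <;> ring
  have hm := Orth.centres_map hg hcz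
  rw [← vec_img, himg, map_smul] at hm
  have := Orth.centres_smul (-(2 * dot z v))⁻¹ hm
  rwa [smul_smul, inv_mul_cancel₀ (neg_ne_zero.2 (mul_ne_zero h2' h0)), one_smul] at this

end CaseA

section CaseB

/-- over three elements the singular vectors of a triple are centres -/
theorem centres_B (hp : (Fintype.card F).Prime) (h3 : Fintype.card F = 3)
    (hfour : ∀ y : Fin n → F, dot y y = 1 → (supp y).card = 4 → S.R0 y)
    (hab : a ≠ b) (hac : a ≠ c) (hbc : b ≠ c) {z : Fin n → F} (hz : z ∈ InS F {a, b, c})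
    (hzz : dot z z = 0) : S.vec z ∈ Orth.centres S.M := by
  classical
  rcases eq_or_ne z 0 with rfl | hz0
  · rw [map_zero]
    exact ⟨QuadraticMap.map_zero Q, fun w h h' => by rw [eich_zero_left]; exact one_mem _⟩
  have hsq : ∀ t : F, t ≠ 0 → t * t = 1 := fun t ht => by
    have := FiniteField.pow_card_sub_one_eq_one t ht
    rwa [h3, show 3 - 1 = 2 from rfl, pow_two] at this
  have : Fact (Fintype.card F).Prime := ⟨hp⟩
  have : CharP F (Fintype.card F) := charP_of_card_eq_prime rfl
  have h30 : (3 : F) = 0 := by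
    have h := CharP.cast_eq_zero F (Fintype.card F)
    rw [h3] at h
    exact_mod_cast h
  obtain ⟨hza, hzb, hzc⟩ : z a ≠ 0 ∧ z b ≠ 0 ∧ z c ≠ 0 := by
    have hd := hzz
    rw [dot_three hab hac hbc hz] at hd
    have hpair : ∀ u v : F, u * u + v * v = 0 → u = 0 ∧ v = 0 := fun u v huv => by
      rcases eq_or_ne u 0 with rfl | hu
      · exact ⟨rfl, mul_self_eq_zero.1 (by linear_combination huv)⟩
      rcases eq_or_ne v 0 with rfl | hv
      · exact ⟨mul_self_eq_zero.1 (by linear_combination huv), rfl⟩
      exact absurd (show (2 : F) = 0 by linear_combination huv - hsq u hu - hsq v hv) S.two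
    have hall : ¬ (z a = 0 ∧ z b = 0 ∧ z c = 0) := fun ⟨ea, eb, ec⟩ => hz0 (funext fun i => show z i = 0 by
      by_cases h1 : i = a
      · exact h1 ▸ ea
      by_cases h2 : i = b
      · exact h2 ▸ eb
      by_cases h3 : i = c
      · exact h3 ▸ ec
      exact hz i (by simp [h1, h2, h3]))
    refine ⟨fun e => hall ?_, fun e => hall ?_, fun e => hall ?_⟩ <;> rw [e] at hd
    · exact ⟨e, hpair _ _ (by linear_combination hd)⟩
    · obtain ⟨h1, h2⟩ := hpair (z a) (z c) (by linear_combination hd); exact ⟨h1, e, h2⟩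
    · obtain ⟨h1, h2⟩ := hpair (z a) (z b) (by linear_combination hd); exact ⟨h1, h2, e⟩
  have hsa := hsq _ hza
  have hsb := hsq _ hzb
  have hsc := hsq _ hzc
  have hzd : ∀ d, d ∉ ({a, b, c} : Finset (Fin n)) → dot z (Pi.single d 1) = 0 := fun d hd => by
    rw [dot_single']; exact hz d hd
  have hout : ∀ d, d ∉ ({a, b, c} : Finset (Fin n)) → S.RootIn z (Pi.single d 1) := by
    intro d hd
    refine root_of_pair hp (single_mem d) (s := 1) (hfour _ ?_ ?_) one_ne_zero (hzd d hd)
    · rw [one_smul, dot_add_left, dot_add_right, dot_add_right, dot_comm (Pi.single d 1) z, hzd d hd, hzz,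
        dot_single_self]
      ring
    · simp at hd
      refine Finset.card_eq_of_equiv_fin ?_ |>.trans rfl
      exact (Finset.equivFinOfCardEq (show (supp (Pi.single d 1 + (1 : F) • z)).card = 4 by
        rw [show supp (Pi.single d 1 + (1 : F) • z) = {a, b, c, d} by
          ext i
          rw [mem_supp, one_smul, Pi.add_apply]
          by_cases h1 : i = d
          · subst h1; simp [hz i (by simp [hd.1, hd.2.1, hd.2.2])]
          by_cases h2 : i = a
          · subst h2; simp [h1, hza]
          by_cases h3 : i = b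
          · subst h3; simp [h1, hzb]
          by_cases h4 : i = c
          · subst h4; simp [h1, hzc]
          simp [h1, h2, h3, h4, hz i (by simp [h2, h3, h4])]]
        rw [Finset.card_insert_of_notMem (by simp [hab, hac, Ne.symm hd.1]),
          Finset.card_insert_of_notMem (by simp [hbc, Ne.symm hd.2.1]), Finset.card_pair (Ne.symm hd.2.2)]))
  have hT : ({a, b, c} : Finset (Fin n)).card ≤ 3 := Finset.card_le_three
  obtain ⟨d, hd, e, he, hde⟩ := Finset.one_lt_card.1 (show 1 < ({a, b, c} : Finset (Fin n))ᶜ.card by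
    rw [Finset.card_compl, Fintype.card_fin]; have := S.five; omega)
  rw [Finset.mem_compl] at hd he
  have huv : ∀ p q r : Fin n, p ≠ q → p ≠ r → q ≠ r → ({p, q, r} : Finset (Fin n)) = {a, b, c} →
      z p * z p = 1 → z q * z q = 1 → z r ≠ 0 →
      dot z (z p • Pi.single p 1 - z q • Pi.single q 1) = 0 ∧
      S.RootIn z (z p • Pi.single p 1 - z q • Pi.single q 1) := by
    intro p q r hpq hpr hqr hpe hp1 hq1 hzr
    set u : Fin n → F := z p • Pi.single p 1 - z q • Pi.single q 1 with hu
    have hzu : dot z u = 0 := by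
      rw [hu, dot_sub_right, dot_smul_right, dot_smul_right, dot_single', dot_single', hp1, hq1, sub_self]
    refine ⟨hzu, ?_⟩
    have hne : ∀ i, i ∈ ({p, q, r} : Finset (Fin n)) → d ≠ i ∧ e ≠ i := fun i hi =>
      ⟨fun h => hd (h ▸ hpe ▸ hi), fun h => he (h ▸ hpe ▸ hi)⟩
    obtain ⟨hdp, hep⟩ := hne p (by simp)
    obtain ⟨hdq, heq⟩ := hne q (by simp)
    obtain ⟨hdr, her⟩ := hne r (by simp)
    set w : Fin n → F := u + (Pi.single d 1 + Pi.single e 1) with hw
    have hzw : dot z w = 0 := by
      rw [hw, dot_add_right, dot_add_right, hzu, hzd d hd, hzd e he, add_zero, add_zero]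
    have hwi : ∀ i, w i = (if i = p then z p else 0) - (if i = q then z q else 0) +
        ((if i = d then 1 else 0) + (if i = e then 1 else 0)) := fun i => by
      simp [hw, hu, Pi.single_apply]
    have hcard : ∀ {i j k l : Fin n}, i ≠ j → i ≠ k → i ≠ l → j ≠ k → j ≠ l → k ≠ l →
        ({i, j, k, l} : Finset (Fin n)).card = 4 := fun {i j k l} h1 h2 h3 h4 h5 h6 => by
      rw [Finset.card_insert_of_notMem (by simp [h1, h2, h3]), Finset.card_insert_of_notMem (by simp [h4, h5]),
        Finset.card_pair h6]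
    have hp0 : z p ≠ 0 := fun e0 => by rw [e0, mul_zero] at hp1; exact zero_ne_one hp1
    have hq0 : z q ≠ 0 := fun e0 => by rw [e0, mul_zero] at hq1; exact zero_ne_one hq1
    have hsw : supp w = {p, q, d, e} := by
      ext i
      rw [mem_supp, hwi]
      by_cases h1 : i = p
      · subst h1; simp [hpq, hdp.symm, hep.symm, hp0]
      by_cases h2 : i = q
      · subst h2; simp [h1, hdq.symm, heq.symm, hq0]
      by_cases h3' : i = d
      · subst h3'; simp [h1, h2, hde]
      by_cases h4 : i = e
      · subst h4; simp [h1, h2, h3']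
      simp [h1, h2, h3', h4]
    have hw1 : dot w w = 1 := by
      rw [dot_eq_sum_of_subset (le_of_eq hsw), Finset.sum_insert (by simp [hpq, hdp.symm, hep.symm]),
        Finset.sum_insert (by simp [hdq.symm, heq.symm]), Finset.sum_pair hde, hwi, hwi, hwi, hwi]
      simp [hpq, hpq.symm, hdp, hdp.symm, hep, hep.symm, hdq, hdq.symm, heq, heq.symm, hde, hde.symm]
      linear_combination hp1 + hq1 + h30
    have hwR : S.R0 w := hfour w hw1 (by
      rw [hsw]
      exact hcard hpq hdp.symm hep.symm hdq.symm heq.symm hde)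
    have hwz : S.R0 (w + (1 : F) • z) := hfour _ (by
      rw [one_smul, dot_add_left w z (w + z), dot_add_right w w z, dot_add_right z w z, dot_comm w z, hzw, hzz,
        hw1]
      ring) (by
      rw [show supp (w + (1 : F) • z) = {p, r, d, e} by
        ext i
        rw [mem_supp, one_smul, Pi.add_apply, hwi]
        by_cases h1 : i = p
        · subst h1; simp [hpq, hdp.symm, hep.symm]
          rw [← two_mul]; exact mul_ne_zero S.two hp0
        by_cases h2 : i = q
        · subst h2; simp [h1, hdq.symm, heq.symm, hqr]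
        by_cases h3' : i = d
        · subst h3'; simp [h1, h2, hde, hz i hd]
        by_cases h4 : i = e
        · subst h4; simp [h1, h2, h3', hz i he]
        by_cases h5 : i = r
        · subst h5; simp [h1, h2, h3', h4, hzr]
        simp [h1, h2, h3', h4, h5, hz i (by rw [← hpe]; simp [h1, h2, h5])]]
      exact hcard hpr hdp.symm hep.symm hdr.symm her.symm hde)
    have hW := root_of_pair hp hwR hwz one_ne_zero hzw
    have hde' : dot z (Pi.single d 1 + Pi.single e 1) = 0 := by rw [dot_add_right, hzd d hd, hzd e he, add_zero]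
    have := hW.add (((hout d hd).add (hout e he) (hzd d hd) (hzd e he)).smul hp (-1) hde') hzw
      (by rw [dot_smul_right, hde', mul_zero])
    rwa [show w + (-1 : F) • (Pi.single d 1 + Pi.single e 1) = u by rw [hw]; module] at this
  refine centre_of hp hz hzz (fun w hw hzw => ?_) hout
  obtain ⟨u1, r1⟩ := huv a b c hab hac hbc rfl hsa hsb hzc
  obtain ⟨u2, r2⟩ := huv b c a hbc hab.symm hac.symm (by ext i; simp; tauto) hsb hsc hza
  have hw' : w = (z a * w a) • (z a • Pi.single a 1 - z b • Pi.single b 1) +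
      (-(z c * w c)) • (z b • Pi.single b 1 - z c • Pi.single c 1) := by
    rw [dot_three hab hac hbc hz] at hzw
    funext i
    simp only [Pi.add_apply, Pi.sub_apply, Pi.smul_apply, Pi.single_apply, smul_eq_mul]
    by_cases h1 : i = a
    · subst h1; simp [hab, hac]; linear_combination -(w i) * hsa
    by_cases h2 : i = b
    · subst h2; simp [h1, hbc]; linear_combination -(w i) * hsb + (z i) * hzw
    by_cases h3' : i = c
    · subst h3'; simp [h1, h2]; linear_combination -(w i) * hsc
    simp [h1, h2, h3', hw i (by simp [h1, h2, h3'])]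
  rw [hw']
  exact (r1.smul hp _ u1).add (r2.smul hp _ u2) (by rw [dot_smul_right, u1, mul_zero])
    (by rw [dot_smul_right, u2, mul_zero])

end CaseB

end Setup

end Cfsg.Agent.Forms.Max.UnitFrame
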