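import Mathlib

/-!
# Small combinatorial facts on commuting involutions of a finite set
-/

set_option autoImplicit false

namespace Cfsg.Agent.Forms.Max.UnitFrame

variable {α : Type*} [DecidableEq α]

/-- three commuting involutions, each preserving the invariant pairs of the others -/
theorem three_involutions (T : Finset α) (hT : T.card = 5 ∨ 7 ≤ T.card) (s : Fin 3 → α → α)
    (hmem : ∀ j, ∀ x ∈ T, s j x ∈ T) (hinv : ∀ j x, s j (s j x) = x)
    (h3 : ∀ x, s 2 x = s 0 (s 1 x)) (hc : ∀ x, s 0 (s 1 x) = s 1 (s 0 x))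
    (hne : ∀ j, ∃ x ∈ T, s j x ≠ x)
    (hpair : ∀ j k, j ≠ k → ∀ x ∈ T, ∀ y ∈ T, x ≠ y → ({s j x, s j y} : Finset α) = {x, y} →
      ({s k x, s k y} : Finset α) = {x, y}) : False := by
  classical
  have hmemp : ∀ j k, j ≠ k → ∀ x ∈ T, ∀ y ∈ T, x ≠ y → ({s j x, s j y} : Finset α) = {x, y} →
      s k x = x ∨ s k x = y := by
    intro j k hjk x hx y hy hxy h
    have h' : s k x ∈ ({s k x, s k y} : Finset α) := Finset.mem_insert_self _ _
    rw [hpair j k hjk x hx y hy hxy h] at h'
    simpa using h'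
  have hmoved : ∀ j k, j ≠ k → ∀ x ∈ T, s j x ≠ x → s k x = x ∨ s k x = s j x := fun j k hjk x hx h =>
    hmemp j k hjk x hx (s j x) (hmem j x hx) (Ne.symm h) (by rw [hinv]; exact Finset.pair_comm _ _)
  have hex : ∀ x ∈ T, (s 0 x = x ∧ s 1 x = x ∧ s 2 x = x) ∨ (s 0 x = x ∧ s 1 x ≠ x ∧ s 2 x ≠ x) ∨
      (s 0 x ≠ x ∧ s 1 x = x ∧ s 2 x ≠ x) ∨ (s 0 x ≠ x ∧ s 1 x ≠ x ∧ s 2 x = x) := by
    intro x hx
    by_cases h0 : s 0 x = x
    · have e : s 2 x = s 1 x := by rw [h3, hc, h0]
      by_cases h1 : s 1 x = x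
      · exact Or.inl ⟨h0, h1, e.trans h1⟩
      · exact Or.inr (Or.inl ⟨h0, h1, fun h => h1 (e ▸ h)⟩)
    · rcases hmoved 0 1 (by decide) x hx h0 with h1 | h1
      · exact Or.inr (Or.inr (Or.inl ⟨h0, h1, by rw [h3, h1]; exact h0⟩))
      · exact Or.inr (Or.inr (Or.inr ⟨h0, h1 ▸ h0, by rw [h3, h1, hinv]⟩))
  set Fx : Fin 3 → Finset α := fun j => T.filter fun x => s j x = x with hFx
  set A := T.filter fun x => ∀ j, s j x = x with hA
  set N : Fin 3 → Finset α := fun j => T.filter fun x => s j x = x ∧ ∃ k, s k x ≠ x with hN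
  have hsub : ∀ j, N j = ∅ ∨ (Fx j).card ≤ 2 := by
    intro j
    by_contra hcon
    push Not at hcon
    obtain ⟨hne', hcard⟩ := hcon
    obtain ⟨x, hx⟩ := Finset.nonempty_iff_ne_empty.2 (Finset.nonempty_iff_ne_empty.1 hne')
    simp only [hN, Finset.mem_filter] at hx
    obtain ⟨hxT, hxj, k, hxk⟩ := hx
    have hjk : j ≠ k := fun e => hxk (e ▸ hxj)
    have hxF : x ∈ Fx j := by simp [hFx, hxT, hxj]
    obtain ⟨y, hy, z, hz, hyz⟩ := Finset.one_lt_card.1
      (show 1 < ((Fx j).erase x).card by rw [Finset.card_erase_of_mem hxF]; omega)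
    simp only [hFx, Finset.mem_erase, Finset.mem_filter] at hy hz
    rcases hmemp j k hjk x hxT y hy.2.1 (Ne.symm hy.1) (by rw [hxj, hy.2.2]) with h | h
    · exact hxk h
    rcases hmemp j k hjk x hxT z hz.2.1 (Ne.symm hz.1) (by rw [hxj, hz.2.2]) with h' | h'
    · exact hxk h'
    exact hyz (h ▸ h')
  have hFcard : ∀ j, (Fx j).card = A.card + (N j).card := by
    intro j
    rw [← Finset.card_union_of_disjoint]
    · congr 1
      ext x
      simp only [hFx, hA, hN, Finset.mem_union, Finset.mem_filter]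
      refine ⟨fun h => ?_, fun h => ?_⟩
      · by_cases hall : ∀ k, s k x = x
        · exact Or.inl ⟨h.1, hall⟩
        · push Not at hall; exact Or.inr ⟨h.1, h.2, hall⟩
      · rcases h with h | h
        · exact ⟨h.1, h.2 j⟩
        · exact ⟨h.1, h.2.1⟩
    · simp only [hA, hN, Finset.disjoint_filter]
      rintro x - h ⟨-, k, hk⟩
      exact hk (h k)
  have hone : ∀ j, (N j).card ≠ 1 := by
    intro j h1
    obtain ⟨x, hx⟩ := Finset.card_eq_one.1 h1
    have hxN : x ∈ N j := by rw [hx]; exact Finset.mem_singleton_self x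
    simp only [hN, Finset.mem_filter] at hxN
    obtain ⟨hxT, hxj, k, hxk⟩ := hxN
    have hjk : j ≠ k := fun e => hxk (e ▸ hxj)
    have hyT := hmem k x hxT
    have hy : s j (s k x) = s k x := by
      rcases hmoved k j (Ne.symm hjk) (s k x) hyT (by rw [hinv]; exact Ne.symm hxk) with h | h
      · exact h
      · rw [hinv] at h
        exact absurd (by rw [← hinv j (s k x), h, hxj]) hxk
    have : s k x ∈ N j := by
      simp only [hN, Finset.mem_filter]
      exact ⟨hyT, hy, k, by rw [hinv]; exact Ne.symm hxk⟩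
    rw [hx, Finset.mem_singleton] at this
    exact hxk this
  have htot : T.card = A.card + (N 0).card + (N 1).card + (N 2).card := by
    have key : ∀ x ∈ T, (1 : ℕ) = (if ∀ j, s j x = x then 1 else 0) +
        (if s 0 x = x ∧ ∃ k, s k x ≠ x then 1 else 0) + (if s 1 x = x ∧ ∃ k, s k x ≠ x then 1 else 0) +
        (if s 2 x = x ∧ ∃ k, s k x ≠ x then 1 else 0) := by
      intro x hx
      rcases hex x hx with h | h | h | h <;>
        simp [Fin.forall_fin_succ, Fin.exists_fin_succ, h.1, h.2.1, h.2.2]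
    rw [Finset.card_eq_sum_ones, Finset.sum_congr rfl key]
    simp only [Finset.sum_add_distrib, hA, hN, Finset.card_filter]
  have hnz : ¬ ((N 0).card = 0 ∧ (N 1).card = 0 ∧ (N 2).card = 0) := by
    rintro ⟨h0, h1, h2⟩
    obtain ⟨x, hxT, hx0⟩ := hne 0
    rcases hex x hxT with h | h | h | h
    · exact hx0 h.1
    · exact hx0 h.1
    · exact Finset.notMem_empty x (Finset.card_eq_zero.1 h1 ▸ (by simp [hN, hxT, h.2.1]; exact ⟨0, hx0⟩))
    · exact Finset.notMem_empty x (Finset.card_eq_zero.1 h2 ▸ (by simp [hN, hxT, h.2.2]; exact ⟨0, hx0⟩))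
  have e : ∀ j, (N j).card = 0 ∨ A.card + (N j).card ≤ 2 := fun j => by
    rcases hsub j with h | h
    · exact Or.inl (by rw [h, Finset.card_empty])
    · exact Or.inr (hFcard j ▸ h)
  have := e 0; have := e 1; have := e 2
  have := hone 0; have := hone 1; have := hone 2
  omega

/-- an involution moving a point, whose conjugates by even permutations commute with it, cannot exist -/
theorem no_moving_involution (U : Finset α) (hU : U.card = 3 ∨ 5 ≤ U.card) (p : α → α)
    (hmem : ∀ x ∈ U, p x ∈ U) (hinv : ∀ x, p (p x) = x)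
    (hcomm : ∀ a ∈ U, ∀ b ∈ U, ∀ c ∈ U, a ≠ b → b ≠ c → a ≠ c → ∀ τ : Equiv.Perm α,
      τ = Equiv.swap a b * Equiv.swap b c → ∀ x, τ (p (τ.symm (p x))) = p (τ (p (τ.symm x))))
    {a : α} (ha : a ∈ U) : p a = a := by
  classical
  by_contra hab
  set b := p a with hb
  have hbU : b ∈ U := hmem a ha
  have hpb : p b = a := hinv a
  obtain ⟨c, hc⟩ : ((U.erase a).erase b).Nonempty := Finset.card_pos.1 (by
    rw [Finset.card_erase_of_mem (Finset.mem_erase.2 ⟨hab, hbU⟩), Finset.card_erase_of_mem ha]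
    omega)
  simp only [Finset.mem_erase] at hc
  obtain ⟨hcb, hca, hcU⟩ := hc
  set d := p c with hd
  have hdU : d ∈ U := hmem c hcU
  have hda : d ≠ a := fun e => hcb (by rw [← hinv c, ← hd, e])
  have hdb : d ≠ b := fun e => hca (by rw [← hinv c, ← hd, e, hpb])
  rcases hU with hU | hU
  · have hdc : d = c := by
      by_contra h
      have : ({a, b, c, d} : Finset α).card ≤ U.card := Finset.card_le_card (by
        intro y hy; simp at hy; rcases hy with rfl | rfl | rfl | rfl <;> assumption)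
      rw [Finset.card_insert_of_notMem (by simp [Ne.symm hab, Ne.symm hca, Ne.symm hda]),
        Finset.card_insert_of_notMem (by simp [Ne.symm hcb, Ne.symm hdb]),
        Finset.card_pair (Ne.symm h)] at this
      omega
    set τ : Equiv.Perm α := Equiv.swap a b * Equiv.swap b c with hτ
    have hta : τ a = b := by
      rw [hτ, Equiv.Perm.mul_apply, Equiv.swap_apply_of_ne_of_ne (Ne.symm hab) (Ne.symm hca), Equiv.swap_apply_left]
    have htb : τ b = c := by
      rw [hτ, Equiv.Perm.mul_apply, Equiv.swap_apply_left, Equiv.swap_apply_of_ne_of_ne hca hcb]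
    have htc : τ c = a := by
      rw [hτ, Equiv.Perm.mul_apply, Equiv.swap_apply_right, Equiv.swap_apply_right]
    have h := hcomm a ha b hbU c hcU (Ne.symm hab) (Ne.symm hcb) (Ne.symm hca) τ rfl a
    rw [← hb, show τ.symm b = a by rw [← hta, τ.symm_apply_apply], ← hb, htb,
      show τ.symm a = c by rw [← htc, τ.symm_apply_apply], ← hd, hdc, htc, ← hb] at h
    exact hcb h
  · obtain ⟨u, hu⟩ : ((((U.erase a).erase b).erase c).erase d).Nonempty := Finset.card_pos.1 (by
      have h1 : ∀ (s : Finset α) (x : α), s.card - 1 ≤ (s.erase x).card := fun s x => Finset.pred_card_le_card_erase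
      have := h1 U a; have := h1 (U.erase a) b; have := h1 ((U.erase a).erase b) c
      have := h1 (((U.erase a).erase b).erase c) d
      omega)
    simp only [Finset.mem_erase] at hu
    obtain ⟨hud, huc, hub, hua, huU⟩ := hu
    set τ : Equiv.Perm α := Equiv.swap a c * Equiv.swap c u with hτ
    have hta : τ a = c := by
      rw [hτ, Equiv.Perm.mul_apply, Equiv.swap_apply_of_ne_of_ne (Ne.symm hca) (Ne.symm hua), Equiv.swap_apply_left]
    have htu : τ u = a := by
      rw [hτ, Equiv.Perm.mul_apply, Equiv.swap_apply_right, Equiv.swap_apply_right]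
    have htc : τ c = u := by
      rw [hτ, Equiv.Perm.mul_apply, Equiv.swap_apply_left, Equiv.swap_apply_of_ne_of_ne hua huc]
    have hfix : ∀ y, y ≠ a → y ≠ c → y ≠ u → τ y = y := fun y h1 h2 h3 => by
      rw [hτ, Equiv.Perm.mul_apply, Equiv.swap_apply_of_ne_of_ne h2 h3, Equiv.swap_apply_of_ne_of_ne h1 h2]
    have hsc : τ.symm c = a := by rw [← hta, τ.symm_apply_apply]
    have h := hcomm a ha c hcU u huU (Ne.symm hca) (Ne.symm huc) (Ne.symm hua) τ rfl c
    rw [← hd, hsc, ← hb, hfix b hab (Ne.symm hcb) (Ne.symm hub), hpb] at h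
    by_cases hdc : d = c
    · rw [hdc, hsc, ← hb, hfix b hab (Ne.symm hcb) (Ne.symm hub)] at h
      exact hab h
    · rw [show τ.symm d = d by conv_lhs => rw [← hfix d hda hdc (Ne.symm hud), τ.symm_apply_apply],
        show p d = c from hinv c, htc] at h
      exact hua h

end Cfsg.Agent.Forms.Max.UnitFrame
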