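import Cfsg.Agent.Lib.Forms.Max.UnitFrame.Rot
import Cfsg.Agent.Lib.Forms.Max.UnitFrame.AxisCount

/-!
# Finite rotation groups containing the symmetries of an octahedron

If no element fixes a singular vector, such a group permutes the three lines.
-/

set_option autoImplicit false
set_option linter.unusedSectionVars false

namespace Cfsg.Agent.Forms.Max.UnitFrame

open Matrix Cfsg.Agent.Forms.QuadStd Cfsg.Agent.Forms.Reflections Cfsg.Agent.Classical.Orth

variable {F : Type*} [Field F] [Fintype F] {ι : Type} [Fintype ι] [DecidableEq ι] {n : ℕ}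
variable {Q : QuadraticForm F (ι → F)} {S : Setup Q n}

set_option quotPrecheck false in
local notation "Iso" => Cfsg.isometryGroup F ⇑Q

theorem span_eq_iff_dot {u v : Fin n → F} (hv : dot v v ≠ 0) (hu : dot u u = dot v v) :
    Submodule.span F {u} = Submodule.span F {v} ↔ u = v ∨ u = -v := by
  refine ⟨fun h => ?_, fun h => ?_⟩
  · obtain ⟨t, rfl⟩ := Submodule.mem_span_singleton.1 (h ▸ Submodule.mem_span_singleton_self u)
    rw [dot_smul_left, dot_smul_right, ← mul_assoc] at hu
    rcases mul_self_eq_one_iff.1 (mul_right_cancel₀ hv (hu.trans (one_mul _).symm)) with rfl | rfl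
    · exact Or.inl (one_smul F v)
    · exact Or.inr (neg_one_smul F v)
  · rcases h with rfl | rfl
    · rfl
    · rw [← Set.neg_singleton, Submodule.span_neg]

namespace Setup

variable {a b c : Fin n}

/-- a group of rotations without singular fixed vectors containing the octahedral symmetries is monomial -/
theorem triple_mon (hab : a ≠ b) (hac : a ≠ c) (hbc : b ≠ c) (Y : Subgroup Iso) (hY : Y ≤ S.Rot {a, b, c})
    (hsing : ∀ y ∈ Y, y ≠ 1 → ∀ v ∈ S.fixT {a, b, c} y, dot v v = 0 → v = 0)
    (ρ : Iso) (hρ : ρ ∈ Y) (hρa : S.img ρ (Pi.single a 1) = Pi.single b 1)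
    (hρb : S.img ρ (Pi.single b 1) = -Pi.single a 1) (hρc : S.img ρ (Pi.single c 1) = Pi.single c 1)
    (τ : Iso) (hτ : τ ∈ Y) (hτa : S.img τ (Pi.single a 1) = Pi.single b 1)
    (hτc : S.img τ (Pi.single c 1) = Pi.single a 1)
    (hε : S.eps {b, c} ∈ Y) : ∀ y ∈ Y, S.Mon y := by
  classical
  set T : Finset (Fin n) := {a, b, c} with hT
  have hTc : T.card = 3 := Finset.card_eq_three.2 ⟨a, b, c, hab, hac, hbc, rfl⟩
  have hmemT : a ∈ T ∧ b ∈ T ∧ c ∈ T := by simp [hT]
  let _ : Fintype ↥Y := Fintype.ofFinite _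
  set mv : ↥Y → Submodule F (Fin n → F) → Submodule F (Fin n → F) := fun y L => L.map (S.imgL y.1) with hmv
  set ax : ↥Y → Submodule F (Fin n → F) := fun y => S.fixT T y.1 with hax
  have hmv_span : ∀ (y : ↥Y) (v : Fin n → F), mv y (Submodule.span F {v}) = Submodule.span F {S.img y.1 v} :=
    fun y v => by
      show (Submodule.span F {v}).map (S.imgL y.1) = _
      rw [Submodule.map_span, Set.image_singleton]; rfl
  have hne1 : ∀ y : ↥Y, y ≠ 1 → y.1 ≠ 1 := fun y hy e => hy (Subtype.ext e)
  have hline : ∀ y : ↥Y, y ≠ 1 → ∃ v, v ∈ InS F T ∧ dot v v ≠ 0 ∧ S.img y.1 v = v ∧ ax y = Submodule.span F {v} := by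
    intro y hy
    obtain ⟨v, hv0, hv⟩ := finrank_eq_one_iff'.1 (finrank_fixT (hY y.2) hTc (hne1 y hy))
    have hv1 := mem_fixT.1 v.2
    refine ⟨v.1, hv1.2, fun e => hv0 (Subtype.ext (hsing _ y.2 (hne1 y hy) _ v.2 e)), hv1.1, ?_⟩
    refine le_antisymm (fun x hx => ?_) ((Submodule.span_singleton_le_iff_mem _ _).2 v.2)
    obtain ⟨t, ht⟩ := hv ⟨x, hx⟩
    exact Submodule.mem_span_singleton.2 ⟨t, congrArg Subtype.val ht⟩
  -- which elements have a given axis
  have haxiff : ∀ (v : Fin n → F), v ∈ InS F T → v ≠ 0 → ∀ k : ↥Y, k ≠ 1 →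
      (ax k = Submodule.span F {v} ↔ S.img k.1 v = v) := by
    intro v hvT hv0 k hk
    refine ⟨fun e => ?_, fun e => ?_⟩
    · have h' : v ∈ ax k := by rw [e]; exact Submodule.mem_span_singleton_self v
      exact (mem_fixT.1 h').1
    · refine (Submodule.eq_of_le_of_finrank_eq ((Submodule.span_singleton_le_iff_mem _ _).2
        (mem_fixT.2 ⟨e, hvT⟩)) ?_).symm
      rw [finrank_fixT (hY k.2) hTc (hne1 k hk), finrank_span_singleton hv0]
  have hA : ∀ v, v ∈ InS F T → v ≠ 0 →
      (Finset.univ.filter fun k : ↥Y => k ≠ 1 ∧ ax k = Submodule.span F {v}).card + 1 =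
        (Finset.univ.filter fun k : ↥Y => S.img k.1 v = v).card := by
    intro v hvT hv0
    rw [← Finset.card_insert_of_notMem (a := (1 : ↥Y)) (by simp)]
    congr 1
    ext k
    by_cases hk : k = 1
    · subst hk; simp [img_one]
    · simp [hk, haxiff v hvT hv0 k hk]
  have hStab : ∀ v, dot v v ≠ 0 →
      (Finset.univ.filter fun k : ↥Y => mv k (Submodule.span F {v}) = Submodule.span F {v}) =
        (Finset.univ.filter fun k : ↥Y => S.img k.1 v = v) ∪ (Finset.univ.filter fun k : ↥Y => S.img k.1 v = -v) := by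
    intro v hv
    ext k
    simp only [hmv_span, Finset.mem_filter, Finset.mem_univ, true_and, Finset.mem_union]
    exact span_eq_iff_dot hv (S.dot_img _ v v)
  have hflip : ∀ v, dot v v ≠ 0 → ∀ f : ↥Y, S.img f.1 v = -v →
      (Finset.univ.filter fun k : ↥Y => mv k (Submodule.span F {v}) = Submodule.span F {v}).card =
        2 * (Finset.univ.filter fun k : ↥Y => S.img k.1 v = v).card := by
    intro v hv f hf
    rw [hStab v hv, Finset.card_union_of_disjoint]
    · rw [two_mul]
      congr 1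
      refine (Finset.card_equiv (Equiv.mulLeft f) fun k => ?_).symm
      simp only [Finset.mem_filter, Finset.mem_univ, true_and, Equiv.coe_mulLeft, Subgroup.coe_mul, img_mul]
      constructor
      · intro e; rw [e, hf]
      · intro e
        have := congrArg (S.img f.1⁻¹) e
        rwa [img_inv_img, ← hf, img_inv_img] at this
    · rw [Finset.disjoint_filter]
      intro k _ e e'
      rw [e, eq_neg_iff_add_eq_zero, ← two_smul F, smul_eq_zero] at e'
      rcases e' with h | h
      · exact S.two h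
      · exact hv (by simp [h, dot])
  have hec : (Pi.single c 1 : Fin n → F) ∈ InS F T := single_mem_InS hmemT.2.2
  have hc0 : dot (Pi.single c (1 : F)) (Pi.single c 1) ≠ 0 := by rw [dot_single_self]; exact one_ne_zero
  have hcne : (Pi.single c 1 : Fin n → F) ≠ 0 := fun e => hc0 (by rw [e]; simp [dot])
  set x₀ := Submodule.span F {(Pi.single c 1 : Fin n → F)} with hx₀
  set ρ' : ↥Y := ⟨ρ, hρ⟩ with hρ'
  set τ' : ↥Y := ⟨τ, hτ⟩ with hτ'
  have hεc : S.img (⟨_, hε⟩ : ↥Y).1 (Pi.single c 1) = -Pi.single c 1 :=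
    S.img_eps_eq_neg.2 fun m hm => Pi.single_eq_of_ne (fun e : m = c => hm (by simp [e])) 1
  obtain ⟨H, hH⟩ : ∃ H : Subgroup ↥Y, ∀ k, k ∈ H ↔ S.img k.1 (Pi.single c 1) = Pi.single c 1 :=
    ⟨{ carrier := {k | S.img k.1 (Pi.single c 1) = Pi.single c 1}
       mul_mem' := fun {k l} (hk : _ = _) (hl : _ = _) => by
         show S.img (k.1 * l.1) _ = _
         rw [img_mul, hl, hk]
       one_mem' := by
         show S.img (1 : Iso) _ = _
         rw [img_one]
       inv_mem' := fun {k} (hk : _ = _) => by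
         show S.img k.1⁻¹ _ = _
         conv_lhs => rw [← hk]
         rw [img_inv_img] }, fun k => Iff.rfl⟩
  have hρord : orderOf ρ' = 4 := by
    have hT' : ∀ i, i ∉ T → S.img ρ (Pi.single i 1) = Pi.single i 1 := fun i hi => Rot.col_out (hY hρ) hi
    have h4 : ρ ^ 4 = 1 := by
      refine S.ext_e fun i => ?_
      rw [act_one, show ρ ^ 4 = ρ * ρ * (ρ * ρ) by rw [← pow_two, ← pow_two, ← pow_mul], act_e, img_mul, img_mul]
      by_cases hi : i ∈ T
      · simp [hT] at hi
        rcases hi with rfl | rfl | rfl <;>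
          simp [img_mul, hρa, hρb, hρc, S.img_neg, vec_single, map_neg]
      · simp [img_mul, hT' i hi, vec_single]
    have h2 : ρ ^ 2 ≠ 1 := fun e => by
      have := congrFun (congrArg (fun g => S.img g (Pi.single a 1)) e) a
      simp [pow_two, img_mul, hρa, hρb, img_one] at this
      exact S.two (by linear_combination -this)
    refine orderOf_eq_prime_pow (p := 2) (n := 1) (fun e => h2 ?_) (Subtype.ext ?_)
    · simpa using congrArg Subtype.val e
    · simpa using h4
  have h4 : 4 ∣ (Finset.univ.filter fun k : ↥Y => k ≠ 1 ∧ ax k = x₀).card + 1 := by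
    rw [hx₀, hA _ hec hcne, ← hρord]
    have := Subgroup.orderOf_dvd_natCard (s := H) (x := ρ') ((hH ρ').2 hρc)
    rwa [Nat.card_eq_fintype_card, Fintype.card_of_subtype (Finset.univ.filter fun k : ↥Y =>
      S.img k.1 (Pi.single c 1) = Pi.single c 1) fun k => by simp [hH]] at this
  have hτc' : mv τ' x₀ = Submodule.span F {(Pi.single a 1 : Fin n → F)} := by rw [hx₀, hmv_span, hτc]
  set O := Finset.univ.image fun k : ↥Y => mv k x₀ with hO
  have hmv1 : ∀ L, mv 1 L = L := fun L => by
    have h : S.imgL (1 : Iso) = LinearMap.id := LinearMap.ext fun x => S.img_one x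
    rw [hmv]; show L.map (S.imgL (1 : Iso)) = L
    rw [h, Submodule.map_id]
  have hmvm : ∀ g k L, mv (g * k) L = mv g (mv k L) := fun g k L => by
    have h : S.imgL (g.1 * k.1) = (S.imgL g.1).comp (S.imgL k.1) := LinearMap.ext fun x => S.img_mul _ _ x
    rw [hmv]; show L.map (S.imgL (g.1 * k.1)) = _
    rw [h, Submodule.map_comp]
  set V3 : Finset (Submodule F (Fin n → F)) :=
    {Submodule.span F {(Pi.single a 1 : Fin n → F)}, Submodule.span F {(Pi.single b 1 : Fin n → F)}, x₀} with hV3
  have hdist : ∀ {i j : Fin n}, i ≠ j →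
      Submodule.span F {(Pi.single i 1 : Fin n → F)} ≠ Submodule.span F {(Pi.single j 1 : Fin n → F)} := by
    intro i j hij e
    have h' : (Pi.single i 1 : Fin n → F) ∈ Submodule.span F {(Pi.single j 1 : Fin n → F)} := by
      rw [← e]; exact Submodule.mem_span_singleton_self _
    obtain ⟨t, ht⟩ := Submodule.mem_span_singleton.1 h'
    have := congrFun ht i
    simp [hij] at this
  have hV3c : V3.card = 3 := Finset.card_eq_three.2 ⟨_, _, _, hdist hab, hdist hac, hdist hbc, rfl⟩
  have hVO : V3 ⊆ O := by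
    intro L hL
    simp only [hV3, Finset.mem_insert, Finset.mem_singleton] at hL
    rcases hL with rfl | rfl | rfl
    · exact Finset.mem_image.2 ⟨τ', Finset.mem_univ _, hτc'⟩
    · exact Finset.mem_image.2 ⟨τ' * τ', Finset.mem_univ _, by rw [hmvm, hτc', hmv_span, hτa]⟩
    · exact Finset.mem_image.2 ⟨1, Finset.mem_univ _, hmv1 _⟩
  have hO3 : O.card = 3 := by
    refine axis_count mv hmv1 hmvm ax (fun g h hg => ?_) (fun g hg => ?_) x₀ h4 ?_
      (hV3c ▸ Finset.card_le_card hVO)
    · ext x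
      simp only [hax, hmv, Submodule.mem_map, mem_fixT, Subgroup.coe_mul, Subgroup.coe_inv, imgL_apply]
      constructor
      · rintro ⟨h1, h2⟩
        refine ⟨S.img h.1⁻¹ x, ⟨?_, Rot.img_mem (inv_mem (hY h.2)) h2⟩, S.img_img_inv _ _⟩
        rw [img_mul, img_mul] at h1
        have := congrArg (S.img h.1⁻¹) h1
        rwa [img_inv_img] at this
      · rintro ⟨w, ⟨h1, h2⟩, rfl⟩
        exact ⟨by rw [img_mul, img_mul, img_inv_img, h1], Rot.img_mem (hY h.2) h2⟩
    · obtain ⟨v, hvT, hv, -, hvax⟩ := hline g hg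
      have hv0 : v ≠ 0 := fun e => hv (by rw [e]; simp [dot])
      rw [hvax, hA v hvT hv0]
      by_cases hf : ∃ f : ↥Y, S.img f.1 v = -v
      · obtain ⟨f, hf⟩ := hf
        exact Or.inr (hflip v hv f hf)
      · left
        rw [hStab v hv, show (Finset.univ.filter fun k : ↥Y => S.img k.1 v = -v) = ∅ from
          Finset.filter_eq_empty_iff.2 fun k _ e => hf ⟨k, e⟩, Finset.union_empty]
    · rw [hx₀, hA _ hec hcne]
      exact hflip _ hc0 ⟨_, hε⟩ hεc
  have hOV : O = V3 := (Finset.eq_of_subset_of_card_le hVO (by rw [hO3, hV3c])).symm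
  intro y hy
  refine S.mon_iff.2 fun i => ?_
  by_cases hi : i ∈ T
  swap
  · exact ⟨i, 1, by rw [one_smul]; exact Rot.col_out (hY hy) hi⟩
  have key : mv ⟨y, hy⟩ (Submodule.span F {(Pi.single i 1 : Fin n → F)}) ∈ O := by
    have hiO : Submodule.span F {(Pi.single i 1 : Fin n → F)} ∈ O := by
      refine hVO ?_
      simp [hT] at hi
      rcases hi with rfl | rfl | rfl <;> simp [hV3, hx₀]
    obtain ⟨k, -, hk⟩ := Finset.mem_image.1 hiO
    exact Finset.mem_image.2 ⟨⟨y, hy⟩ * k, Finset.mem_univ _, by rw [hmvm, hk]⟩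
  rw [hmv_span, hOV] at key
  simp only [hV3, hx₀, Finset.mem_insert, Finset.mem_singleton] at key
  rcases key with e | e | e <;>
    obtain ⟨t, ht⟩ := Submodule.mem_span_singleton.1 (e ▸ Submodule.mem_span_singleton_self _) <;>
    exact ⟨_, t, ht.symm⟩

end Setup

end Cfsg.Agent.Forms.Max.UnitFrame
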