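import Cfsg.Agent.Lib.Forms.Max.UnitFrame.Vectors
import Cfsg.Agent.Lib.Forms.Max.UnitFrame.Comb

/-!
# Elements supported on a set of frame vectors which centralise a sign change
-/

set_option autoImplicit false
set_option linter.unusedSectionVars false

namespace Cfsg.Agent.Forms.Max.UnitFrame

open Matrix Cfsg.Agent.Forms.QuadStd Cfsg.Agent.Forms.Reflections Cfsg.Agent.Classical.Orth

variable {F : Type*} [Field F] [Fintype F] {ι : Type} [Fintype ι] [DecidableEq ι] {n : ℕ}
variable {Q : QuadraticForm F (ι → F)} (S : Setup Q n)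

set_option quotPrecheck false in
local notation "Iso" => Cfsg.isometryGroup F ⇑Q

namespace Setup

/-- the permutation of the frame induced by a monomial isometry -/
def IsPerm (g : Cfsg.isometryGroup F ⇑Q) (π : Equiv.Perm (Fin n)) : Prop :=
  ∀ i, ∃ a : F, a * a = 1 ∧ S.img g (Pi.single i 1) = a • Pi.single (π i) 1

theorem perm_isPerm (σ : Equiv.Perm (Fin n)) : S.IsPerm (S.perm σ) σ := fun i => by
  refine ⟨1, one_mul 1, ?_⟩
  rw [one_smul]
  funext j
  rw [img_perm, Pi.single_apply, Pi.single_apply]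
  simp only [Equiv.symm_apply_eq]

variable {S}

theorem IsPerm.mon {g : Iso} {π : Equiv.Perm (Fin n)} (h : S.IsPerm g π) : S.Mon g :=
  S.mon_iff.2 fun i => let ⟨a, _, ha⟩ := h i; ⟨π i, a, ha⟩

theorem IsPerm.mul {g h : Iso} {π σ : Equiv.Perm (Fin n)} (hg : S.IsPerm g π) (hh : S.IsPerm h σ) :
    S.IsPerm (g * h) (π * σ) := fun i => by
  obtain ⟨a, ha1, ha⟩ := hh i
  obtain ⟨b, hb1, hb⟩ := hg (σ i)
  exact ⟨a * b, by linear_combination (b * b) * ha1 + hb1,
    by rw [img_mul, ha, S.img_smul, hb, smul_smul]; rfl⟩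

theorem IsPerm.unique {g : Iso} {π σ : Equiv.Perm (Fin n)} (h : S.IsPerm g π) (h' : S.IsPerm g σ) :
    π = σ := Equiv.ext fun i => by
  obtain ⟨a, ha1, ha⟩ := h i
  obtain ⟨b, -, hb⟩ := h' i
  by_contra hne
  have := congrFun (ha.symm.trans hb) (π i)
  simp [Ne.symm hne] at this
  simp [this] at ha1

theorem IsPerm.one : S.IsPerm (1 : Iso) 1 := fun i => ⟨1, one_mul 1, by rw [img_one, one_smul]; rfl⟩

theorem IsPerm.inv {g : Iso} {π : Equiv.Perm (Fin n)} (h : S.IsPerm g π) : S.IsPerm g⁻¹ π⁻¹ := by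
  obtain ⟨σ, hσ⟩ := S.mon_exists_perm h.mon.inv
  have := (IsPerm.mul h hσ).unique (by rw [mul_inv_cancel]; exact IsPerm.one)
  rw [mul_eq_one_iff_eq_inv'] at this
  exact this ▸ hσ

theorem IsPerm.eq_eps {g : Iso} (h : S.IsPerm g 1) : ∃ D, g = S.eps D := by
  classical
  refine ⟨Finset.univ.filter fun i => S.img g (Pi.single i 1) = -Pi.single i 1, S.ext_e fun i => ?_⟩
  obtain ⟨a, ha1, ha⟩ := h i
  rw [act_eps, act_e, ha]
  rcases mul_self_eq_one_iff.1 ha1 with rfl | rfl
  · rw [if_neg, one_smul, Equiv.Perm.one_apply, vec_single]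
    simp only [Finset.mem_filter, Finset.mem_univ, true_and, ha, one_smul, Equiv.Perm.one_apply]
    intro e
    have := congrFun e i
    simp only [Pi.single_eq_same, Pi.neg_apply] at this
    exact S.two (by linear_combination this)
  · rw [if_pos, map_smul, Equiv.Perm.one_apply, vec_single, neg_one_smul]
    simp only [Finset.mem_filter, Finset.mem_univ, true_and, ha, neg_one_smul, Equiv.Perm.one_apply]

variable (S)

/-- elements of `M` fixing the frame vectors outside a set -/
def GT (T : Finset (Fin n)) : Subgroup (Cfsg.isometryGroup F ⇑Q) where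
  carrier := {h | h ∈ S.M ∧ ∀ i, i ∉ T → act h (S.e i) = S.e i}
  mul_mem' {a b} ha hb := ⟨mul_mem ha.1 hb.1, fun i hi => by rw [act_mul, hb.2 i hi, ha.2 i hi]⟩
  one_mem' := ⟨one_mem _, fun i _ => act_one _⟩
  inv_mem' {a} ha := ⟨inv_mem ha.1, fun i hi => by
    conv_lhs => rw [← ha.2 i hi]
    rw [← act_mul, inv_mul_cancel, act_one]⟩

variable {S} {T : Finset (Fin n)}

theorem GT.col_out {h : Iso} (hh : h ∈ S.GT T) {i : Fin n} (hi : i ∉ T) :
    S.img h (Pi.single i 1) = Pi.single i 1 := by rw [img, vec_single, hh.2 i hi, co_e]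

theorem GT.zero_out {h : Iso} (hh : h ∈ S.GT T) {x : Fin n → F} {m : Fin n} (hm : m ∉ T) :
    S.img h x m = x m := by
  rw [← dot_single m (S.img h x), ← dot_single m x]
  conv_lhs => rw [← GT.col_out hh hm]
  rw [dot_img]

theorem GT.comm_self {h : Iso} (hh : h ∈ S.GT T) : h * S.eps T = S.eps T * h := by
  refine S.ext_e fun i => ?_
  rw [act_mul, act_mul, act_eps]
  by_cases hi : i ∈ T
  · rw [if_pos hi, map_neg, act_e, ← vec_img]
    rw [show S.img (S.eps T) (S.img h (Pi.single i 1)) = -S.img h (Pi.single i 1) from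
      S.img_eps_eq_neg.2 fun m hm => by
        rw [GT.zero_out hh hm, Pi.single_eq_of_ne (fun e : m = i => hm (e ▸ hi))], map_neg]
  · rw [if_neg hi, hh.2 i hi, act_eps, if_neg hi]

theorem eps_mem_GT {A : Finset (Fin n)} (hA : A ⊆ T) (he : Even A.card) : S.eps A ∈ S.GT T :=
  ⟨S.eps_mem he, fun i hi => by rw [act_eps, if_neg fun h => hi (hA h)]⟩

theorem perm_mem_GT {σ : Equiv.Perm (Fin n)} (hσ : Equiv.Perm.sign σ = 1) (hT : ∀ i, i ∉ T → σ i = i) :
    S.perm σ ∈ S.GT T :=
  ⟨S.perm_mem hσ, fun i hi => by rw [act_perm, hT i hi]⟩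

theorem eps_comm (A A' : Finset (Fin n)) : S.eps A * S.eps A' = S.eps A' * S.eps A := by
  rw [eps_mul, eps_mul, symmDiff_comm]

theorem perm_comm_eps {σ : Equiv.Perm (Fin n)} {U : Finset (Fin n)} (hU : ∀ i, i ∉ U → σ i = i) :
    S.perm σ * S.eps U = S.eps U * S.perm σ := by
  have hmap : U.map σ.toEmbedding = U := by
    refine Finset.eq_of_subset_of_card_le (fun j hj => ?_) (by rw [Finset.card_map])
    obtain ⟨i, hi, rfl⟩ := Finset.mem_map.1 hj
    show σ i ∈ U
    by_contra hc
    have := σ.injective (hU _ hc)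
    exact hc (by rw [this]; exact hi)
  have := S.perm_conj_eps σ U
  rwa [hmap, mul_inv_eq_iff_eq_mul] at this

/-- an element of `M` fixing the vectors outside `U` -/
theorem local_mon {k : ℕ} (hs : S.Small k) (hk : 3 ≤ k) {y : Iso} (hy : y ∈ S.M) {U : Finset (Fin n)}
    (hUk : U.card ≤ k) (hout : ∃ o, o ∉ U)
    (hfix : ∀ i, i ∉ U → S.img y (Pi.single i 1) = Pi.single i 1) (hc : y * S.eps U = S.eps U * y) :
    S.Mon y := by
  obtain ⟨o, ho⟩ := hout
  have ho' : S.img y (Pi.single o 1) = (1 : F) • Pi.single o 1 := by rw [one_smul]; exact hfix o ho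
  refine mon_of_cols (hs.mono hk) hy ho' fun i => ?_
  by_cases hi : i ∈ U
  · exact Or.inl (hs _ (R0.map_col hy ho' (single_mem i)) ((supp_card_le (supp_in hc fun m hm =>
      Pi.single_eq_of_ne (fun e : m = i => hm (e ▸ hi)) 1)).trans hUk))
  · exact Or.inr ⟨i, 1, by rw [one_smul]; exact hfix i hi⟩

/-- conjugates of sign changes lift to the frame -/
theorem lift {k : ℕ} (hs : S.Small k) (hk : 3 ≤ k) {h : Iso} (hh : h ∈ S.M) {U : Finset (Fin n)}
    (hU : U.card = 3 ∨ 5 ≤ U.card) (hUk : U.card ≤ k) (hout : ∃ o, o ∉ U)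
    (hc : h * S.eps U = S.eps U * h) :
    ∀ i ∈ U, ∃ j, ∃ a : F, S.img h (Pi.single i 1) = a • Pi.single j 1 := by
  classical
  have hci : h⁻¹ * S.eps U = S.eps U * h⁻¹ := (Commute.inv_left (show Commute h (S.eps U) from hc)).eq
  have hzero : ∀ g : Iso, g * S.eps U = S.eps U * g → ∀ i, i ∉ U → ∀ m ∈ U,
      S.img g (Pi.single i 1) m = 0 := fun g hg i hi =>
    supp_out hg fun m hm => Pi.single_eq_of_ne (fun e : m = i => hi (e ▸ hm)) 1
  have key : ∀ q, q ⊆ U → q.card = 2 → ∃ D, h * S.eps q = S.eps D * h := by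
    intro q hqU hq
    set x := h * S.eps q * h⁻¹ with hx
    have hxM : x ∈ S.M := mul_mem (mul_mem hh (S.eps_mem (by rw [hq]; exact even_two))) (inv_mem hh)
    have hxfix : ∀ i, i ∉ U → S.img x (Pi.single i 1) = Pi.single i 1 := fun i hi => by
      rw [hx, img_mul, img_mul, S.img_eps_eq_self.2 fun m hm => hzero _ hci i hi m (hqU hm), img_img_inv]
    have hxc : x * S.eps U = S.eps U * x :=
      (((show Commute h (S.eps U) from hc).mul_left (eps_comm q U)).mul_left hci).eq
    have hxm : S.Mon x := local_mon hs hk hxM hUk hout hxfix hxc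
    obtain ⟨p, hp⟩ := S.mon_exists_perm hxm
    have hpp : p * p = 1 := by
      refine (IsPerm.mul (S := S) hp hp).unique ?_
      rw [hx, show h * S.eps q * h⁻¹ * (h * S.eps q * h⁻¹) = h * (S.eps q * S.eps q) * h⁻¹ by group,
        eps_sq, mul_one, mul_inv_cancel]
      exact IsPerm.one
    have hpU : ∀ i ∈ U, p i ∈ U := by
      intro i hi
      obtain ⟨a, ha1, ha⟩ := hp i
      by_contra hc'
      have := supp_in hxc (x := Pi.single i 1)
        (fun m hm => Pi.single_eq_of_ne (fun e : m = i => hm (e ▸ hi)) 1) _ hc'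
      simp [ha] at this
      simp [this] at ha1
    have hinv : ∀ i, p (p i) = i := fun i => by rw [← Equiv.Perm.mul_apply, hpp]; rfl
    have hp1 : p = 1 := by
      refine Equiv.ext fun a => ?_
      by_cases ha : a ∈ U
      · refine no_moving_involution U hU p hpU hinv (fun a ha b hb c hc' hab hbc hac τ hτ => ?_) ha
        have hτ1 : Equiv.Perm.sign τ = 1 := by
          rw [hτ, map_mul, Equiv.Perm.sign_swap hab, Equiv.Perm.sign_swap hbc, Int.units_mul_self]
        have hτU : ∀ i, i ∉ U → τ i = i := fun i hi => by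
          have h1 : i ≠ a := fun e => hi (e ▸ ha)
          have h2 : i ≠ b := fun e => hi (e ▸ hb)
          have h3 : i ≠ c := fun e => hi (e ▸ hc')
          rw [hτ, Equiv.Perm.mul_apply, Equiv.swap_apply_of_ne_of_ne h2 h3, Equiv.swap_apply_of_ne_of_ne h1 h2]
        set y := h⁻¹ * S.perm τ * h with hy
        have hyfix : ∀ i, i ∉ U → S.img y (Pi.single i 1) = Pi.single i 1 := fun i hi => by
          rw [hy, img_mul, img_mul]
          have hz : S.img (S.perm τ) (S.img h (Pi.single i 1)) = S.img h (Pi.single i 1) := by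
            funext m
            rw [img_perm]
            by_cases hm : m ∈ U
            · have hm' : τ.symm m ∈ U := by
                by_contra hc''
                have := hτU _ hc''
                rw [τ.apply_symm_apply] at this
                exact hc'' (this ▸ hm)
              rw [hzero h hc i hi m hm, hzero h hc i hi _ hm']
            · rw [show τ.symm m = m by conv_lhs => rw [← hτU m hm, τ.symm_apply_apply]]
          rw [hz, img_inv_img]
        have hym : S.Mon y := local_mon hs hk (mul_mem (mul_mem (inv_mem hh) (S.perm_mem hτ1)) hh) hUk hout hyfix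
          (((show Commute h⁻¹ (S.eps U) from hci).mul_left (perm_comm_eps hτU)).mul_left hc).eq
        obtain ⟨q', -, hq'⟩ := S.mon_conj_eps hym q
        have hx' : S.perm τ * x * (S.perm τ)⁻¹ = h * S.eps q' * h⁻¹ := by
          rw [hx, ← hq', hy]; group
        have hcx : x * (S.perm τ * x * (S.perm τ)⁻¹) = S.perm τ * x * (S.perm τ)⁻¹ * x := by
          rw [hx', hx, show h * S.eps q * h⁻¹ * (h * S.eps q' * h⁻¹) = h * (S.eps q * S.eps q') * h⁻¹ by group,
            show h * S.eps q' * h⁻¹ * (h * S.eps q * h⁻¹) = h * (S.eps q' * S.eps q) * h⁻¹ by group,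
            eps_comm]
        have hconj : S.IsPerm (S.perm τ * x * (S.perm τ)⁻¹) (τ * p * τ⁻¹) :=
          ((S.perm_isPerm τ).mul hp).mul (S.perm_isPerm τ).inv
        have he := (IsPerm.mul (S := S) hp hconj).unique (hcx ▸ hconj.mul hp)
        intro i
        exact (Equiv.congr_fun he i).symm
      · obtain ⟨s, -, hs'⟩ := hp a
        rw [hxfix a ha] at hs'
        by_contra hne
        have := congrFun hs' a
        rw [Pi.single_eq_same, Pi.smul_apply, Pi.single_eq_of_ne (show a ≠ p a from fun e => hne e.symm), smul_zero] at this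
        exact one_ne_zero this
    obtain ⟨D, hD⟩ := IsPerm.eq_eps (S := S) (hp1 ▸ hp)
    exact ⟨D, by rw [← hD, hx, inv_mul_cancel_right]⟩
  set col : Fin n → Finset (Fin n) := fun i => supp (S.img h (Pi.single i 1)) with hcol
  have hdisj : ∀ i ∈ U, ∀ i' ∈ U, i ≠ i' → Disjoint (col i) (col i') := by
    intro i hi i' hi' hne
    obtain ⟨l, hl⟩ : ((U.erase i).erase i').Nonempty := Finset.card_pos.1 (by
      rw [Finset.card_erase_of_mem (Finset.mem_erase.2 ⟨Ne.symm hne, hi'⟩), Finset.card_erase_of_mem hi]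
      omega)
    simp only [Finset.mem_erase] at hl
    obtain ⟨D, hD⟩ := key {i, l} (by
      intro z hz; simp at hz; rcases hz with rfl | rfl
      · exact hi
      · exact hl.2.2) (Finset.card_pair (Ne.symm hl.2.1))
    have h1 := supp_in hD (x := Pi.single i 1)
      (fun m hm => Pi.single_eq_of_ne (fun e : m = i => hm (by simp [e])) 1)
    have h2 := supp_out hD (x := Pi.single i' 1) (fun m hm => by
      refine Pi.single_eq_of_ne (fun e : m = i' => ?_) 1
      subst e
      simp [Ne.symm hne, Ne.symm hl.1] at hm)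
    rw [Finset.disjoint_left]
    intro m hm hm'
    rw [hcol, mem_supp] at hm hm'
    by_cases hmD : m ∈ D
    · exact hm' (h2 m hmD)
    · exact hm (h1 m hmD)
  have hsub : U.biUnion col ⊆ U := Finset.biUnion_subset.2 fun i hi =>
    supp_subset_iff.2 (supp_in hc fun m hm => Pi.single_eq_of_ne (fun e : m = i => hm (e ▸ hi)) 1)
  have hle := Finset.card_le_card hsub
  rw [Finset.card_biUnion hdisj] at hle
  have hpos : ∀ i ∈ U, 1 ≤ (col i).card := fun i _ =>
    Finset.card_pos.2 (supp_nonempty (by rw [col_dot, if_pos rfl]))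
  intro i hi
  have hone : (col i).card ≤ 1 := by
    by_contra hlt
    have := Finset.sum_lt_sum hpos ⟨i, hi, not_le.1 hlt⟩
    simp only [Finset.sum_const, smul_eq_mul, mul_one] at this
    omega
  obtain ⟨j, hj⟩ := Finset.card_pos.1 (hpos i hi)
  exact ⟨j, _, single_of_supp fun m hm => Finset.mem_singleton.2 (Finset.card_le_one.1 hone m hm j hj)⟩

/-- sizes for which centralisers of sign changes are monomial -/
def Good (T : Finset (Fin n)) (a : ℕ) : Prop := a = 2 ∨ a = 4 ∨ (a = 6 ∧ 9 ≤ T.card)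

/-- hypotheses on the set -/
structure Fit (S : Setup Q n) (T : Finset (Fin n)) : Prop where
  card : T.card = 5 ∨ T.card = 7 ∨ 9 ≤ T.card
  small : S.Small 4
  small' : S.Small (T.card - 2)

theorem good_mon (hT : Fit S T) {h : Iso} (hh : h ∈ S.GT T) {A : Finset (Fin n)} (hA : A ⊆ T)
    (ha : Good T A.card) (hc : h * S.eps A = S.eps A * h) : S.Mon h := by
  classical
  have hm := hT.card
  have hcard : (T \ A).card = T.card - A.card := Finset.card_sdiff_of_subset hA
  have hcT : Commute h (S.eps (T \ A)) := by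
    have e : S.eps (T \ A) = S.eps T * S.eps A := by
      rw [eps_mul]; congr 1
      ext i; by_cases hi : i ∈ A <;> simp [Finset.mem_symmDiff, hi]
      exact hA hi
    rw [e]
    exact Commute.mul_right (GT.comm_self hh) hc
  have hzero : ∀ i, i ∉ T → S.img h (Pi.single i 1) = (1 : F) • Pi.single i 1 := fun i hi => by
    rw [one_smul]; exact GT.col_out hh hi
  have hcolsupp : ∀ {U : Finset (Fin n)}, h * S.eps U = S.eps U * h → ∀ i ∈ U,
      (supp (S.img h (Pi.single i 1))).card ≤ U.card := fun {U} hU i hi =>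
    supp_card_le (supp_in hU fun m hm => Pi.single_eq_of_ne (fun e : m = i => hm (e ▸ hi)) 1)
  have h4 : 4 ≤ T.card - 2 ∨ T.card = 5 := by omega
  rcases ha with ha | ha | ⟨ha, h9⟩
  case inr.inr =>
    have hl := lift hT.small' (by omega) hh.1 (U := A) (by omega) (by omega)
      (by
        obtain ⟨o, ho⟩ := Finset.card_pos.1 (show 0 < (T \ A).card by omega)
        exact ⟨o, (Finset.mem_sdiff.1 ho).2⟩) hc
    obtain ⟨a, haA⟩ := Finset.card_pos.1 (show 0 < A.card by omega)
    obtain ⟨j, s, hj⟩ := hl a haA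
    refine mon_of_cols (hT.small.mono (by norm_num)) hh.1 hj fun i => ?_
    by_cases hiT : i ∈ T
    · by_cases hiA : i ∈ A
      · exact Or.inr (hl i hiA)
      · exact Or.inl (hT.small' _ (R0.map_col hh.1 hj (single_mem i))
          ((hcolsupp hcT.eq i (Finset.mem_sdiff.2 ⟨hiT, hiA⟩)).trans (by omega)))
    · exact Or.inr ⟨i, 1, hzero i hiT⟩
  all_goals
    have hA4 : A.card ≤ 4 := by omega
    have hl : ∀ i ∈ T \ A, ∃ j, ∃ a : F, S.img h (Pi.single i 1) = a • Pi.single j 1 := by
      by_cases h1 : (T \ A).card = 1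
      · intro i hi
        obtain ⟨j, hj⟩ := supp_nonempty (show dot (S.img h (Pi.single i 1)) (S.img h (Pi.single i 1)) = 1 by
          rw [col_dot, if_pos rfl])
        exact ⟨j, _, single_of_supp fun m hm => Finset.mem_singleton.2
          (Finset.card_le_one.1 ((hcolsupp hcT.eq i hi).trans h1.le) m hm j hj)⟩
      · obtain ⟨o, ho⟩ := Finset.card_pos.1 (show 0 < A.card by omega)
        exact lift hT.small' (by omega) hh.1 (by omega) (by omega)
          ⟨o, fun h' => (Finset.mem_sdiff.1 h').2 ho⟩ hcT.eq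
    obtain ⟨a, haA⟩ := Finset.card_pos.1 (show 0 < (T \ A).card by omega)
    obtain ⟨j, s, hj⟩ := hl a haA
    refine mon_of_cols (hT.small.mono (by norm_num)) hh.1 hj fun i => ?_
    by_cases hiT : i ∈ T
    · by_cases hiA : i ∈ A
      · exact Or.inl (hT.small _ (R0.map_col hh.1 hj (single_mem i)) ((hcolsupp hc i hiA).trans hA4))
      · exact Or.inr (hl i (Finset.mem_sdiff.2 ⟨hiT, hiA⟩))
    · exact Or.inr ⟨i, 1, hzero i hiT⟩

theorem exists_even_perm {A A' : Finset (Fin n)} (hA : A ⊆ T) (hA' : A' ⊆ T) (h : A'.card = A.card)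
    (h2 : 2 ≤ A.card) : ∃ σ : Equiv.Perm (Fin n), Equiv.Perm.sign σ = 1 ∧ (∀ i, i ∉ T → σ i = i) ∧
      A'.map σ.toEmbedding = A := by
  classical
  let e : {x : T // x.1 ∈ A'} ≃ {x : T // x.1 ∈ A} :=
    ((Equiv.subtypeSubtypeEquivSubtype (fun {x} hx => hA' hx)).trans (Finset.equivOfCardEq h)).trans
      (Equiv.subtypeSubtypeEquivSubtype (fun {x} hx => hA hx)).symm
  let σ₀ : Equiv.Perm (Fin n) := Equiv.Perm.ofSubtype e.extendSubtype
  have hfix : ∀ i, i ∉ T → σ₀ i = i := fun i hi => Equiv.Perm.ofSubtype_apply_of_not_mem _ hi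
  have hmem : ∀ i ∈ A', σ₀ i ∈ A := fun i hi => by
    show Equiv.Perm.ofSubtype e.extendSubtype i ∈ A
    rw [Equiv.Perm.ofSubtype_apply_of_mem _ (hA' hi)]
    exact Equiv.extendSubtype_mem e ⟨i, hA' hi⟩ hi
  have hmap : A'.map σ₀.toEmbedding = A := by
    refine Finset.eq_of_subset_of_card_le (fun j hj => ?_) (by rw [Finset.card_map]; omega)
    obtain ⟨i, hi, rfl⟩ := Finset.mem_map.1 hj
    exact hmem i hi
  rcases Int.units_eq_one_or (Equiv.Perm.sign σ₀) with hs | hs
  · exact ⟨σ₀, hs, hfix, hmap⟩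
  obtain ⟨a, b, ha, hb, hab⟩ := Finset.one_lt_card_iff.1 h2
  refine ⟨Equiv.swap a b * σ₀, by rw [map_mul, Equiv.Perm.sign_swap hab, hs, Int.units_mul_self],
    fun i hi => ?_, Finset.eq_of_subset_of_card_le (fun j hj => ?_) (by rw [Finset.card_map]; omega)⟩
  · rw [Equiv.Perm.mul_apply, hfix i hi,
      Equiv.swap_apply_of_ne_of_ne (fun e : i = a => hi (hA (e ▸ ha))) (fun e : i = b => hi (hA (e ▸ hb)))]
  · obtain ⟨i, hi, rfl⟩ := Finset.mem_map.1 hj
    show Equiv.swap a b (σ₀ i) ∈ A
    rcases eq_or_ne (σ₀ i) a with e | e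
    · rw [e, Equiv.swap_apply_left]; exact hb
    rcases eq_or_ne (σ₀ i) b with e' | e'
    · rw [e', Equiv.swap_apply_right]; exact ha
    rw [Equiv.swap_apply_of_ne_of_ne e e']
    exact hmem i hi

/-- an element carrying a small sign change to a sign change is monomial -/
theorem carry_mon (hT : Fit S T) {g : Iso} (hg : g ∈ S.GT T) {A A' : Finset (Fin n)} (hA : A ⊆ T)
    (ha : Good T A.card) (hc : g * S.eps A = S.eps A' * g) : S.Mon g := by
  have hcard := eps_card_eq hc
  have hA' : A' ⊆ T := by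
    intro i hi
    by_contra hiT
    have h0 := supp_out hc (x := Pi.single i 1)
      (fun m hm => Pi.single_eq_of_ne (fun e : m = i => hiT (e ▸ hA hm)) 1) i hi
    rw [GT.col_out hg hiT, Pi.single_eq_same] at h0
    exact one_ne_zero h0
  have h2 : 2 ≤ A.card := by rcases ha with h | h | ⟨h, -⟩ <;> omega
  obtain ⟨σ, hσ1, hσT, hσ⟩ := exists_even_perm hA hA' hcard.symm h2
  have hp := S.perm_conj_eps σ A'
  rw [hσ, mul_inv_eq_iff_eq_mul] at hp
  have hm := good_mon hT (mul_mem (perm_mem_GT hσ1 hσT) hg) hA ha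
    (by rw [mul_assoc, hc, ← mul_assoc, hp, mul_assoc])
  have := (S.perm_mon σ).inv.mul hm
  rwa [inv_mul_cancel_left] at this

end Setup

end Cfsg.Agent.Forms.Max.UnitFrame
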