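import Cfsg.Agent.Lib.Forms.Max.UnitFrame.Local

/-!
# Rotations of three frame vectors

An element fixing the other frame vectors with even codimension of the fixed space fixes one line of the three
vectors, and is an Eichler transformation if that line is singular.
-/

set_option autoImplicit false
set_option linter.unusedSectionVars false

namespace Cfsg.Agent.Forms.Max.UnitFrame

open Matrix Cfsg.Agent.Forms.QuadStd Cfsg.Agent.Forms.Reflections Cfsg.Agent.Classical.Orth

variable {F : Type*} [Field F] [Fintype F] {ι : Type} [Fintype ι] [DecidableEq ι] {n : ℕ}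
variable {Q : QuadraticForm F (ι → F)} (S : Setup Q n)

set_option quotPrecheck false in
local notation "Iso" => Cfsg.isometryGroup F ⇑Q

/-- vectors supported in a set -/
def InS (F : Type*) [Field F] {n : ℕ} (U : Finset (Fin n)) : Submodule F (Fin n → F) where
  carrier := {x | ∀ i, i ∉ U → x i = 0}
  add_mem' {x y} hx hy i hi := by rw [Pi.add_apply, hx i hi, hy i hi, add_zero]
  zero_mem' i _ := rfl
  smul_mem' t x hx i hi := by rw [Pi.smul_apply, hx i hi, smul_zero]

theorem finrank_InS (U : Finset (Fin n)) : Module.finrank F ↥(InS F U) = U.card := by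
  classical
  let e : ↥(InS F U) ≃ₗ[F] (U → F) :=
    { toFun := fun x i => x.1 i.1
      map_add' := fun x y => rfl
      map_smul' := fun t x => rfl
      invFun := fun y => ⟨fun i => if h : i ∈ U then y ⟨i, h⟩ else 0, fun i hi => dif_neg hi⟩
      left_inv := fun x => Subtype.ext (funext fun i => by
        by_cases h : i ∈ U
        · simp [h]
        · simp [h, x.2 i h])
      right_inv := fun y => funext fun i => by simp [i.2] }
  rw [e.finrank_eq, Module.finrank_fintype_fun_eq_card, Fintype.card_coe]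

theorem single_mem_InS {U : Finset (Fin n)} {i : Fin n} (h : i ∈ U) :
    (Pi.single i 1 : Fin n → F) ∈ InS F U :=
  fun m hm => Pi.single_eq_of_ne (fun e : m = i => hm (e ▸ h)) 1

theorem dot_add_right (x y z : Fin n → F) : dot x (y + z) = dot x y + dot x z := by
  simp [dot, mul_add, Finset.sum_add_distrib]

theorem dot_smul_right (t : F) (x y : Fin n → F) : dot x (t • y) = t * dot x y := by
  simp [dot, Finset.mul_sum, mul_left_comm]

theorem dot_add_left (x y z : Fin n → F) : dot (x + y) z = dot x z + dot y z := by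
  simp [dot, add_mul, Finset.sum_add_distrib]

theorem dot_smul_left (t : F) (x y : Fin n → F) : dot (t • x) y = t * dot x y := by
  simp [dot, Finset.mul_sum, mul_assoc]

theorem dot_sub_right (x y z : Fin n → F) : dot x (y - z) = dot x y - dot x z := by
  simp [dot, mul_sub, Finset.sum_sub_distrib]

theorem dot_sub_left (x y z : Fin n → F) : dot (x - y) z = dot x z - dot y z := by
  simp [dot, sub_mul, Finset.sum_sub_distrib]

namespace Setup

/-- an isometry in coordinates -/
noncomputable def imgL (g : Cfsg.isometryGroup F ⇑Q) : (Fin n → F) →ₗ[F] (Fin n → F) where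
  toFun := S.img g
  map_add' := S.img_add g
  map_smul' t x := S.img_smul g t x

theorem imgL_apply (g : Iso) (x : Fin n → F) : S.imgL g x = S.img g x := rfl

/-- coordinates as an equivalence -/
noncomputable def coE : (Fin n → F) ≃ₗ[F] (ι → F) :=
  LinearEquiv.ofBijective S.vec ⟨Function.LeftInverse.injective S.co_vec, fun v => ⟨S.co v, S.vec_co v⟩⟩

include S in
theorem card_eq : Fintype.card ι = n := by
  have := S.coE.finrank_eq
  rw [Module.finrank_fintype_fun_eq_card, Module.finrank_fintype_fun_eq_card, Fintype.card_fin] at this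
  exact this.symm

/-- the fixed coordinates -/
noncomputable def fixC (g : Cfsg.isometryGroup F ⇑Q) : Submodule F (Fin n → F) :=
  LinearMap.ker (S.imgL g - LinearMap.id)

theorem mem_fixC {g : Iso} {x : Fin n → F} : x ∈ S.fixC g ↔ S.img g x = x := by
  simp [fixC, imgL_apply, LinearMap.mem_ker, sub_eq_zero]

theorem finrank_fixC (g : Iso) : Module.finrank F ↥(S.fixC g) = Module.finrank F ↥(fixSp g) := by
  have h : (S.fixC g).map (S.coE : (Fin n → F) →ₗ[F] (ι → F)) = fixSp g := by
    ext v
    rw [Submodule.mem_map, mem_fixSp]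
    refine ⟨?_, fun hv => ⟨S.co v, ?_, S.vec_co v⟩⟩
    · rintro ⟨x, hx, rfl⟩
      show act g (S.vec x) = S.vec x
      rw [← vec_img, S.mem_fixC.1 hx]
    · rw [mem_fixC, img, vec_co, hv]
  rw [← h, LinearEquiv.finrank_map_eq]

include S in
theorem par_hom (g h : Iso) : par (g * h) = par g * par h := by
  refine par_mul S.nd ?_ h
  rw [refGroup_eq_top S.nd (Or.inl (Spinor.two_ne_card S.nd S.two))]
  trivial

include S in
theorem par_reflect {v : ι → F} (hv : Q v ≠ 0) : par (reflect Q v) = -1 := by
  have := par_reflect_mul S.nd hv 1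
  rwa [mul_one, par_one] at this

theorem par_r {x : Fin n → F} (hx : dot x x = 1) : par (S.r x) = -1 := S.par_reflect (S.r_ne hx)

theorem par_eps (A : Finset (Fin n)) : par (S.eps A) = (-1) ^ A.card := by
  induction A using Finset.induction with
  | empty => rw [eps_empty, par_one]; rfl
  | insert a A ha ih =>
    rw [S.eps_insert ha, S.par_hom, ih, eps_single, S.par_reflect (by rw [S.value]; exact S.c_ne),
      Finset.card_insert_of_notMem ha, pow_succ']

theorem par_perm (σ : Equiv.Perm (Fin n)) : par (S.perm σ) = Equiv.Perm.sign σ := by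
  induction σ using Equiv.Perm.swap_induction_on with
  | one => rw [perm_one, par_one, map_one]
  | swap_mul f a b hab ih =>
    rw [perm_mul, S.par_hom, ih, S.perm_swap hab, S.par_reflect, map_mul, Equiv.Perm.sign_swap hab]
    rw [Classical.Orth.map_sub', S.value, S.value, S.orth a b hab, sub_zero, ← two_mul]
    exact S.two_c

/-- rotations of the frame vectors in a set -/
noncomputable def Rot (T : Finset (Fin n)) : Subgroup (Cfsg.isometryGroup F ⇑Q) where
  carrier := {g | (∀ i, i ∉ T → act g (S.e i) = S.e i) ∧ par g = 1}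
  mul_mem' {a b} ha hb := ⟨fun i hi => by rw [act_mul, hb.1 i hi, ha.1 i hi],
    by rw [S.par_hom, ha.2, hb.2, one_mul]⟩
  one_mem' := ⟨fun i _ => act_one _, par_one⟩
  inv_mem' {a} ha := ⟨fun i hi => by
    conv_lhs => rw [← ha.1 i hi]
    rw [← act_mul, inv_mul_cancel, act_one], by
    have := S.par_hom a a⁻¹
    rw [mul_inv_cancel, par_one, ha.2, one_mul] at this
    exact this.symm⟩

variable {S} {T : Finset (Fin n)}

theorem Rot.col_out {g : Iso} (hg : g ∈ S.Rot T) {i : Fin n} (hi : i ∉ T) :
    S.img g (Pi.single i 1) = Pi.single i 1 := by rw [img, vec_single, hg.1 i hi, co_e]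

theorem Rot.zero_out {g : Iso} (hg : g ∈ S.Rot T) {x : Fin n → F} {m : Fin n} (hm : m ∉ T) :
    S.img g x m = x m := by
  rw [← dot_single m (S.img g x), ← dot_single m x]
  conv_lhs => rw [← Rot.col_out hg hm]
  rw [dot_img]

theorem Rot.img_mem {g : Iso} (hg : g ∈ S.Rot T) {x : Fin n → F} (hx : x ∈ InS F T) :
    S.img g x ∈ InS F T := fun m hm => by rw [Rot.zero_out hg hm]; exact hx m hm

theorem Rot.out_fixed {g : Iso} (hg : g ∈ S.Rot T) : InS F Tᶜ ≤ S.fixC g := by
  intro x hx
  rw [mem_fixC]
  funext m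
  by_cases hm : m ∈ T
  · rw [← dot_single m (S.img g x), hx m (by simpa using hm)]
    have h : ∀ i, i ∉ T → S.img g⁻¹ (Pi.single m 1) i = 0 := Rot.img_mem (inv_mem hg) (single_mem_InS hm)
    rw [← S.img_img_inv g (Pi.single m 1), dot_img]
    refine Finset.sum_eq_zero fun i _ => ?_
    by_cases hi : i ∈ T
    · rw [hx i (by simpa using hi), mul_zero]
    · rw [h i hi, zero_mul]
  · exact Rot.zero_out hg hm

variable (S) in
/-- fixed vectors among the three -/
noncomputable def fixT (T : Finset (Fin n)) (g : Cfsg.isometryGroup F ⇑Q) : Submodule F (Fin n → F) :=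
  S.fixC g ⊓ InS F T

theorem mem_fixT {g : Iso} {x : Fin n → F} : x ∈ S.fixT T g ↔ S.img g x = x ∧ x ∈ InS F T := by
  rw [fixT, Submodule.mem_inf, mem_fixC]

theorem finrank_fixT_add {g : Iso} (hg : g ∈ S.Rot T) :
    Module.finrank F ↥(S.fixT T g) + (n - T.card) = Module.finrank F ↥(S.fixC g) := by
  have hinf : S.fixT T g ⊓ InS F Tᶜ = ⊥ := by
    refine (Submodule.eq_bot_iff _).2 fun x hx => funext fun i => ?_
    obtain ⟨h1, h2⟩ := Submodule.mem_inf.1 hx
    by_cases hi : i ∈ T
    · exact h2 i (by simpa using hi)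
    · exact (mem_fixT.1 h1).2 i hi
  have hsup : S.fixT T g ⊔ InS F Tᶜ = S.fixC g := by
    refine le_antisymm (sup_le inf_le_left (Rot.out_fixed hg)) fun x hx => ?_
    set o : Fin n → F := fun i => if i ∈ T then 0 else x i with ho
    have hoT : o ∈ InS F Tᶜ := fun i hi => by simp [ho, (by simpa using hi : i ∈ T)]
    refine Submodule.mem_sup.2 ⟨x - o, mem_fixT.2 ⟨?_, fun i hi => by simp [ho, hi]⟩, o, hoT, sub_add_cancel x o⟩
    exact S.mem_fixC.1 ((S.fixC g).sub_mem hx (Rot.out_fixed hg hoT))
  have := Submodule.finrank_sup_add_finrank_inf_eq (S.fixT T g) (InS F Tᶜ)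
  rw [hinf, hsup, finrank_bot, add_zero, finrank_InS, Finset.card_compl, Fintype.card_fin] at this
  exact this.symm

/-- a non-trivial rotation of three vectors fixes exactly one line among them -/
theorem finrank_fixT {g : Iso} (hg : g ∈ S.Rot T) (hT : T.card = 3) (hg1 : g ≠ 1) :
    Module.finrank F ↥(S.fixT T g) = 1 := by
  have h := finrank_fixT_add hg
  rw [finrank_fixC] at h
  have hp := hg.2
  rw [par, neg_one_pow_eq_one_iff_even (by decide : (-1 : ℤˣ) ≠ 1), ← h, S.card_eq, hT] at hp
  have hle : Module.finrank F ↥(S.fixT T g) ≤ 3 :=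
    (Submodule.finrank_mono inf_le_right).trans (by rw [finrank_InS, hT])
  have hn3 := S.five
  obtain ⟨r, hr⟩ := hp
  have hne : Module.finrank F ↥(S.fixT T g) ≠ 3 := fun h3 => hg1 (by
    refine act_ext fun v => ?_
    have htop : fixSp g = ⊤ := Submodule.eq_top_of_finrank_eq (by
      rw [Module.finrank_fintype_fun_eq_card, S.card_eq, ← h, h3, hT]; omega)
    rw [act_one]
    exact mem_fixSp.1 (htop ▸ Submodule.mem_top))
  omega

theorem eq_one_of_fix_two {g : Iso} (hg : g ∈ S.Rot T) (hT : T.card = 3) {u v : Fin n → F}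
    (hu : u ∈ InS F T) (hv : v ∈ InS F T) (hfu : S.img g u = u) (hfv : S.img g v = v) (hu0 : u ≠ 0)
    (hv' : ∀ t : F, v ≠ t • u) : g = 1 := by
  by_contra hg1
  obtain ⟨w, -, hw⟩ := finrank_eq_one_iff'.1 (finrank_fixT hg hT hg1)
  obtain ⟨a, ha⟩ := hw ⟨u, mem_fixT.2 ⟨hfu, hu⟩⟩
  obtain ⟨b, hb⟩ := hw ⟨v, mem_fixT.2 ⟨hfv, hv⟩⟩
  have ha' : a • (w : Fin n → F) = u := congrArg Subtype.val ha
  have hb' : b • (w : Fin n → F) = v := congrArg Subtype.val hb
  have ha0 : a ≠ 0 := fun e => hu0 (by rw [← ha', e, zero_smul])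
  exact hv' (b / a) (by rw [← ha', smul_smul, div_mul_cancel₀ b ha0, hb'])

variable (S)

include S in
/-- a partner of a singular vector with the same support -/
theorem exists_partner {z : Fin n → F} (hzT : z ∈ InS F T) (hz0 : z ≠ 0) (hz : dot z z = 0) :
    ∃ f ∈ InS F T, dot z f = 1 ∧ dot f f = 0 := by
  obtain ⟨i, hi⟩ := Function.ne_iff.1 hz0
  simp only [Pi.zero_apply] at hi
  have hiT : i ∈ T := by by_contra h; exact hi (hzT i h)
  refine ⟨(z i)⁻¹ • Pi.single i 1 - (2 * z i * z i)⁻¹ • z,
    Submodule.sub_mem _ (Submodule.smul_mem _ _ (single_mem_InS hiT)) (Submodule.smul_mem _ _ hzT), ?_, ?_⟩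
  · rw [dot_sub_right, dot_smul_right, dot_smul_right, dot_single', hz, mul_zero, sub_zero,
      inv_mul_cancel₀ hi]
  · simp only [dot_sub_right, dot_sub_left, dot_smul_right, dot_smul_left]
    rw [dot_single_self, dot_single, dot_single', hz]
    have := S.two
    field_simp
    ring

include S in
theorem polar_vec_zero {z w : Fin n → F} (h : dot z w = 0) : QuadraticMap.polar Q (S.vec z) (S.vec w) = 0 := by
  rw [polar_vec_vec, h, mul_zero]

theorem Q_vec_zero {z : Fin n → F} (h : dot z z = 0) : Q (S.vec z) = 0 := by rw [Q_vec, h, mul_zero]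

/-- the Eichler transformation in coordinates -/
noncomputable def eichC {z w : Fin n → F} (hz : dot z z = 0) (hzw : dot z w = 0) : Cfsg.isometryGroup F ⇑Q :=
  eich (S.vec z) (S.vec w) (S.Q_vec_zero hz) (S.polar_vec_zero hzw)

theorem eichC_mul {z w w' : Fin n → F} (hz : dot z z = 0) (hzw : dot z w = 0) (hzw' : dot z w' = 0) :
    S.eichC hz hzw * S.eichC hz hzw' =
      S.eichC (w := w + w') hz (by rw [dot_add_right, hzw, hzw', add_zero]) := by
  rw [eichC, eichC, eichC, eich_mul]
  exact eich_congr (map_add S.vec w w').symm _ _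

theorem eichC_pow {z w : Fin n → F} (hz : dot z z = 0) (hzw : dot z w = 0) (k : ℕ) :
    S.eichC hz hzw ^ k = S.eichC (w := (k : F) • w) hz (by rw [dot_smul_right, hzw, mul_zero]) := by
  induction k with
  | zero =>
    rw [pow_zero, eichC]
    symm
    refine (eich_congr (by rw [Nat.cast_zero, zero_smul, map_zero]) _ _).trans
      (eich_zero_right _ (by rw [QuadraticMap.polar_zero_right]))
  | succ k ih =>
    rw [pow_succ, ih, eichC_mul]
    simp only [Nat.cast_succ, add_smul, one_smul]

theorem eichC_mem_Rot {z w : Fin n → F} (hz : dot z z = 0) (hzw : dot z w = 0) (hzT : z ∈ InS F T)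
    (hwT : w ∈ InS F T) : S.eichC hz hzw ∈ S.Rot T := by
  have hout : ∀ x : Fin n → F, x ∈ InS F T → ∀ i, i ∉ T → QuadraticMap.polar Q (S.e i) (S.vec x) = 0 :=
    fun x hx i hi => by rw [polar_e_vec, hx i hi, mul_zero]
  refine ⟨fun i hi => act_eich_fix _ _ (hout z hzT i hi) (hout w hwT i hi), ?_⟩
  have h2 : dot z ((2 : F)⁻¹ • w) = 0 := by rw [dot_smul_right, hzw, mul_zero]
  have e : S.eichC hz hzw = S.eichC hz h2 * S.eichC hz h2 := by
    rw [eichC_mul]
    have hw : w = (2 : F)⁻¹ • w + (2 : F)⁻¹ • w := by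
      rw [← add_smul, ← two_mul, mul_inv_cancel₀ S.two, one_smul]
    exact eich_congr (congrArg S.vec hw) _ _
  rw [e, S.par_hom, Int.units_mul_self]

theorem act_eichC {z w : Fin n → F} (hz : dot z z = 0) (hzw : dot z w = 0) (x : Fin n → F) :
    S.img (S.eichC hz hzw) x = x + (2 * S.c * dot x z) • w - (2 * S.c * dot x w) • z -
      (S.c * dot w w * (2 * S.c * dot x z)) • z := by
  rw [img, eichC, act_eich, polar_vec_vec, polar_vec_vec, Q_vec, ← map_smul, ← map_smul, ← map_smul, ← map_add,
    ← map_sub, ← map_sub, co_vec]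

variable {S} in
/-- a rotation fixing a singular vector is an Eichler transformation -/
theorem rot_eich {g : Iso} (hg : g ∈ S.Rot T) (hT : T.card = 3) {z : Fin n → F} (hzT : z ∈ InS F T)
    (hz0 : z ≠ 0) (hz : dot z z = 0) (hfix : S.img g z = z) :
    ∃ w ∈ InS F T, ∃ hzw : dot z w = 0, g = S.eichC hz hzw := by
  obtain ⟨f, hfT, hzf, hff⟩ := S.exists_partner hzT hz0 hz
  set d := S.img g f - f with hd
  have hzd : dot z d = 0 := by
    rw [hd, dot_sub_right]
    conv_lhs => arg 1; arg 1; rw [← hfix]
    rw [dot_img, sub_self]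
  have hfd : 2 * dot f d + dot d d = 0 := by
    have h1 := S.dot_img g f f
    rw [show S.img g f = f + d by rw [hd]; abel, dot_add_left, dot_add_right, dot_add_right, hff,
      dot_comm d f] at h1
    linear_combination h1
  have hdT : d ∈ InS F T := Submodule.sub_mem _ (Rot.img_mem hg hfT) hfT
  have hzw : dot z ((2 * S.c)⁻¹ • d) = 0 := by rw [dot_smul_right, hzd, mul_zero]
  refine ⟨_, Submodule.smul_mem _ _ hdT, hzw, ?_⟩
  set E := S.eichC hz hzw with hE
  have hET : E ∈ S.Rot T := S.eichC_mem_Rot hz hzw hzT (Submodule.smul_mem _ _ hdT)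
  have hEz : S.img E z = z := by
    rw [hE, act_eichC, hz, hzw]; simp
  have hEf : S.img E f = S.img g f := by
    rw [show S.img g f = f + d by rw [hd]; abel, hE, act_eichC, dot_comm f z, hzf]
    simp only [dot_smul_right, dot_smul_left, smul_smul, mul_one]
    rw [mul_inv_cancel₀ S.two_c, one_smul, sub_sub, ← add_smul, sub_eq_self, smul_eq_zero]
    left
    have := S.two_c; have := S.two; have := S.c_ne
    field_simp
    linear_combination hfd
  have h1 := eq_one_of_fix_two (mul_mem (inv_mem hET) hg) hT hzT hfT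
    (by rw [img_mul, hfix]; conv_lhs => rw [← hEz]; rw [img_inv_img])
    (by rw [img_mul, ← hEf, img_inv_img]) hz0 fun t e => by
      rw [e, dot_smul_right, hz, mul_zero] at hzf; exact zero_ne_one hzf
  exact (inv_mul_eq_one.1 h1).symm

end Setup

end Cfsg.Agent.Forms.Max.UnitFrame
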