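import Cfsg.Agent.Lib.Forms.Max.UnitFrame.Trick

/-!
# Minimal supports

Without members of small support every element of the subgroup is monomial.  Members with four non-zero
coordinates have all of them equal to a half up to sign, and a descent on integral vectors then gives members with
three non-zero coordinates unless the field has three elements.
-/

set_option autoImplicit false
set_option linter.unusedSectionVars false

namespace Cfsg.Agent.Forms.Max.UnitFrame

open Matrix Cfsg.Agent.Forms.QuadStd Cfsg.Agent.Forms.Reflections Cfsg.Agent.Classical.Orth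

variable {F : Type*} [Field F] [Fintype F] {ι : Type} [Fintype ι] [DecidableEq ι] {n : ℕ}
variable {Q : QuadraticForm F (ι → F)} {S : Setup Q n}

set_option quotPrecheck false in
local notation "Iso" => Cfsg.isometryGroup F ⇑Q

namespace Setup

/-- without members of support at most four everything is monomial -/
theorem mon_of_small (hn : n = 5 ∨ n = 7 ∨ 9 ≤ n) (hs : S.Small 4) {g : Iso} (hg : g ∈ S.M) : S.Mon g := by
  classical
  by_cases hex : ∃ s, ∃ x, S.R0 x ∧ Nontriv x ∧ (supp x).card = s
  swap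
  · have hall : ∀ k, S.Small k := fun k x hx _ hN => hex ⟨_, x, hx, hN, rfl⟩
    exact trick (T := Finset.univ) ⟨by rw [Finset.card_univ, Fintype.card_fin]; omega, hall 4, hall _⟩
      ⟨hg, fun i hi => absurd (Finset.mem_univ i) hi⟩
  exfalso
  obtain ⟨x, hx, hN, hcard⟩ := Nat.find_spec hex
  set s := Nat.find hex with hs'
  have hmin : ∀ k, k < s → S.Small k := fun k hk y hy hc hNy =>
    Nat.find_min hex (lt_of_le_of_lt hc hk) ⟨y, hy, hNy, rfl⟩
  have h5 : 5 ≤ s := by
    by_contra hc
    exact hs x hx (by omega) hN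
  have hsn : s ≤ n := by
    rw [← hcard]; exact (Finset.card_le_univ _).trans (Fintype.card_fin n).le
  obtain ⟨T, hxT, -, hTc⟩ := Finset.exists_subsuperset_card_eq (s := supp x) (t := Finset.univ)
    (n := if s = 6 ∨ s = 8 then s + 1 else s) (Finset.subset_univ _) (by rw [hcard]; split <;> omega)
    (by rw [Finset.card_univ, Fintype.card_fin]; split <;> omega)
  have hfit : Fit S T := by
    refine ⟨?_, hs, ?_⟩
    · rw [hTc]; split <;> omega
    · refine hmin _ ?_
      rw [hTc]; split <;> omega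
  obtain ⟨a, ha⟩ := supp_nonempty hx.1
  obtain ⟨b, hb, c, hc, hbc⟩ := Finset.one_lt_card.1 (show 1 < ((supp x).erase a).card by
    rw [Finset.card_erase_of_mem ha]; omega)
  simp only [Finset.mem_erase] at hb hc
  have hm : S.Mon (S.r x * S.r (Pi.single a 1)) := trick hfit ⟨hx.2 a, fun i hi => by
    have hia : i ≠ a := fun e => hi (hxT (e ▸ ha))
    have hxi : x i = 0 := supp_subset_iff.1 hxT i hi
    rw [act_mul, r_single, act_eps, if_neg (by simpa using hia), act_e, S.img_r hx.1, rf, dot_single', hxi,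
      mul_zero, zero_smul, sub_zero, vec_single]⟩
  obtain ⟨j, t, hj⟩ := S.mon_iff.1 hm b
  rw [img_mul, r_single, show S.img (S.eps {a}) (Pi.single b 1) = Pi.single b 1 from
    S.img_eps_eq_self.2 (fun m hm => by
      rw [Finset.mem_singleton] at hm; rw [hm, Pi.single_eq_of_ne (Ne.symm hb.1)]),
    S.img_r hx.1, rf, dot_single'] at hj
  rcases eq_or_ne j a with rfl | hja
  · have := congrFun hj c
    simp [Ne.symm hbc, hc.1, S.two, mem_supp.1 hb.2, mem_supp.1 hc.2] at this
  · have := congrFun hj a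
    simp [Ne.symm hb.1, Ne.symm hja, S.two, mem_supp.1 hb.2, mem_supp.1 ha] at this

theorem R0.signs {x y : Fin n → F} (hx : S.R0 x) (h : ∀ i, y i = x i ∨ y i = -x i) : S.R0 y := by
  classical
  have key : ∀ U : Finset (Fin n), S.R0 (fun i => if i ∈ U then -x i else x i) := by
    intro U
    induction U using Finset.induction with
    | empty => simpa using hx
    | insert a U ha ih =>
      convert ih.flip a using 1
      funext i
      by_cases hi : i = a
      · subst hi; simp [ha]
      · simp [hi]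
  convert key (Finset.univ.filter fun i => y i = -x i) using 1
  funext i
  by_cases hi : y i = -x i
  · simp [hi]
  · rcases h i with h' | h'
    · simp [hi, h']
    · exact absurd h' hi

/-- the pairing equation for a member with four non-zero coordinates -/
theorem pair_half (hs : S.Small 3) (hn : 5 ≤ n) {x : Fin n → F} (hx : S.R0 x) {a b c d : Fin n}
    (hab : a ≠ b) (hac : a ≠ c) (had : a ≠ d) (hbc : b ≠ c) (hbd : b ≠ d) (hcd : c ≠ d)
    (hsupp : supp x = {a, b, c, d}) : 2 * (x a * x a + x b * x b) = 1 := by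
  classical
  set σ : Equiv.Perm (Fin n) := Equiv.swap a b * Equiv.swap c d with hσ
  set J := S.perm σ * S.eps {b, d} with hJ
  have hσs : Equiv.Perm.sign σ = 1 := by
    rw [hσ, map_mul, Equiv.Perm.sign_swap hab, Equiv.Perm.sign_swap hcd, Int.units_mul_self]
  have hJΩ : J ∈ Cfsg.Omega F ⇑Q :=
    mul_mem (S.perm_omega hσs) (S.eps_omega (by rw [Finset.card_pair hbd]; exact even_two))
  have hJm : S.Mon J := (S.perm_mon σ).mul (S.eps_mon _)
  set A := S.r x * J * S.r x with hA
  have hAM : A ∈ S.M := by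
    set ra := S.r (Pi.single a 1) with hra
    have h1 : S.r x * ra ∈ S.M := hx.2 a
    have h2 : ra * J * ra ∈ S.M := by
      refine S.mem_of_mon (cls_eq_one.1 ?_) ((hra ▸ (S.r_single a ▸ S.eps_mon {a}) : S.Mon ra).mul hJm |>.mul
        (hra ▸ (S.r_single a ▸ S.eps_mon {a}) : S.Mon ra))
      rw [map_mul, map_mul, cls_eq_one.2 hJΩ, mul_one, ← map_mul, hra, r_mul_self, map_one]
    have h3 : ra * S.r x ∈ S.M := by
      have := inv_mem h1
      rwa [_root_.mul_inv_rev, hra, r_inv, r_inv, ← hra] at this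
    have e := mul_mem (mul_mem h1 h2) h3
    have hrr : ra * ra = 1 := S.r_mul_self _
    rwa [show S.r x * ra * (ra * J * ra) * (ra * S.r x) = S.r x * (ra * ra) * J * (ra * ra) * S.r x by
      simp only [mul_assoc], hrr, mul_one, mul_one, ← hA] at e
  have hxo : ∀ m, m ≠ a → m ≠ b → m ≠ c → m ≠ d → x m = 0 := fun m h1 h2 h3 h4 =>
    supp_subset_iff.1 (le_of_eq hsupp) m (by simp [h1, h2, h3, h4])
  have hσi : σ.symm = Equiv.swap c d * Equiv.swap a b := by
    rw [hσ, ← Equiv.Perm.inv_def, _root_.mul_inv_rev, Equiv.swap_inv, Equiv.swap_inv]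
  have hJy : ∀ y : Fin n → F, S.img J y a = -y b ∧ S.img J y b = y a ∧ S.img J y c = -y d ∧ S.img J y d = y c ∧
      ∀ m, m ≠ a → m ≠ b → m ≠ c → m ≠ d → S.img J y m = y m := fun y => by
    have e0 : ∀ m, S.img J y m =
        if σ.symm m ∈ ({b, d} : Finset (Fin n)) then -y (σ.symm m) else y (σ.symm m) := fun m => by
      rw [hJ, img_mul, img_perm, img_eps]
    have sa : σ.symm a = b := by
      rw [hσi, Equiv.Perm.mul_apply, Equiv.swap_apply_left, Equiv.swap_apply_of_ne_of_ne hbc hbd]
    have sb : σ.symm b = a := by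
      rw [hσi, Equiv.Perm.mul_apply, Equiv.swap_apply_right, Equiv.swap_apply_of_ne_of_ne hac had]
    have sc : σ.symm c = d := by
      rw [hσi, Equiv.Perm.mul_apply, Equiv.swap_apply_of_ne_of_ne hac.symm hbc.symm, Equiv.swap_apply_left]
    have sd : σ.symm d = c := by
      rw [hσi, Equiv.Perm.mul_apply, Equiv.swap_apply_of_ne_of_ne had.symm hbd.symm, Equiv.swap_apply_right]
    refine ⟨?_, ?_, ?_, ?_, fun m h1 h2 h3 h4 => ?_⟩
    · rw [e0, sa]; simp
    · rw [e0, sb]; simp [hab, had]
    · rw [e0, sc]; simp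
    · rw [e0, sd]; simp [hbc.symm, hcd]
    · have sm : σ.symm m = m := by
        rw [hσi, Equiv.Perm.mul_apply, Equiv.swap_apply_of_ne_of_ne h1 h2, Equiv.swap_apply_of_ne_of_ne h3 h4]
      rw [e0, sm]; simp [h2, h4]
  have hx4 : ∀ f : Fin n → F, dot x f = x a * f a + x b * f b + x c * f c + x d * f d := fun f => by
    rw [dot_eq_sum_of_subset (le_of_eq hsupp), Finset.sum_insert (by simp [hab, hac, had]),
      Finset.sum_insert (by simp [hbc, hbd]), Finset.sum_pair hcd]
    ring
  obtain ⟨o, ho⟩ : ∃ o, o ∉ supp x := by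
    by_contra hc'
    push Not at hc'
    have := Finset.card_le_card (show (Finset.univ : Finset (Fin n)) ⊆ supp x from fun i _ => hc' i)
    rw [Finset.card_univ, Fintype.card_fin, hsupp] at this
    have : ({a, b, c, d} : Finset (Fin n)).card ≤ 4 := by
      refine (Finset.card_insert_le _ _).trans ?_
      refine Nat.succ_le_succ ((Finset.card_insert_le _ _).trans (Nat.succ_le_succ ?_))
      rw [Finset.card_pair hcd]
    omega
  rw [hsupp] at ho
  simp only [Finset.mem_insert, Finset.mem_singleton, not_or] at ho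
  obtain ⟨ho1, ho2, ho3, ho4⟩ := ho
  have hro : S.img (S.r x) (Pi.single o 1) = Pi.single o 1 := by
    rw [S.img_r hx.1, rf, dot_single', hxo o ho1 ho2 ho3 ho4, mul_zero, zero_smul, sub_zero]
  have hJo : S.img J (Pi.single o 1) = Pi.single o 1 := by
    funext m
    obtain ⟨e1, e2, e3, e4, e5⟩ := hJy (Pi.single o 1)
    by_cases h1 : m = a
    · subst h1; rw [e1]; simp [Ne.symm ho1, Ne.symm ho2]
    by_cases h2 : m = b
    · subst h2; rw [e2]; simp [Ne.symm ho1, Ne.symm ho2]
    by_cases h3 : m = c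
    · subst h3; rw [e3]; simp [Ne.symm ho3, Ne.symm ho4]
    by_cases h4 : m = d
    · subst h4; rw [e4]; simp [Ne.symm ho3, Ne.symm ho4]
    exact e5 m h1 h2 h3 h4
  have hAo : S.img A (Pi.single o 1) = (1 : F) • Pi.single o 1 := by
    rw [hA, img_mul, img_mul, hro, hJo, hro, one_smul]
  set w := S.img A (Pi.single a 1) with hw
  have hwv : w a = 0 ∧ w b = 1 - 2 * (x a * x a + x b * x b) ∧ w c = 2 * (x a * x d - x b * x c) ∧
      w d = -(2 * (x a * x c + x b * x d)) ∧ ∀ m, m ≠ a → m ≠ b → m ≠ c → m ≠ d → w m = 0 := by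
    rw [hw, hA, img_mul, img_mul, S.img_r hx.1, S.img_r hx.1]
    obtain ⟨e1, e2, e3, e4, e5⟩ := hJy (rf x (Pi.single a 1))
    have h1 := hx.1
    rw [hx4] at h1
    have r1 : rf x (Pi.single a 1) a = 1 - 2 * x a * x a := by simp [rf, dot_single']
    have r2 : rf x (Pi.single a 1) b = -(2 * x a * x b) := by simp [rf, dot_single', hab.symm]
    have r3 : rf x (Pi.single a 1) c = -(2 * x a * x c) := by simp [rf, dot_single', hac.symm]
    have r4 : rf x (Pi.single a 1) d = -(2 * x a * x d) := by simp [rf, dot_single', had.symm]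
    have hd : dot x (S.img J (rf x (Pi.single a 1))) = x b := by
      rw [hx4, e1, e2, e3, e4, r1, r2, r3, r4]; ring
    simp only [rf] at hd e1 e2 e3 e4 e5 r1 r2 r3 r4 ⊢
    simp only [hd, Pi.sub_apply, Pi.smul_apply, smul_eq_mul] at r1 r2 r3 r4 ⊢
    rw [e1, e2, e3, e4]
    simp only [Pi.sub_apply, Pi.smul_apply, smul_eq_mul, r1, r2, r3, r4]
    refine ⟨by ring, by ring, by ring, by ring, fun m h1 h2 h3 h4 => ?_⟩
    rw [e5 m h1 h2 h3 h4]
    simp [hxo m h1 h2 h3 h4, h1]
  obtain ⟨hwa, hwb, hwc, hwd, hwo⟩ := hwv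
  obtain ⟨j, t, hj⟩ := single_col hs hAM hAo a (hs _ (R0.map_col hAM hAo (single_mem a)) ((supp_card_le
    (T := {b, c, d}) fun m hm => by
      simp only [Finset.mem_insert, Finset.mem_singleton, not_or] at hm
      by_cases h1 : m = a
      · subst h1; exact hwa
      · exact hwo m h1 hm.1 hm.2.1 hm.2.2).trans Finset.card_le_three))
  by_contra hne
  have hb0 : w b ≠ 0 := by rw [hwb]; exact fun e => hne (by linear_combination -e)
  rw [← hw] at hj
  have hjb : j = b := by
    by_contra h
    rw [hj] at hb0; simp [Ne.symm h] at hb0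
  subst hjb
  have hc0 : x a * x d - x j * x c = 0 := by
    have := hwc; rw [hj] at this
    simp [Ne.symm hbc, S.two] at this
    exact this
  have hd0 : x a * x c + x j * x d = 0 := by
    have := hwd; rw [hj] at this
    simp [Ne.symm hbd, S.two] at this
    exact this
  have hd' : x d ≠ 0 := mem_supp.1 (by rw [hsupp]; simp)
  have ha' : x a ≠ 0 := mem_supp.1 (by rw [hsupp]; simp)
  have k1 : x a * x a + x j * x j = 0 :=
    (mul_eq_zero.1 (show x d * (x a * x a + x j * x j) = 0 by linear_combination x a * hc0 + x j * hd0)).resolve_left hd'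
  have k2 : x c * x c + x d * x d = 0 :=
    (mul_eq_zero.1 (show x a * (x c * x c + x d * x d) = 0 by linear_combination x d * hc0 + x c * hd0)).resolve_left ha'
  have h1 := hx.1
  rw [hx4] at h1
  exact one_ne_zero (show (1 : F) = 0 by linear_combination k1 + k2 - h1)

theorem quarter (hs : S.Small 3) (hn : 5 ≤ n) {x : Fin n → F} (hx : S.R0 x) (hc : (supp x).card = 4) :
    ∀ i ∈ supp x, 4 * (x i * x i) = 1 := by
  classical
  intro a ha
  obtain ⟨b, c, d, hbc, hbd, hcd, he⟩ := Finset.card_eq_three.1 (show ((supp x).erase a).card = 3 by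
    rw [Finset.card_erase_of_mem ha, hc])
  have hmem : ∀ i, i = b ∨ i = c ∨ i = d → i ≠ a := fun i hi =>
    (Finset.mem_erase.1 (show i ∈ (supp x).erase a by rw [he]; simpa using hi)).1
  have hab : a ≠ b := (hmem b (Or.inl rfl)).symm
  have hac : a ≠ c := (hmem c (Or.inr (Or.inl rfl))).symm
  have had : a ≠ d := (hmem d (Or.inr (Or.inr rfl))).symm
  have hsupp : supp x = {a, b, c, d} := by rw [← Finset.insert_erase ha, he]
  have h1 := pair_half hs hn hx hab hac had hbc hbd hcd hsupp
  have h2 := pair_half hs hn hx hac hab had hbc.symm hcd hbd (by rw [hsupp, Finset.insert_comm b c])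
  have h3 := pair_half hs hn hx had hab hac hbd.symm hcd.symm hbc
    (by rw [hsupp]; ext i; simp only [Finset.mem_insert, Finset.mem_singleton]; tauto)
  have h4 := hx.1
  rw [dot_eq_sum_of_subset (le_of_eq hsupp), Finset.sum_insert (by simp [hab, hac, had]),
    Finset.sum_insert (by simp [hbc, hbd]), Finset.sum_pair hcd] at h4
  linear_combination h1 + h2 + h3 - 2 * h4

/-- all vectors with four coordinates equal to a half up to sign -/
theorem half_four (hs : S.Small 3) (hn : 5 ≤ n) {x : Fin n → F} (hx : S.R0 x) (hc : (supp x).card = 4)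
    {y : Fin n → F} (hy : (supp y).card = 4) (hy' : ∀ i ∈ supp y, 4 * (y i * y i) = 1) : S.R0 y := by
  classical
  obtain ⟨σ, hσ1, -, hσ⟩ := exists_even_perm (T := Finset.univ) (Finset.subset_univ (supp y))
    (Finset.subset_univ (supp x)) (by omega) (by omega)
  refine R0.signs (R0.perm hσ1 hx) fun i => ?_
  have hm : i ∈ supp y ↔ σ.symm i ∈ supp x := by rw [← hσ, Finset.mem_map_equiv]
  by_cases hi : i ∈ supp y
  · have h1 := hy' i hi
    have h2 := quarter hs hn hx hc _ (hm.1 hi)
    have h4 : (4 : F) ≠ 0 := by rw [show (4 : F) = 2 * 2 by norm_num]; exact mul_ne_zero S.two S.two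
    exact mul_self_eq_mul_self_iff.1 (mul_left_cancel₀ h4 (h1.trans h2.symm))
  · refine Or.inl ?_
    rw [Classical.not_not.1 fun h => hi (mem_supp.2 h), Classical.not_not.1 fun h => hi (hm.2 (mem_supp.2 h))]

/-- descent along integral vectors -/
theorem descent (hfour : ∀ y : Fin n → F, (supp y).card = 4 → (∀ i ∈ supp y, 4 * (y i * y i) = 1) → S.R0 y) :
    ∀ (k : ℕ) (z : Fin n → ℤ), ∑ i, z i * z i = 4 ^ k → S.R0 (fun i => (z i : F) * ((2 : F) ^ k)⁻¹) := by
  classical
  intro k
  induction k with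
  | zero =>
    intro z hz
    rw [pow_zero] at hz
    obtain ⟨j, hj⟩ : ∃ j, z j ≠ 0 := by
      by_contra h; push Not at h; simp [h] at hz
    have h1 : 1 ≤ z j * z j := by
      rcases lt_or_gt_of_ne hj with h | h <;> nlinarith
    have h2 := Finset.add_sum_erase Finset.univ (fun i => z i * z i) (Finset.mem_univ j)
    simp only [hz] at h2
    have h3 : 0 ≤ ∑ i ∈ Finset.univ.erase j, z i * z i := Finset.sum_nonneg fun i _ => mul_self_nonneg _
    have h4 := (Finset.sum_eq_zero_iff_of_nonneg fun i _ => mul_self_nonneg (z i)).1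
      (show ∑ i ∈ Finset.univ.erase j, z i * z i = 0 by omega)
    have hjj : z j * z j = 1 := by omega
    convert S.r0_smul_single j (s := (z j : F)) (by rw [← Int.cast_mul, hjj, Int.cast_one]) using 1
    funext i
    by_cases hi : i = j
    · subst hi; simp
    · have : z i = 0 := mul_self_eq_zero.1 (h4 i (by simp [hi]))
      simp [hi, this]
  | succ k ih =>
    suffices H : ∀ (m : ℕ) (z : Fin n → ℤ), (Finset.univ.filter fun i => Odd (z i)).card = m →
        ∑ i, z i * z i = 4 ^ (k + 1) → S.R0 (fun i => (z i : F) * ((2 : F) ^ (k + 1))⁻¹) from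
      fun z hz => H _ z rfl hz
    intro m
    induction m using Nat.strong_induction_on with
    | _ m ihm =>
    intro z hm hz
    set O := Finset.univ.filter fun i => Odd (z i) with hO
    by_cases hm0 : m = 0
    · have hall : ∀ i, ∃ w, z i = w + w := fun i => Int.not_odd_iff_even.1 fun h => by
        have : i ∈ O := by simp [hO, h]
        rw [Finset.card_eq_zero.1 (hm.trans hm0)] at this
        simp at this
      choose w hw using hall
      have hz' : ∑ i, w i * w i = 4 ^ k := by
        have e : ∑ i, z i * z i = 4 * ∑ i, w i * w i := by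
          rw [Finset.mul_sum]; exact Finset.sum_congr rfl fun i _ => by rw [hw i]; ring
        rw [e, pow_succ] at hz
        linarith
      convert ih w hz' using 1
      funext i
      rw [hw i, pow_succ, mul_inv]
      have := S.two
      push_cast
      field_simp
      ring
    have h4 : 4 ≤ O.card := by
      have hdvd : (4 : ℤ) ∣ ∑ i, (z i * z i - if Odd (z i) then 1 else 0) := Finset.dvd_sum fun i _ => by
        by_cases hi : Odd (z i)
        · obtain ⟨w, hw⟩ := hi
          rw [if_pos ⟨w, hw⟩, hw]; exact ⟨w * w + w, by ring⟩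
        · obtain ⟨w, hw⟩ := Int.not_odd_iff_even.1 hi
          rw [if_neg hi, hw]; exact ⟨w * w, by ring⟩
      have e4 : (4 : ℤ) ∣ 4 ^ (k + 1) := dvd_pow_self _ (by omega)
      rw [Finset.sum_sub_distrib, Finset.sum_boole, hz, ← hO, dvd_sub_right e4] at hdvd
      have := Int.natCast_dvd_natCast.1 (show ((4 : ℕ) : ℤ) ∣ (O.card : ℤ) by exact_mod_cast hdvd)
      omega
    obtain ⟨U, hU, hUc⟩ := Finset.exists_subset_card_eq h4
    have hodd : ∀ i ∈ U, Odd (z i) := fun i hi => (Finset.mem_filter.1 (hU hi)).2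
    obtain ⟨s, t, hs, ht, hst⟩ : ∃ (s : Fin n → ℤ) (t : ℤ), (∀ i, s i = 1 ∨ s i = -1) ∧ Odd t ∧
        ∑ i ∈ U, s i * z i = 2 * t := by
      have hev : Even (∑ i ∈ U, z i) := by
        have e : ∑ i ∈ U, z i = ∑ i ∈ U, (z i - 1) + 4 := by simp [Finset.sum_sub_distrib, hUc]
        rw [e]
        refine Even.add (Finset.sum_induction _ Even (fun _ _ h h' => h.add h') ⟨0, rfl⟩ fun i hi => ?_) (by decide)
        exact Int.even_sub'.2 ⟨fun _ => odd_one, fun _ => hodd i hi⟩
      obtain ⟨t, ht⟩ := hev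
      by_cases hto : Odd t
      · exact ⟨fun _ => 1, t, fun _ => Or.inl rfl, hto, by simp [ht]; ring⟩
      obtain ⟨u, hu⟩ := Finset.card_pos.1 (show 0 < U.card by omega)
      refine ⟨fun i => if i = u then -1 else 1, t - z u, fun i => by by_cases h : i = u <;> simp [h],
        ?_, ?_⟩
      · exact Int.odd_sub'.2 ⟨fun _ => Int.not_odd_iff_even.1 hto, fun _ => hodd u hu⟩
      · have e : ∀ i, (if i = u then (-1 : ℤ) else 1) * z i = z i - if i = u then 2 * z u else 0 := fun i => by
          by_cases h : i = u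
          · subst h; simp; ring
          · simp [h]
        simp only [e, Finset.sum_sub_distrib, Finset.sum_ite_eq', hu, if_true, ht]
        ring
    set z' : Fin n → ℤ := fun i => if i ∈ U then z i - t * s i else z i with hz'
    have hss : ∀ i, s i * s i = 1 := fun i => by rcases hs i with h | h <;> rw [h] <;> norm_num
    have hsU : ∑ i ∈ U, s i * s i = 4 := by simp [hss, hUc]
    have hnorm : ∑ i, z' i * z' i = 4 ^ (k + 1) := by
      rw [← hz, ← Finset.sum_add_sum_compl U, ← Finset.sum_add_sum_compl U]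
      congr 1
      · have e : ∀ i ∈ U, z' i * z' i = z i * z i - 2 * t * (s i * z i) + t * t * (s i * s i) := fun i hi => by
          simp only [hz', if_pos hi]; ring
        rw [Finset.sum_congr rfl e, Finset.sum_add_distrib, Finset.sum_sub_distrib, ← Finset.mul_sum, hst,
          ← Finset.mul_sum, hsU]
        ring
      · exact Finset.sum_congr rfl fun i hi => by simp [hz', Finset.mem_compl.1 hi]
    have hlt : (Finset.univ.filter fun i => Odd (z' i)).card < m := by
      rw [← hm]
      refine Finset.card_lt_card ((Finset.ssubset_iff_of_subset fun i hi => ?_).2 ?_)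
      · simp only [hz', Finset.mem_filter, Finset.mem_univ, true_and] at hi
        by_cases hiU : i ∈ U
        · exact hU hiU
        · rw [if_neg hiU] at hi; simp [hO, hi]
      · obtain ⟨u, hu⟩ := Finset.card_pos.1 (show 0 < U.card by omega)
        refine ⟨u, hU hu, ?_⟩
        simp only [hz', Finset.mem_filter, Finset.mem_univ, true_and, if_pos hu, Int.not_odd_iff_even]
        refine Int.even_sub'.2 ⟨fun _ => ?_, fun _ => hodd u hu⟩
        refine ht.mul ?_
        rcases hs u with h | h <;> rw [h] <;> decide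
    set h : Fin n → F := fun i => if i ∈ U then (s i : F) * 2⁻¹ else 0 with hh
    have hsF : ∀ i, (s i : F) * (s i : F) = 1 := fun i => by exact_mod_cast congrArg (Int.cast : ℤ → F) (hss i)
    have hne : ∀ i, (s i : F) * 2⁻¹ ≠ 0 := fun i =>
      mul_ne_zero (fun e => by simpa [e] using hsF i) (inv_ne_zero S.two)
    have hsupp : supp h = U := by
      ext i; rw [mem_supp]; by_cases hi : i ∈ U <;> simp [hh, hi, hne i]
    have hhR : S.R0 h := hfour h (by rw [hsupp, hUc]) fun i hi => by
      rw [hsupp] at hi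
      simp only [hh, if_pos hi]
      have := S.two
      field_simp
      linear_combination 4 * hsF i
    convert hhR.refl (ihm _ hlt z' rfl hnorm) using 1
    funext i
    have hdot : dot h (fun j => (z' j : F) * ((2 : F) ^ (k + 1))⁻¹) = -(t : F) * ((2 : F) ^ (k + 1))⁻¹ := by
      rw [dot_eq_sum_of_subset (le_of_eq hsupp)]
      have e : ∀ j ∈ U, h j * ((z' j : F) * ((2 : F) ^ (k + 1))⁻¹) =
          (((s j * z j - t * (s j * s j) : ℤ) : F)) * (2⁻¹ * ((2 : F) ^ (k + 1))⁻¹) := fun j hj => by
        simp only [hh, hz', if_pos hj]; push_cast; ring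
      rw [Finset.sum_congr rfl e, ← Finset.sum_mul, ← Int.cast_sum, Finset.sum_sub_distrib, ← Finset.mul_sum,
        hst, hsU]
      have := S.two
      push_cast
      field_simp
      ring
    simp only [rf, hdot, Pi.sub_apply, Pi.smul_apply, smul_eq_mul]
    have := S.two
    by_cases hi : i ∈ U
    · simp only [hh, hz', if_pos hi]; push_cast; field_simp; ring
    · simp only [hh, hz', if_neg hi]; ring

/-- a member with a vanishing coordinate among five has equal squares -/
theorem squares_eq (hs : S.Small 3) (hn : 5 ≤ n) {w : Fin n → F} (hw : S.R0 w) {T : Finset (Fin n)}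
    (hT : supp w ⊆ T) (hTc : T.card = 4) {i j : Fin n} (hi : w i ≠ 0) (hj : w j ≠ 0) :
    w i * w i = w j * w j := by
  rcases Nat.lt_or_ge (supp w).card 4 with h | h
  · by_contra hne
    exact hs w hw (by omega) (Or.inr ⟨i, j, hi, hj, hne⟩)
  · have hc : (supp w).card = 4 := le_antisymm ((Finset.card_le_card hT).trans hTc.le) h
    have h4 : (4 : F) ≠ 0 := by rw [show (4 : F) = 2 * 2 by norm_num]; exact mul_ne_zero S.two S.two
    exact mul_left_cancel₀ h4 ((quarter hs hn hw hc i (mem_supp.2 hi)).trans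
      (quarter hs hn hw hc j (mem_supp.2 hj)).symm)

/-- the linear relations of two rotated pairs -/
theorem pair_zero {A C : F} (h2 : (2 : F) ≠ 0) (h3 : (3 : F) ≠ 0) (h7 : (7 : F) ≠ 0)
    (e : 2 * A - C = 0 ∨ A + 2 * C = 0 ∨ (2 * A - C) * (2 * A - C) = (A + 2 * C) * (A + 2 * C))
    (e' : 2 * A + C = 0 ∨ A - 2 * C = 0 ∨ (2 * A + C) * (2 * A + C) = (A - 2 * C) * (A - 2 * C)) :
    A = 0 ∧ C = 0 := by
  have key : ∀ {u v u' v' : F}, u * A + v * C = 0 → u' * A + v' * C = 0 → u * v' - v * u' ≠ 0 → A = 0 ∧ C = 0 := by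
    intro u v u' v' h h' hd
    exact ⟨(mul_eq_zero.1 (show (u * v' - v * u') * A = 0 by linear_combination v' * h - v * h')).resolve_left hd,
      (mul_eq_zero.1 (show (u * v' - v * u') * C = 0 by linear_combination u * h' - u' * h)).resolve_left hd⟩
  obtain ⟨u, v, h, huv⟩ : ∃ u v : F, u * A + v * C = 0 ∧
      ((u = 2 ∧ v = -1) ∨ (u = 1 ∧ v = 2) ∨ (u = 1 ∧ v = -3) ∨ (u = 3 ∧ v = 1)) := by
    rcases e with e | e | e
    · exact ⟨2, -1, by linear_combination e, Or.inl ⟨rfl, rfl⟩⟩
    · exact ⟨1, 2, by linear_combination e, Or.inr (Or.inl ⟨rfl, rfl⟩)⟩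
    · rcases mul_self_eq_mul_self_iff.1 e with e | e
      · exact ⟨1, -3, by linear_combination e, Or.inr (Or.inr (Or.inl ⟨rfl, rfl⟩))⟩
      · exact ⟨3, 1, by linear_combination e, Or.inr (Or.inr (Or.inr ⟨rfl, rfl⟩))⟩
  obtain ⟨u', v', h', huv'⟩ : ∃ u v : F, u * A + v * C = 0 ∧
      ((u = 2 ∧ v = 1) ∨ (u = 1 ∧ v = -2) ∨ (u = 1 ∧ v = 3) ∨ (u = 3 ∧ v = -1)) := by
    rcases e' with e | e | e
    · exact ⟨2, 1, by linear_combination e, Or.inl ⟨rfl, rfl⟩⟩
    · exact ⟨1, -2, by linear_combination e, Or.inr (Or.inl ⟨rfl, rfl⟩)⟩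
    · rcases mul_self_eq_mul_self_iff.1 e with e | e
      · exact ⟨1, 3, by linear_combination e, Or.inr (Or.inr (Or.inl ⟨rfl, rfl⟩))⟩
      · exact ⟨3, -1, by linear_combination e, Or.inr (Or.inr (Or.inr ⟨rfl, rfl⟩))⟩
  refine key h h' fun hd => ?_
  have h4 : (2 : F) * 2 ≠ 0 := mul_ne_zero h2 h2
  have h6 : (2 : F) * 3 ≠ 0 := mul_ne_zero h2 h3
  have h8 : (2 : F) * 2 * 2 ≠ 0 := mul_ne_zero h4 h2
  rcases huv with ⟨rfl, rfl⟩ | ⟨rfl, rfl⟩ | ⟨rfl, rfl⟩ | ⟨rfl, rfl⟩ <;>
    rcases huv' with ⟨rfl, rfl⟩ | ⟨rfl, rfl⟩ | ⟨rfl, rfl⟩ | ⟨rfl, rfl⟩ <;>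
    first
      | exact h4 (by linear_combination hd) | exact h4 (by linear_combination -hd)
      | exact h3 (by linear_combination hd) | exact h3 (by linear_combination -hd)
      | exact h6 (by linear_combination hd) | exact h6 (by linear_combination -hd)
      | exact h7 (by linear_combination hd) | exact h7 (by linear_combination -hd)
      | exact h8 (by linear_combination hd) | exact h8 (by linear_combination -hd)
      | exact one_ne_zero (α := F) (by linear_combination hd)
      | exact one_ne_zero (α := F) (by linear_combination -hd)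

/-- members with four non-zero coordinates but none with three only occur over three elements -/
theorem three_of_four (hp : (Fintype.card F).Prime) (hn : 5 ≤ n) (hs : S.Small 3) {x : Fin n → F}
    (hx : S.R0 x) (hc : (supp x).card = 4) :
    Fintype.card F = 3 ∧ ∀ y : Fin n → F, dot y y = 1 → (supp y).card = 4 → S.R0 y := by
  classical
  set p := Fintype.card F with hpdef
  have : Fact p.Prime := ⟨hp⟩
  have : CharP F p := charP_of_card_eq_prime hpdef.symm
  have hfour : ∀ y : Fin n → F, (supp y).card = 4 → (∀ i ∈ supp y, 4 * (y i * y i) = 1) → S.R0 y :=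
    fun y hy hy' => half_four hs hn hx hc hy hy'
  by_cases h3 : p = 3
  · refine ⟨h3, fun y _ hyc => hfour y hyc fun i hi => ?_⟩
    have := FiniteField.pow_card_sub_one_eq_one (y i) (mem_supp.1 hi)
    rw [← hpdef, h3, show 3 - 1 = 2 from rfl, pow_two] at this
    have h0 : ((3 : ℕ) : F) = 0 := h3 ▸ CharP.cast_eq_zero F p
    rw [Nat.cast_ofNat] at h0
    linear_combination 4 * this + h0
  exfalso
  have hnum : ∀ m : ℕ, ¬ p ∣ m → (m : F) ≠ 0 := fun m hm e => hm ((CharP.cast_eq_zero_iff F p m).1 e)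
  let z5 : (ℕ → ℤ) → Fin n → ℤ := fun G i => if i.val < 5 then G i.val else 0
  have hsum5 : ∀ G : ℕ → ℤ, ∑ i, z5 G i * z5 G i = G 0 * G 0 + G 1 * G 1 + G 2 * G 2 + G 3 * G 3 + G 4 * G 4 := by
    intro G
    show ∑ i : Fin n, (fun j : ℕ => (if j < 5 then G j else 0) * (if j < 5 then G j else 0)) i.val = _
    rw [Fin.sum_univ_eq_sum_range (fun j : ℕ => (if j < 5 then G j else 0) * (if j < 5 then G j else 0)),
      ← Finset.sum_subset (Finset.range_mono hn) fun i _ hi => ?_]
    · simp [Finset.sum_range_succ]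
    · rw [Finset.mem_range] at hi
      simp [hi]
  -- the consequence of a representation with last entry divisible by the characteristic
  have hcons : ∀ (k : ℕ) (G : ℕ → ℤ), G 0 * G 0 + G 1 * G 1 + G 2 * G 2 + G 3 * G 3 + G 4 * G 4 = 4 ^ k →
      (G 4 : F) = 0 → ∀ i j, i < 4 → j < 4 → (G i : F) ≠ 0 → (G j : F) ≠ 0 →
      (G i : F) * G i = (G j : F) * G j := by
    intro k G hG h4 i j hi hj hi0 hj0
    have hR := descent hfour k (z5 G) (by rw [hsum5]; exact hG)
    have h2k : ((2 : F) ^ k) ≠ 0 := pow_ne_zero _ S.two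
    have h := squares_eq hs hn hR (T := {⟨0, by omega⟩, ⟨1, by omega⟩, ⟨2, by omega⟩, ⟨3, by omega⟩})
      (supp_subset_iff.2 fun m hm => ?_) (Finset.card_eq_four.2 ⟨_, _, _, _, by simp [Fin.ext_iff], by simp [Fin.ext_iff],
        by simp [Fin.ext_iff], by simp [Fin.ext_iff], by simp [Fin.ext_iff], by simp [Fin.ext_iff], rfl⟩)
      (i := ⟨i, by omega⟩) (j := ⟨j, by omega⟩)
      (by simp [z5, show i < 5 by omega, hi0, h2k]) (by simp [z5, show j < 5 by omega, hj0, h2k])
    · simp only [z5, show i < 5 by omega, show j < 5 by omega, if_true] at h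
      field_simp at h
      linear_combination h
    · simp only [Finset.mem_insert, Finset.mem_singleton, Fin.ext_iff, not_or] at hm
      by_cases hm5 : m.val < 5
      · have : m.val = 4 := by omega
        simp [z5, this, h4]
      · simp [z5, hm5]
  have hp2 : p ≠ 2 := fun e => S.two (by
    have h0 := CharP.cast_eq_zero F p
    rw [e] at h0
    exact_mod_cast h0)
  by_cases h5 : p = 5
  · have h50 : (5 : F) = 0 := by
      have h0 := CharP.cast_eq_zero F p
      rw [h5] at h0
      exact_mod_cast h0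
    have hne : ∀ m : ℕ, 0 < m → m < 5 → (m : F) ≠ 0 := fun m h0 hm => hnum m (by
      rw [h5]; exact fun hd => absurd (Nat.le_of_dvd h0 hd) (by omega))
    have h := hcons 3 (fun i => if i = 0 then 3 else if i = 1 then 2 else if i = 2 then 1 else 5) (by decide)
      (by simp [h50]) 0 2 (by omega) (by omega) (by simpa using hne 3 (by omega) (by omega)) (by simp)
    simp at h
    exact hne 3 (by omega) (by omega) (by push_cast; linear_combination h - h50)
  by_cases h7 : p = 7
  · have h70 : (7 : F) = 0 := by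
      have h0 := CharP.cast_eq_zero F p
      rw [h7] at h0
      exact_mod_cast h0
    have hne : ∀ m : ℕ, 0 < m → m < 7 → (m : F) ≠ 0 := fun m h0 hm => hnum m (by
      rw [h7]; exact fun hd => absurd (Nat.le_of_dvd h0 hd) (by omega))
    -- the five squares of 7, 11, 6, 1, 7
    have h := hcons 4 (fun i => if i = 0 then 11 else if i = 1 then 6 else if i = 2 then 1 else 7) (by decide)
      (by simp [h70]) 0 2 (by omega) (by omega)
      (by have h11 := hnum 11 (by rw [h7]; decide); simpa using h11) (by simp)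
    simp at h
    exact hne 1 (by omega) (by omega) (by push_cast; linear_combination h - 17 * h70)
  have hp11 : 11 ≤ p := by
    have h2le := hp.two_le
    by_contra hlt
    push Not at hlt
    interval_cases p <;> first | omega | norm_num at hp
  have hcop : Nat.Coprime p 5 := (Nat.coprime_primes hp Nat.prime_five).2 h5
  set k := 5 * p with hk
  obtain ⟨l, hl, hl'⟩ : ∃ l < 5, p * l % 5 = 2 ^ k % 5 := by
    obtain ⟨u, hu⟩ := Nat.exists_mul_mod_eq_one_of_coprime hcop (by norm_num)
    refine ⟨u * 2 ^ k % 5, Nat.mod_lt _ (by norm_num), ?_⟩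
    rw [Nat.mul_mod_mod, ← mul_assoc, Nat.mul_mod, hu.2, one_mul, Nat.mod_mod]
  have hle : p * l * (p * l) ≤ 4 ^ k := by
    rw [show (4 : ℕ) ^ k = 2 ^ k * 2 ^ k by rw [← mul_pow]; norm_num]
    have h1 : p * l ≤ 2 ^ k := (le_trans (by rw [hk, mul_comm 5 p]; exact Nat.mul_le_mul_left p hl.le)
      (Nat.lt_pow_self (a := 2) (by norm_num)).le)
    exact Nat.mul_le_mul h1 h1
  obtain ⟨M, hM⟩ : 5 ∣ 4 ^ k - p * l * (p * l) := by
    refine (Nat.modEq_iff_dvd' hle).1 ?_
    have h1 : p * l ≡ 2 ^ k [MOD 5] := hl'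
    have := h1.mul h1
    rwa [← mul_pow, show 2 * 2 = 4 from rfl] at this
  obtain ⟨A, B', C, E, hABCE⟩ := Nat.sum_four_squares M
  have hNZ : ((4 : ℤ) ^ k) = p * l * (p * l) + 5 * ((A : ℤ) ^ 2 + B' ^ 2 + C ^ 2 + E ^ 2) := by
    have := Nat.add_sub_cancel' hle
    rw [hM, ← hABCE] at this
    exact_mod_cast this.symm
  have hp0 : (p : F) = 0 := CharP.cast_eq_zero F p
  have hG : ∀ e : ℤ, e * e = 1 →
      (2 * (A : F) - e * B' = 0 ∨ (A : F) + 2 * e * B' = 0 ∨
        (2 * (A : F) - e * B') * (2 * A - e * B') = ((A : F) + 2 * e * B') * (A + 2 * e * B')) ∧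
      (2 * (C : F) - e * E = 0 ∨ (C : F) + 2 * e * E = 0 ∨
        (2 * (C : F) - e * E) * (2 * C - e * E) = ((C : F) + 2 * e * E) * (C + 2 * e * E)) := by
    intro e he
    set G : ℕ → ℤ := fun i => if i = 0 then 2 * A - e * B' else if i = 1 then A + 2 * e * B' else
      if i = 2 then 2 * C - e * E else if i = 3 then C + 2 * e * E else p * l with hGdef
    have hsum : G 0 * G 0 + G 1 * G 1 + G 2 * G 2 + G 3 * G 3 + G 4 * G 4 = 4 ^ k := by
      simp [hGdef]
      linear_combination 5 * ((B' : ℤ) * B' + E * E) * he - hNZ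
    have h := hcons k G hsum (by simp [hGdef, hp0])
    have h0 : (G 0 : F) = 2 * A - e * B' := by simp [hGdef]
    have h1 : (G 1 : F) = A + 2 * e * B' := by simp [hGdef]
    have h2 : (G 2 : F) = 2 * C - e * E := by simp [hGdef]
    have h3' : (G 3 : F) = C + 2 * e * E := by simp [hGdef]
    constructor
    · by_contra hcon
      push Not at hcon
      have hh := h 0 1 (by omega) (by omega) (by rw [h0]; exact hcon.1) (by rw [h1]; exact hcon.2.1)
      rw [h0, h1] at hh
      exact hcon.2.2 hh
    · by_contra hcon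
      push Not at hcon
      have hh := h 2 3 (by omega) (by omega) (by rw [h2]; exact hcon.1) (by rw [h3']; exact hcon.2.1)
      rw [h2, h3'] at hh
      exact hcon.2.2 hh
  have hn3 : (3 : F) ≠ 0 := by
    have := hnum 3 fun hd => by have := Nat.le_of_dvd (by norm_num) hd; omega
    exact_mod_cast this
  have hn7 : (7 : F) ≠ 0 := by
    have := hnum 7 fun hd => by have := Nat.le_of_dvd (by norm_num) hd; omega
    exact_mod_cast this
  obtain ⟨ea, ec⟩ := hG 1 (by norm_num)
  obtain ⟨ea', ec'⟩ := hG (-1) (by norm_num)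
  simp only [Int.cast_one, Int.cast_neg, one_mul, mul_one, neg_one_mul, mul_neg, neg_mul, sub_neg_eq_add,
    ← sub_eq_add_neg] at ea ec ea' ec'
  obtain ⟨a0, b0⟩ := pair_zero S.two hn3 hn7 ea ea'
  obtain ⟨c0, e0⟩ := pair_zero S.two hn3 hn7 ec ec'
  refine pow_ne_zero k (mul_ne_zero S.two S.two) ?_
  have h := congrArg (Int.cast : ℤ → F) hNZ
  push_cast at h
  rw [a0, b0, c0, e0, hp0] at h
  linear_combination h

end Setup

end Cfsg.Agent.Forms.Max.UnitFrame
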