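import Cfsg.Agent.Lib.Forms.Max.UnitFrame.Klein
import Cfsg.Agent.Lib.Forms.Max.UnitFrame.Supp

/-!
# Root elements among three frame vectors

A member with at most three non-zero coordinates gives a root element of the three coordinate vectors in the
subgroup, and then every vector of norm one among them is a member.
-/

set_option autoImplicit false
set_option linter.unusedSectionVars false

namespace Cfsg.Agent.Forms.Max.UnitFrame

open Matrix Cfsg.Agent.Forms.QuadStd Cfsg.Agent.Forms.Reflections Cfsg.Agent.Classical.Orth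

variable {F : Type*} [Field F] [Fintype F] {ι : Type} [Fintype ι] [DecidableEq ι] {n : ℕ}
variable {Q : QuadraticForm F (ι → F)} {S : Setup Q n}

set_option quotPrecheck false in
local notation "Iso" => Cfsg.isometryGroup F ⇑Q

/-- every element of a prime field is a multiple of one -/
theorem natCast_surj (hp : (Fintype.card F).Prime) (t : F) : ∃ k : ℕ, (k : F) = t := by
  have : Fact (Fintype.card F).Prime := ⟨hp⟩
  have : CharP F (Fintype.card F) := charP_of_card_eq_prime rfl
  obtain ⟨k, hk⟩ := ((Fintype.bijective_iff_injective_and_card _).2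
    ⟨(ZMod.castHom (dvd_refl (Fintype.card F)) F).injective, by rw [ZMod.card]⟩).2 t
  exact ⟨k.val, by rw [← hk, ZMod.castHom_apply, ZMod.natCast_val]⟩

/-- the vector product of two vectors of three coordinates -/
def crossT (a b c : Fin n) (z f : Fin n → F) : Fin n → F :=
  (z b * f c - z c * f b) • Pi.single a 1 + (z c * f a - z a * f c) • Pi.single b 1 +
    (z a * f b - z b * f a) • Pi.single c 1

section Coordinates

variable {a b c : Fin n}

theorem dot_three (hab : a ≠ b) (hac : a ≠ c) (hbc : b ≠ c) {x : Fin n → F} (hx : x ∈ InS F {a, b, c})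
    (y : Fin n → F) : dot x y = x a * y a + x b * y b + x c * y c := by
  rw [dot_eq_sum_of_subset (supp_subset_iff.2 hx), Finset.sum_insert (by simp [hab, hac]),
    Finset.sum_pair hbc]
  ring

theorem crossT_mem (z f : Fin n → F) : crossT a b c z f ∈ InS F ({a, b, c} : Finset (Fin n)) :=
  Submodule.add_mem _ (Submodule.add_mem _ (Submodule.smul_mem _ _ (single_mem_InS (by simp)))
    (Submodule.smul_mem _ _ (single_mem_InS (by simp)))) (Submodule.smul_mem _ _ (single_mem_InS (by simp)))

theorem crossT_apply (hab : a ≠ b) (hac : a ≠ c) (hbc : b ≠ c) (z f : Fin n → F) :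
    crossT a b c z f a = z b * f c - z c * f b ∧ crossT a b c z f b = z c * f a - z a * f c ∧
      crossT a b c z f c = z a * f b - z b * f a := by
  refine ⟨?_, ?_, ?_⟩ <;> simp [crossT, hab, hac, hbc, hab.symm, hac.symm, hbc.symm]

variable {z f : Fin n → F}

theorem crossT_props (hab : a ≠ b) (hac : a ≠ c) (hbc : b ≠ c) (hz : z ∈ InS F {a, b, c})
    (hf : f ∈ InS F {a, b, c}) (hzz : dot z z = 0) (hzf : dot z f = 1) (hff : dot f f = 0) :
    dot z (crossT a b c z f) = 0 ∧ dot f (crossT a b c z f) = 0 ∧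
      dot (crossT a b c z f) (crossT a b c z f) = -1 := by
  obtain ⟨e1, e2, e3⟩ := crossT_apply hab hac hbc z f
  rw [dot_three hab hac hbc hz] at hzz hzf ⊢
  rw [dot_three hab hac hbc hf] at hff ⊢
  rw [dot_three hab hac hbc (crossT_mem z f), e1, e2, e3]
  refine ⟨by ring, by ring, ?_⟩
  linear_combination (f a * f a + f b * f b + f c * f c) * hzz - (z a * f a + z b * f b + z c * f c + 1) * hzf

theorem decomp3 (hab : a ≠ b) (hac : a ≠ c) (hbc : b ≠ c) (hz : z ∈ InS F {a, b, c})
    (hf : f ∈ InS F {a, b, c}) (hzz : dot z z = 0) (hzf : dot z f = 1) (hff : dot f f = 0)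
    {y : Fin n → F} (hy : y ∈ InS F {a, b, c}) :
    y = dot f y • z + dot z y • f - dot (crossT a b c z f) y • crossT a b c z f := by
  obtain ⟨e1, e2, e3⟩ := crossT_apply hab hac hbc z f
  funext i
  simp only [Pi.add_apply, Pi.sub_apply, Pi.smul_apply, smul_eq_mul]
  rw [dot_three hab hac hbc hf y, dot_three hab hac hbc hz y, dot_three hab hac hbc (crossT_mem z f) y, e1, e2, e3]
  rw [dot_three hab hac hbc hz] at hzz hzf
  rw [dot_three hab hac hbc hf] at hff
  set fy := f a * y a + f b * y b + f c * y c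
  set zy := z a * y a + z b * y b + z c * y c
  set G := f a * f a + f b * f b + f c * f c
  set H := z a * f a + z b * f b + z c * f c with hH
  by_cases hia : i = a
  · subst hia
    rw [e1]
    linear_combination (G * y i - f i * fy) * hzz + (-(z i * zy)) * hff +
      (-(H + 1) * y i + f i * zy + z i * fy) * hzf
  by_cases hib : i = b
  · subst hib
    rw [e2]
    linear_combination (G * y i - f i * fy) * hzz + (-(z i * zy)) * hff +
      (-(H + 1) * y i + f i * zy + z i * fy) * hzf
  by_cases hic : i = c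
  · subst hic
    rw [e3]
    linear_combination (G * y i - f i * fy) * hzz + (-(z i * zy)) * hff +
      (-(H + 1) * y i + f i * zy + z i * fy) * hzf
  have hi : i ∉ ({a, b, c} : Finset (Fin n)) := by simp [hia, hib, hic]
  rw [hy i hi, hz i hi, hf i hi, crossT_mem z f i hi]
  ring

end Coordinates

namespace Setup

theorem Rot.comm_T {T : Finset (Fin n)} {h : Iso} (hh : h ∈ S.Rot T) : h * S.eps T = S.eps T * h := by
  refine S.ext_e fun i => ?_
  rw [act_mul, act_mul, act_eps]
  by_cases hi : i ∈ T
  · rw [if_pos hi, map_neg, act_e, ← vec_img]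
    rw [show S.img (S.eps T) (S.img h (Pi.single i 1)) = -S.img h (Pi.single i 1) from
      S.img_eps_eq_neg.2 (Rot.img_mem hh (single_mem_InS hi)), map_neg]
  · rw [if_neg hi, hh.1 i hi, act_eps, if_neg hi]

theorem not_mon_r {x : Fin n → F} (hx : dot x x = 1) (hN : Nontriv x) : ¬ S.Mon (S.r x) := by
  intro hm
  have key : ∀ a b, a ≠ b → x a ≠ 0 → x b ≠ 0 → 2 * (x a * x a) = 1 ∧ ∀ c, c ≠ a → c ≠ b → x c = 0 := by
    intro a b hab ha hb
    obtain ⟨j, t, hj⟩ := S.mon_iff.1 hm a
    rw [S.img_r hx, rf, dot_single'] at hj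
    have hjb : j = b := by
      by_contra hne
      have := congrFun hj b
      simp [hab.symm, Ne.symm hne, S.two, ha, hb] at this
    subst hjb
    refine ⟨?_, fun c hca hcb => ?_⟩
    · have := congrFun hj a
      simp [hab] at this
      linear_combination -this
    · have := congrFun hj c
      simpa [hca, hcb, S.two, ha] using this
  rcases hN with h3 | ⟨a, b, ha, hb, hne⟩
  · obtain ⟨a, ha, b, hb, hab⟩ := Finset.one_lt_card.1 (show 1 < (supp x).card by omega)
    obtain ⟨c, hc⟩ := Finset.card_pos.1 (show 0 < (((supp x).erase a).erase b).card by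
      rw [Finset.card_erase_of_mem (Finset.mem_erase.2 ⟨hab.symm, hb⟩), Finset.card_erase_of_mem ha]; omega)
    simp only [Finset.mem_erase] at hc
    exact mem_supp.1 hc.2.2 ((key a b hab (mem_supp.1 ha) (mem_supp.1 hb)).2 c hc.2.1 hc.1)
  · have hab : a ≠ b := fun e => hne (by rw [e])
    exact hne (mul_left_cancel₀ S.two ((key a b hab ha hb).1.trans (key b a hab.symm hb ha).1.symm))

variable {a b c : Fin n}

/-- root elements from a non-trivial member among three frame vectors -/
theorem exists_root (hp : (Fintype.card F).Prime) (hab : a ≠ b) (hac : a ≠ c) (hbc : b ≠ c) {x : Fin n → F}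
    (hx : S.R0 x) (hxT : x ∈ InS F {a, b, c}) (hN : Nontriv x) :
    ∃ z f : Fin n → F, z ∈ InS F {a, b, c} ∧ f ∈ InS F {a, b, c} ∧ ∃ hz : dot z z = 0, dot z f = 1 ∧ dot f f = 0 ∧
      ∀ w ∈ InS F {a, b, c}, ∀ hzw : dot z w = 0, S.eichC hz hzw ∈ S.M := by
  classical
  set T : Finset (Fin n) := {a, b, c} with hT
  have hTc : T.card = 3 := Finset.card_eq_three.2 ⟨a, b, c, hab, hac, hbc, rfl⟩
  obtain ⟨d, hd, e, he, hde⟩ := Finset.one_lt_card.1 (show 1 < Tᶜ.card by
    rw [Finset.card_compl, Fintype.card_fin, hTc]; have := S.five; omega)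
  rw [Finset.mem_compl] at hd he
  set K := S.M ⊓ S.Rot T with hK
  have hpair : ∀ i j, i ∈ T → j ∈ T → i ≠ j → S.eps {i, j} ∈ K := fun i j hi hj hij => by
    refine ⟨S.eps_mem (by rw [Finset.card_pair hij]; exact even_two), fun m hm => ?_, ?_⟩
    · rw [act_eps, if_neg]; simp; exact ⟨fun e => hm (e ▸ hi), fun e => hm (e ▸ hj)⟩
    · rw [S.par_eps, Finset.card_pair hij]; rfl
  set σ' := S.perm (Equiv.swap a b) * S.eps T with hσ'
  have hswT : ∀ i, i ∉ T → Equiv.swap a b i = i := fun i hi => by
    simp [hT] at hi; exact Equiv.swap_apply_of_ne_of_ne hi.1 hi.2.1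
  have hσR : σ' ∈ S.Rot T := by
    refine ⟨fun i hi => ?_, ?_⟩
    · rw [hσ', act_mul, act_eps, if_neg hi, act_perm, hswT i hi]
    · rw [hσ', S.par_hom, S.par_perm, Equiv.Perm.sign_swap hab, S.par_eps, hTc]; rfl
  have hσ2 : σ' * σ' = 1 := by
    have h1 := perm_comm_eps (S := S) hswT
    rw [hσ']
    calc S.perm (Equiv.swap a b) * S.eps T * (S.perm (Equiv.swap a b) * S.eps T)
        = S.perm (Equiv.swap a b) * S.eps T * (S.eps T * S.perm (Equiv.swap a b)) := by rw [h1]
      _ = S.perm (Equiv.swap a b) * (S.eps T * S.eps T) * S.perm (Equiv.swap a b) := by group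
      _ = 1 := by rw [eps_sq, mul_one, ← perm_mul, Equiv.swap_mul_self, perm_one]
  have hσi : σ'⁻¹ = σ' := inv_eq_of_mul_eq_one_left hσ2
  set g := S.perm (Equiv.swap a b * Equiv.swap d e) with hg
  have hgM : g ∈ S.M := S.perm_mem (by
    rw [map_mul, Equiv.Perm.sign_swap hab, Equiv.Perm.sign_swap hde, Int.units_mul_self])
  have hnorm : ∀ k ∈ K, σ' * k * σ' ∈ K := by
    rintro k ⟨hkM, hkR⟩
    refine ⟨?_, mul_mem (mul_mem hσR hkR) hσR⟩
    have hcde : S.perm (Equiv.swap d e) * k = k * S.perm (Equiv.swap d e) := by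
      refine S.ext_e fun i => ?_
      rw [act_mul, act_mul, act_perm]
      by_cases hi : i ∈ T
      · rw [Equiv.swap_apply_of_ne_of_ne (fun e' : i = d => hd (e' ▸ hi)) (fun e' : i = e => he (e' ▸ hi)),
          act_e, ← vec_img]
        congr 1
        funext m
        rw [img_perm]
        by_cases hm : m = d
        · subst hm
          rw [Equiv.symm_swap, Equiv.swap_apply_left, Rot.zero_out hkR he, Rot.zero_out hkR hd,
            Pi.single_eq_of_ne (fun e' : e = i => he (e' ▸ hi)), Pi.single_eq_of_ne (fun e' : m = i => hd (e' ▸ hi))]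
        by_cases hm' : m = e
        · subst hm'
          rw [Equiv.symm_swap, Equiv.swap_apply_right, Rot.zero_out hkR he, Rot.zero_out hkR hd,
            Pi.single_eq_of_ne (fun e' : m = i => he (e' ▸ hi)), Pi.single_eq_of_ne (fun e' : d = i => hd (e' ▸ hi))]
        rw [Equiv.symm_swap, Equiv.swap_apply_of_ne_of_ne hm hm']
      · have hi' : Equiv.swap d e i ∉ T := by
          rcases eq_or_ne i d with rfl | h1
          · rwa [Equiv.swap_apply_left]
          rcases eq_or_ne i e with rfl | h2
          · rwa [Equiv.swap_apply_right]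
          rwa [Equiv.swap_apply_of_ne_of_ne h1 h2]
        rw [hkR.1 i hi, hkR.1 _ hi', act_perm]
    have e1 : σ' * k * σ' = g * k * g⁻¹ := by
      rw [hg, S.perm_mul]
      calc σ' * k * σ' = S.perm (Equiv.swap a b) * (S.eps T * k * S.eps T) * S.perm (Equiv.swap a b) := by
            conv_lhs => arg 2; rw [hσ', perm_comm_eps (S := S) hswT]
            rw [hσ']; group
        _ = S.perm (Equiv.swap a b) * k * S.perm (Equiv.swap a b) := by
            rw [← Rot.comm_T hkR, mul_assoc k, eps_sq, mul_one]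
        _ = S.perm (Equiv.swap a b) * S.perm (Equiv.swap d e) * k *
            (S.perm (Equiv.swap a b) * S.perm (Equiv.swap d e))⁻¹ := by
            have hi : (S.perm (Equiv.swap a b))⁻¹ = S.perm (Equiv.swap a b) :=
              inv_eq_of_mul_eq_one_left (by rw [← perm_mul, Equiv.swap_mul_self, perm_one])
            rw [_root_.mul_inv_rev, mul_assoc (S.perm (Equiv.swap a b)) (S.perm (Equiv.swap d e)) k, hcde, hi]
            group
    rw [e1]
    show g * k * g⁻¹ ∈ S.M
    exact mul_mem (mul_mem hgM hkM) (inv_mem hgM)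
  let Y : Subgroup Iso :=
    { carrier := {y | y ∈ K ∨ y * σ' ∈ K}
      mul_mem' := fun {y y'} hy hy' => by
        rcases hy with hy | hy <;> rcases hy' with hy' | hy'
        · exact Or.inl (mul_mem hy hy')
        · exact Or.inr (by rw [mul_assoc]; exact mul_mem hy hy')
        · refine Or.inr ?_
          have := mul_mem hy (hnorm _ hy')
          rwa [show y * σ' * (σ' * y' * σ') = y * (σ' * σ') * y' * σ' by group, hσ2, mul_one] at this
        · refine Or.inl ?_
          have := mul_mem hy (hnorm _ hy')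
          rwa [show y * σ' * (σ' * (y' * σ') * σ') = y * (σ' * σ') * y' * (σ' * σ') by group, hσ2, mul_one,
            mul_one] at this
      one_mem' := Or.inl (one_mem K)
      inv_mem' := fun {y} hy => by
        rcases hy with hy | hy
        · exact Or.inl (inv_mem hy)
        · refine Or.inr ?_
          have h' := hnorm _ (inv_mem hy)
          rwa [_root_.mul_inv_rev, hσi, ← mul_assoc σ' σ', hσ2, one_mul] at h' }
  have hYR : Y ≤ S.Rot T := by
    intro y hy
    rcases hy with hy | hy
    · exact hy.2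
    · have := mul_mem hy.2 hσR
      rwa [mul_assoc, hσ2, mul_one] at this
  have : Fact (Fintype.card F).Prime := ⟨hp⟩
  have : CharP F (Fintype.card F) := charP_of_card_eq_prime rfl
  have hodd : Odd (Fintype.card F) := by
    rcases hp.eq_two_or_odd' with h | h
    · exact absurd (by have := CharP.cast_eq_zero F (Fintype.card F); rw [h] at this; exact_mod_cast this) S.two
    · exact h
  by_cases hroot : ∃ y ∈ Y, y ≠ 1 ∧ ∃ v ∈ S.fixT T y, dot v v = 0 ∧ v ≠ 0
  · obtain ⟨y, hyY, hy1, v, hv, hvv, hv0⟩ := hroot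
    obtain ⟨w, hwT, hvw, hyw⟩ := rot_eich (hYR hyY) hTc (mem_fixT.1 hv).2 hv0 hvv (mem_fixT.1 hv).1
    have hyK : y ∈ K := by
      rcases hyY with h | h
      · exact h
      have h2 : y * y ∈ K := by
        have := mul_mem h (hnorm _ h)
        rwa [show y * σ' * (σ' * (y * σ') * σ') = y * (σ' * σ') * y * (σ' * σ') by group, hσ2, mul_one,
          mul_one] at this
      obtain ⟨r, hr⟩ := hodd
      have hyp : y ^ (Fintype.card F) = 1 := by
        rw [hyw, eichC_pow]
        refine (eich_congr (by rw [CharP.cast_eq_zero, zero_smul, map_zero]) _ _).trans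
          (eich_zero_right _ (by rw [QuadraticMap.polar_zero_right]))
      have e' : y = (y * y) ^ (r + 1) := by
        rw [← pow_two, ← pow_mul, show 2 * (r + 1) = Fintype.card F + 1 by omega, pow_succ, hyp, one_mul]
      rw [e']
      exact pow_mem h2 _
    obtain ⟨f, hfT, hvf, hff⟩ := S.exists_partner (mem_fixT.1 hv).2 hv0 hvv
    refine ⟨v, f, (mem_fixT.1 hv).2, hfT, hvv, hvf, hff, fun w' hw'T hvw' => ?_⟩
    obtain ⟨h1, h2, h3⟩ := crossT_props hab hac hbc (mem_fixT.1 hv).2 hfT hvv hvf hff
    set w0 := crossT a b c v f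
    have hdec : ∀ u ∈ InS F T, dot v u = 0 → u = dot f u • v - dot w0 u • w0 := fun u hu huv => by
      conv_lhs => rw [decomp3 hab hac hbc (mem_fixT.1 hv).2 hfT hvv hvf hff hu]
      rw [huv, zero_smul, add_zero]
    set β := dot w0 w with hβ
    have hβ0 : β ≠ 0 := fun e0 => hy1 (by
      have hwe : w = dot f w • v := by
        conv_lhs => rw [hdec w hwT hvw]
        rw [← hβ, e0, zero_smul, sub_zero]
      rw [hyw, eichC]
      have h0 : QuadraticMap.polar Q (S.vec v) (0 + dot f w • S.vec v) = 0 := by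
        rw [zero_add, QuadraticMap.polar_smul_right, polar_self_zero (S.Q_vec_zero hvv), smul_zero]
      refine (eich_congr (show S.vec w = 0 + dot f w • S.vec v by
        rw [zero_add, ← map_smul]; exact congrArg _ hwe) _ _).trans
        ((eich_add_self _ _ (by rw [QuadraticMap.polar_zero_right]) h0).trans
          (eich_zero_right _ _)))
    obtain ⟨k, hk⟩ := natCast_surj hp (dot w0 w' / β)
    have hpow : S.eichC hvv hvw ^ k ∈ S.M := pow_mem (hyw ▸ hyK.1) k
    rw [eichC_pow, eichC] at hpow
    have hvw'' : QuadraticMap.polar Q (S.vec v) (S.vec ((k : F) • w)) = 0 :=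
      S.polar_vec_zero (by rw [dot_smul_right, hvw, mul_zero])
    have hsplit : S.vec w' = S.vec ((k : F) • w) + (dot f w' - (k : F) * dot f w) • S.vec v := by
      rw [← map_smul, ← map_add]
      congr 1
      conv_lhs => rw [hdec w' hw'T hvw']
      conv_rhs => arg 1; rw [hdec w hwT hvw]
      rw [← hβ, hk]
      have : dot w0 w' / β * β = dot w0 w' := div_mul_cancel₀ _ hβ0
      match_scalars <;> field_simp <;> ring
    rw [eichC]
    refine (eich_congr hsplit _ _).trans (eich_add_self _ _ hvw'' _) ▸ hpow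
  exfalso
  push Not at hroot
  have hyx : S.r x * S.eps T ∈ K := by
    refine ⟨?_, fun i hi => ?_, ?_⟩
    · have e1 : S.r x * S.eps T = S.r x * S.r (Pi.single d 1) * S.eps (insert d T) := by
        rw [r_single, mul_assoc, eps_mul]
        congr 2
        ext i
        by_cases hid : i = d
        · subst hid; simp [Finset.mem_symmDiff, hd]
        · simp [Finset.mem_symmDiff, hid]
      rw [e1]
      exact mul_mem (hx.2 d) (S.eps_mem (by rw [Finset.card_insert_of_notMem hd, hTc]; decide))
    · rw [act_mul, act_eps, if_neg hi, act_e, S.img_r hx.1, rf, dot_single', hxT i hi, mul_zero, zero_smul,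
        sub_zero, vec_single]
    · rw [S.par_hom, S.par_r hx.1, S.par_eps, hTc]; rfl
  have hmem : a ∈ T ∧ b ∈ T ∧ c ∈ T := by simp [hT]
  have hτT : ∀ i, i ∉ T → (Equiv.swap a b * Equiv.swap b c) i = i := fun i hi => by
    simp [hT] at hi
    rw [Equiv.Perm.mul_apply, Equiv.swap_apply_of_ne_of_ne hi.2.1 hi.2.2,
      Equiv.swap_apply_of_ne_of_ne hi.1 hi.2.1]
  have hτ1 : Equiv.Perm.sign (Equiv.swap a b * Equiv.swap b c) = 1 := by
    rw [map_mul, Equiv.Perm.sign_swap hab, Equiv.Perm.sign_swap hbc, Int.units_mul_self]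
  have hρ : σ' * S.eps {a, c} ∈ Y := by
    refine mul_mem (Or.inr ?_) (Or.inl (hpair a c hmem.1 hmem.2.2 hac))
    rw [hσ2]; exact one_mem K
  have himg : ∀ (σ : Equiv.Perm (Fin n)) i,
      S.img (S.perm σ) (Pi.single i 1) = Pi.single (σ i) 1 := fun σ i => by
    rw [img, vec_single, act_perm, co_e]
  have hepsneg : ∀ {A : Finset (Fin n)} {i}, i ∈ A → S.img (S.eps A) (Pi.single i 1) = -Pi.single i 1 :=
    fun {A i} hi => S.img_eps_eq_neg.2 fun m hm => Pi.single_eq_of_ne (fun e' : m = i => hm (e' ▸ hi)) 1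
  have hepspos : ∀ {A : Finset (Fin n)} {i}, i ∉ A → S.img (S.eps A) (Pi.single i 1) = Pi.single i 1 :=
    fun {A i} hi => S.img_eps_eq_self.2 fun m hm => Pi.single_eq_of_ne (fun e' : m = i => hi (e' ▸ hm)) 1
  have hmon := triple_mon (S := S) hab hac hbc Y hYR
    (fun y hy hy1 v hv hvv => hroot y hy hy1 v hv hvv) (σ' * S.eps {a, c}) hρ
    (by rw [img_mul, hepsneg (by simp), hσ', img_mul, S.img_neg, hepsneg hmem.1, neg_neg, himg,
      Equiv.swap_apply_left])
    (by rw [img_mul, hepspos (by simp [hab.symm, hbc]), hσ', img_mul, hepsneg hmem.2.1, S.img_neg, himg,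
      Equiv.swap_apply_right])
    (by rw [img_mul, hepsneg (by simp), hσ', img_mul, S.img_neg, hepsneg hmem.2.2, neg_neg, himg,
      Equiv.swap_apply_of_ne_of_ne hac.symm hbc.symm])
    (S.perm (Equiv.swap a b * Equiv.swap b c))
    (Or.inl ⟨S.perm_mem hτ1, fun i hi => by rw [act_perm, hτT i hi], by rw [S.par_perm, hτ1]⟩)
    (by rw [himg, Equiv.Perm.mul_apply, Equiv.swap_apply_of_ne_of_ne hab hac, Equiv.swap_apply_left])
    (by rw [himg, Equiv.Perm.mul_apply, Equiv.swap_apply_right, Equiv.swap_apply_right])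
    (Or.inl (hpair b c hmem.2.1 hmem.2.2 hbc)) _ (Or.inl hyx)
  have := hmon.mul (S.eps_mon T)
  rw [mul_assoc, eps_sq, mul_one] at this
  exact not_mon_r hx.1 hN this

/-- a set of unit vectors among three frame vectors closed under the symmetries is everything -/
theorem all_units (hp : (Fintype.card F).Prime) (hab : a ≠ b) (hac : a ≠ c) (hbc : b ≠ c)
    (R : (Fin n → F) → Prop) (hR : ∀ x, R x → x ∈ InS F {a, b, c} ∧ dot x x = 1) (ha : R (Pi.single a 1))
    (hcyc : ∀ x, R x → R fun i => x ((Equiv.swap a b * Equiv.swap b c).symm i))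
    (hflip : ∀ x, R x → ∀ i ∈ ({a, b, c} : Finset (Fin n)), R (Function.update x i (-x i)))
    (hrf : ∀ x y, R x → R y → R (rf x y))
    {z f : Fin n → F} (hz : z ∈ InS F {a, b, c}) (hf : f ∈ InS F {a, b, c}) (hzz : dot z z = 0)
    (hzf : dot z f = 1) (hff : dot f f = 0)
    (hu : ∀ w ∈ InS F {a, b, c}, ∀ hzw : dot z w = 0, ∀ x, R x → R (S.img (S.eichC hzz hzw) x)) :
    ∀ x ∈ InS F {a, b, c}, dot x x = 1 → R x := by
  classical
  set T : Finset (Fin n) := {a, b, c} with hT
  set τ := Equiv.swap a b * Equiv.swap b c with hτ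
  have hτv : τ a = b ∧ τ b = c ∧ τ c = a := by
    refine ⟨?_, ?_, ?_⟩
    · rw [hτ, Equiv.Perm.mul_apply, Equiv.swap_apply_of_ne_of_ne hab hac, Equiv.swap_apply_left]
    · rw [hτ, Equiv.Perm.mul_apply, Equiv.swap_apply_left, Equiv.swap_apply_of_ne_of_ne hac.symm hbc.symm]
    · rw [hτ, Equiv.Perm.mul_apply, Equiv.swap_apply_right, Equiv.swap_apply_right]
  have hsingle : ∀ i, R (Pi.single i 1) → R (Pi.single (τ i) 1) := fun i hi => by
    convert hcyc _ hi using 1
    funext m
    simp [Pi.single_apply, Equiv.symm_apply_eq]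
  have hsing : R (Pi.single a 1) ∧ R (Pi.single b 1) ∧ R (Pi.single c 1) := by
    have hb := hsingle a ha
    rw [hτv.1] at hb
    have hc := hsingle b hb
    rw [hτv.2.1] at hc
    exact ⟨ha, hb, hc⟩
  have hneg : ∀ x, R x → R (-x) := fun x hx => rf_self (hR x hx).2 ▸ hrf x x hx hx
  -- whole levels
  have hlevel : ∀ x y, R x → y ∈ InS F T → dot y y = 1 → dot z x ≠ 0 → dot z y = dot z x → R y := by
    intro x y hx hy hy1 hl hzy
    obtain ⟨hxT, hx1⟩ := hR x hx
    have hzd : dot z ((2 * S.c * dot z x)⁻¹ • (y - x)) = 0 := by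
      rw [dot_smul_right, dot_sub_right, hzy, sub_self, mul_zero]
    have := hu _ (Submodule.smul_mem _ _ (Submodule.sub_mem _ hy hxT)) hzd x hx
    rw [act_eichC] at this
    convert this using 1
    have h2c := S.two_c
    have h2 := S.two
    have hc := S.c_ne
    simp only [dot_smul_left, dot_smul_right, dot_sub_left, dot_sub_right, smul_smul, hx1, hy1, dot_comm y x,
      dot_comm x z]
    match_scalars <;> field_simp <;> ring
  set L : F → Prop := fun t => ∃ x, R x ∧ dot z x = t ∧ t ≠ 0 with hL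
  obtain ⟨h1, h2, h3⟩ := crossT_props hab hac hbc hz hf hzz hzf hff
  set w0 := crossT a b c z f with hw0
  have hmul : ∀ γ t : F, L t → 1 + γ * γ ≠ 0 → L ((1 + γ * γ) * t) := by
    rintro γ t ⟨x, hx, hxt, ht⟩ hγ
    have h22 := S.two
    have hpt : ∀ δ : F, ∃ v ∈ InS F T, v = ((1 + δ * δ) / (2 * t)) • z + t • f + δ • w0 ∧
        dot v v = 1 ∧ dot z v = t := fun δ => by
      refine ⟨_, Submodule.add_mem _ (Submodule.add_mem _ (Submodule.smul_mem _ _ hz) (Submodule.smul_mem _ _ hf))
        (Submodule.smul_mem _ _ (crossT_mem z f)), rfl, ?_, ?_⟩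
      · simp only [dot_add_left, dot_add_right, dot_smul_left, dot_smul_right]
        rw [dot_comm f z, dot_comm w0 z, dot_comm w0 f, hzz, hzf, hff, h1, h2, h3]
        field_simp
        ring
      · simp only [dot_add_right, dot_smul_right]
        rw [hzz, hzf, h1]
        ring
    obtain ⟨u, huT, hue, hu1, huz⟩ := hpt 0
    obtain ⟨v, hvT, hve, hv1, hvz⟩ := hpt γ
    have hRu := hlevel x u hx huT hu1 (hxt.symm ▸ ht) (huz.trans hxt.symm)
    have hRv := hlevel x v hx hvT hv1 (hxt.symm ▸ ht) (hvz.trans hxt.symm)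
    refine ⟨_, hneg _ (hrf u v hRu hRv), ?_, mul_ne_zero hγ ht⟩
    have huv : 2 * dot u v = 2 + γ * γ := by
      rw [hue, hve]
      simp only [dot_add_left, dot_add_right, dot_smul_left, dot_smul_right]
      rw [dot_comm f z, dot_comm w0 z, dot_comm w0 f, hzz, hzf, hff, h1, h2, h3]
      field_simp
      ring
    rw [← neg_one_smul F (rf u v), dot_smul_right, rf, dot_sub_right, dot_smul_right, huz, hvz, huv]
    ring
  have hL1 : ∀ (u : Fˣ), ∀ t, L t → L ((u : F) * t) := by
    let H : Subgroup Fˣ :=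
      { carrier := {u | ∀ t, L t → L ((u : F) * t)}
        mul_mem' := fun {u v} hu hv t ht => by rw [Units.val_mul, mul_assoc]; exact hu _ (hv t ht)
        one_mem' := fun t ht => by rw [Units.val_one, one_mul]; exact ht
        inv_mem' := fun {u} hu t ht => by
          have hpow : ∀ k : ℕ, L (((u ^ k : Fˣ) : F) * t) := fun k => by
            induction k with
            | zero => rw [pow_zero, Units.val_one, one_mul]; exact ht
            | succ k ih => rw [pow_succ', Units.val_mul, mul_assoc]; exact hu _ ih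
          have hinv : u⁻¹ = u ^ (orderOf u - 1) := inv_eq_of_mul_eq_one_right (by
            rw [← pow_succ', Nat.sub_add_cancel (orderOf_pos u), pow_orderOf_eq_one])
          rw [hinv]
          exact hpow _ }
    suffices H = ⊤ from fun u => (this ▸ Subgroup.mem_top u : u ∈ H)
    let gen : Finset F := (Finset.univ.image fun γ : F => 1 + γ * γ).erase 0
    have hgen : ∀ s ∈ gen, ∀ hs : s ≠ 0, Units.mk0 s hs ∈ H := by
      intro s hs hs0 t ht
      obtain ⟨γ, -, rfl⟩ := Finset.mem_image.1 (Finset.mem_of_mem_erase hs)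
      exact hmul γ t ht hs0
    have hsq : Fintype.card F ≤ 2 * (Finset.univ.image fun γ : F => 1 + γ * γ).card := by
      rw [← Finset.card_univ]
      refine Finset.card_le_mul_card_image _ 2 fun y hy => ?_
      obtain ⟨γ, -, rfl⟩ := Finset.mem_image.1 hy
      refine (Finset.card_le_card (t := {γ, -γ}) fun δ hδ => ?_).trans Finset.card_le_two
      simp only [Finset.mem_filter, Finset.mem_univ, true_and, add_right_inj] at hδ
      rcases mul_self_eq_mul_self_iff.1 hδ with rfl | rfl <;> simp
    have hcard : Fintype.card F ≤ 2 * (Nat.card H + 1) := by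
      refine hsq.trans (Nat.mul_le_mul_left 2 ?_)
      have h1 := Finset.pred_card_le_card_erase (a := (0 : F)) (s := Finset.univ.image fun γ : F => 1 + γ * γ)
      have h2 : gen.card ≤ Nat.card H := by
        rw [Nat.card_eq_fintype_card, ← Fintype.card_coe]
        refine Fintype.card_le_of_injective (fun s => ⟨Units.mk0 s.1 (Finset.ne_of_mem_erase s.2), hgen _ s.2 _⟩)
          fun s s' h => Subtype.ext ?_
        exact congrArg (fun q : H => ((q.1 : Fˣ) : F)) h
      simp only [gen] at h2
      omega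
    have hind : H.index ≤ 2 := by
      have h := Subgroup.index_mul_card H
      rw [Nat.card_units] at h
      simp only [Nat.card_eq_fintype_card (α := F)] at h
      by_contra hc
      have h3 : 3 * Nat.card H ≤ H.index * Nat.card H := Nat.mul_le_mul_right _ (by omega)
      have : 0 < Nat.card H := Nat.card_pos
      have := Fintype.one_lt_card (α := F)
      rcases hp.eq_two_or_odd with h' | h' <;> omega
    rcases Nat.lt_or_ge H.index 2 with h | h
    · exact Subgroup.index_eq_one.1 (by have := Subgroup.index_ne_zero_of_finite (H := H); omega)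
    have hsqmem := fun u : Fˣ => Subgroup.sq_mem_of_index_two (H := H) (le_antisymm hind h) u
    obtain ⟨γ, hγ0, hγ⟩ : ∃ γ : F, 1 + γ * γ ≠ 0 ∧ ¬ IsSquare (1 + γ * γ) := by
      by_contra hc
      push Not at hc
      have hall : ∀ k : ℕ, IsSquare (k : F) := fun k => by
        induction k with
        | zero => exact ⟨0, by simp⟩
        | succ k ih =>
          obtain ⟨γ, hγ⟩ := ih
          rw [Nat.cast_succ, hγ, add_comm]
          by_cases h0 : 1 + γ * γ = 0
          · rw [h0]; exact ⟨0, by simp⟩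
          · exact hc γ h0
      obtain ⟨t, ht⟩ := FiniteField.exists_nonsquare (F := F) (by
        intro h2
        have := ringChar.Nat.cast_ringChar (R := F)
        rw [h2] at this
        exact S.two (by exact_mod_cast this))
      obtain ⟨k, rfl⟩ := natCast_surj hp t
      exact ht (hall k)
    rw [Subgroup.eq_top_iff']
    intro u
    have hγH : Units.mk0 _ hγ0 ∈ H := hgen _ (Finset.mem_erase.2 ⟨hγ0, Finset.mem_image.2 ⟨γ, Finset.mem_univ _, rfl⟩⟩) hγ0
    by_cases hu : IsSquare (u : F)
    · obtain ⟨r, hr⟩ := hu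
      have hr0 : r ≠ 0 := fun e => u.ne_zero (by rw [hr, e, mul_zero])
      have := hsqmem (Units.mk0 r hr0)
      rwa [show Units.mk0 r hr0 ^ 2 = u from Units.ext (by rw [pow_two, Units.val_mul, Units.val_mk0, hr])] at this
    · obtain ⟨r, hr⟩ := Bases.isSquare_mul_of_not hu hγ
      have hr0 : r ≠ 0 := fun e => mul_ne_zero u.ne_zero hγ0 (by rw [hr, e, mul_zero])
      have h' := mul_mem (hsqmem (Units.mk0 r hr0)) (inv_mem hγH)
      have e' : Units.mk0 r hr0 ^ 2 = u * Units.mk0 _ hγ0 :=
        Units.ext (by rw [pow_two, Units.val_mul, Units.val_mul, Units.val_mk0, Units.val_mk0, hr])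
      rwa [e', mul_inv_cancel_right] at h'
  -- the levels are all reached
  obtain ⟨i, hiR, hi⟩ : ∃ i, R (Pi.single i 1) ∧ z i ≠ 0 := by
    by_contra hc
    push Not at hc
    rw [dot_three hab hac hbc hz, hc a hsing.1, hc b hsing.2.1, hc c hsing.2.2] at hzf
    simp at hzf
  have hLi : L (z i) := ⟨_, hiR, dot_single' i z, hi⟩
  intro y hy hy1
  have hbig : ∀ y, y ∈ InS F T → dot y y = 1 → dot z y ≠ 0 → R y := by
    intro y hy hy1 hne
    have h' := hL1 (Units.mk0 (dot z y / z i) (div_ne_zero hne hi)) _ hLi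
    rw [Units.val_mk0, div_mul_cancel₀ _ hi] at h'
    obtain ⟨x, hx, hxt, -⟩ := h'
    exact hlevel x y hx hy hy1 (hxt.symm ▸ hne) hxt.symm
  by_cases hne : dot z y ≠ 0
  · exact hbig y hy hy1 hne
  rw [not_not] at hne
  -- move the singular vector
  have hflip' : ∀ j ∈ T, ∀ v ∈ InS F T, dot v v = 1 → dot z (Function.update v j (-v j)) ≠ 0 → R v := by
    intro j hj v hv hv1 hne'
    have hv' : Function.update v j (-v j) ∈ InS F T := fun m hm => by
      rw [Function.update_of_ne (fun e' : m = j => hm (e' ▸ hj))]; exact hv m hm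
    have h1' : dot (Function.update v j (-v j)) (Function.update v j (-v j)) = 1 := by
      rw [← hv1]
      refine Finset.sum_congr rfl fun m _ => ?_
      by_cases hm : m = j
      · subst hm; simp
      · simp [hm]
    have := hflip _ (hbig _ hv' h1' hne') j hj
    simpa using this
  have hj : ∀ v ∈ InS F T, dot v v = 1 → dot z v = 0 → ¬ R v → ∀ j ∈ T, z j * v j = 0 := by
    intro v hv hv1 hzv hnR j hj
    by_contra hne'
    refine hnR (hflip' j hj v hv hv1 ?_)
    have e : Function.update v j (-v j) = v - (2 * v j) • Pi.single j 1 := by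
      funext m
      by_cases hm : m = j
      · subst hm; simp; ring
      · simp [hm]
    rw [e, dot_sub_right, dot_smul_right, hzv, dot_single', zero_sub, neg_ne_zero, mul_assoc]
    exact mul_ne_zero S.two (by rw [mul_comm]; exact hne')
  by_contra hnR
  -- cycle the coordinates
  set y1 : Fin n → F := fun m => y (τ m) with hy1d
  set y2 : Fin n → F := fun m => y1 (τ m) with hy2d
  have hback : ∀ v : Fin n → F, R (fun m => v (τ m)) → R v := fun v hv => by
    convert hcyc _ hv using 1
    funext m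
    show v m = v (τ (τ.symm m))
    rw [Equiv.apply_symm_apply]
  have hτT : ∀ m, m ∉ T → τ m = m := fun m hm => by
    simp [hT] at hm
    rw [hτ, Equiv.Perm.mul_apply, Equiv.swap_apply_of_ne_of_ne hm.2.1 hm.2.2,
      Equiv.swap_apply_of_ne_of_ne hm.1 hm.2.1]
  have hprop : ∀ v, v ∈ InS F T → dot v v = 1 → ¬ R v →
      (fun m => v (τ m)) ∈ InS F T ∧ dot (fun m => v (τ m)) (fun m => v (τ m)) = 1 ∧ ¬ R (fun m => v (τ m)) := by
    intro v hv hv1 hn
    refine ⟨fun m hm => ?_, ?_, fun h => hn (hback v h)⟩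
    · show v (τ m) = 0
      rw [hτT m hm]; exact hv m hm
    · rw [← hv1]; exact Equiv.sum_comp τ fun m => v m * v m
  have hz0 : ∀ v, v ∈ InS F T → dot v v = 1 → ¬ R v → dot z v = 0 := fun v hv hv1 hn => by
    by_contra h; exact hn (hbig v hv hv1 h)
  obtain ⟨p1, p2, p3⟩ := hprop y hy hy1 hnR
  obtain ⟨q1, q2, q3⟩ := hprop y1 p1 p2 p3
  have hiT : i ∈ T := by by_contra h; exact hi (hz i h)
  have k0 := hj y hy hy1 hne hnR i hiT
  have k1 := hj y1 p1 p2 (hz0 _ p1 p2 p3) p3 i hiT
  have k2 := hj y2 q1 q2 (hz0 _ q1 q2 q3) q3 i hiT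
  simp only [mul_eq_zero, hi, false_or, hy1d, hy2d] at k0 k1 k2
  simp [hT] at hiT
  rw [dot_three hab hac hbc hy] at hy1
  rcases hiT with rfl | rfl | rfl <;> simp only [hτv.1, hτv.2.1, hτv.2.2] at k1 k2 <;>
    simp [k0, k1, k2] at hy1

end Setup

end Cfsg.Agent.Forms.Max.UnitFrame
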